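import Cfsg.Agent.Lib.Perm.Trans.TensorPowerSp.Plane

/-!
# The Casimir element is scalar when there are few commuting transvections
-/

set_option autoImplicit false
set_option linter.all false

namespace CfsgLib.Perm.Trans.TensorPowerSp

open scoped Matrix
open Matrix Cfsg.Geo CfsgLib.Perm.Asch CfsgLib.Perm.Trans CfsgLib.Perm.Trans.TensorPower CfsgLib.Perm.Dickson

universe u

variable {F : Type u} [Field F] [Fintype F] {ι : Type} [Fintype ι] [DecidableEq ι] {N Y : Matrix ι ι F}
  {hN : N * N = 0} {hY : Y * Y = 0}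

theorem exists_sq_ne_one1 (hq : 3 < Fintype.card F) : ∃ x : F, x ≠ 0 ∧ x * x ≠ 1 := by
  classical
  by_contra hcon
  push Not at hcon
  have hsub : (Finset.univ : Finset F) ⊆ {0, 1, -1} := fun x _ => by
    rcases eq_or_ne x 0 with rfl | hx
    · simp
    · rcases mul_self_eq_one_iff.1 (hcon x hx) with e | e <;> simp [e]
  have := (Finset.card_le_card hsub).trans Finset.card_le_three
  rw [Finset.card_univ] at this
  omega

/-- the Casimir element is scalar -/
theorem casimir_scalar (p : ℕ) [Fact p.Prime] [CharP F p] (h2 : (2 : F) ≠ 0) (hq : 3 < Fintype.card F) {l : F}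
    (hl : l ≠ 0) {k : ℕ} (hpoly : (N * Y + Y * N) ^ k * (N * Y + Y * N - l • 1) ^ k = 0)
    (hn : ¬ IsNilpotent (N * Y + Y * N)) (hfree : ∀ X : Matrix ι ι F, N * X = 0 → ∃ X', X = N * X')
    (hNs : ∀ z ∈ EG N Y hN hY, ∀ X : Matrix ι ι F, Commute X N → (z : Matrix ι ι F) = 1 + N * X →
      ∃ c : F, N * X = c • N)
    (hYs : ∀ z ∈ EG N Y hN hY, ∀ X : Matrix ι ι F, Commute X Y → (z : Matrix ι ι F) = 1 + Y * X →
      ∃ c : F, Y * X = c • Y) :
    ∃ c : F, N * Y + Y * N = c • 1 := by
  classical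
  haveI : Nonempty ι := by
    by_contra h
    rw [not_nonempty_iff] at h
    exact hn ⟨1, Subsingleton.elim _ _⟩
  have hC := cen_casimir hN hY
  set C := N * Y + Y * N with hCdef
  have cN : Commute C N := hC.1
  have cY : Commute C Y := hC.2
  have hN0 : N ≠ 0 := fun e => hn ⟨1, by rw [hCdef, e, zero_mul, mul_zero, add_zero, pow_one]⟩
  have hY0 : Y ≠ 0 := fun e => hn ⟨1, by rw [hCdef, e, zero_mul, mul_zero, add_zero, pow_one]⟩
  clear_value C
  have hYN : Y * N = C - N * Y := by rw [hCdef, add_sub_cancel_left]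
  have hNYN : N * Y * N = C * N := by rw [hCdef, add_mul, mul_assoc Y, hN, mul_zero, add_zero]
  have hYNY : Y * N * Y = C * Y := by rw [hCdef, add_mul, mul_assoc N, hY, mul_zero, zero_add]
  -- the exponent
  obtain ⟨n, -, hqf⟩ := FiniteField.card F p
  have hp2 : p ≠ 2 := fun e => h2 (by have := CharP.cast_eq_zero F p; rw [e] at this; exact_mod_cast this)
  obtain ⟨Q, hQdef⟩ : ∃ Q, Q = Fintype.card F ^ (2 * k + 1) := ⟨_, rfl⟩
  have hQp : Q = p ^ ((n : ℕ) * (2 * k + 1)) := by rw [hQdef, hqf, ← pow_mul]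
  obtain ⟨r, hr⟩ : Odd Q := by rw [hQp]; exact ((Fact.out : p.Prime).odd_of_ne_two hp2).pow
  have hrk : k ≤ r := by
    have : 2 * k + 1 < Q := by rw [hQdef]; exact Nat.lt_pow_self (by omega)
    omega
  have hQa : ∀ a : F, a ^ Q = a := fun a => by rw [hQdef]; exact FiniteField.pow_card_pow _ _
  have hadd : ∀ {A B : Matrix ι ι F}, Commute A B → (A + B) ^ Q = A ^ Q + B ^ Q := fun h => by
    rw [hQp]; exact add_pow_char_pow_of_commute p _ h
  -- the idempotent
  set T := l⁻¹ • C with hT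
  have tN : Commute T N := cN.smul_left _
  have tY : Commute T Y := cY.smul_left _
  have hC' : C = l • T := by rw [hT, smul_smul, mul_inv_cancel₀ hl, one_smul]
  have hpT : T ^ k * (T - 1) ^ k = 0 := by
    clear_value T
    rw [hC', ← smul_sub, smul_pow, smul_pow, smul_mul_assoc, mul_smul_comm, smul_smul] at hpoly
    exact (smul_eq_zero.1 hpoly).resolve_left (mul_ne_zero (pow_ne_zero _ hl) (pow_ne_zero _ hl))
  have hpT' : ∀ i j, k ≤ i → k ≤ j → T ^ i * (T - 1) ^ j = 0 := fun i j hi hj => by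
    obtain ⟨i', rfl⟩ := Nat.exists_eq_add_of_le hi
    obtain ⟨j', rfl⟩ := Nat.exists_eq_add_of_le hj
    rw [add_comm k i', pow_add T, pow_add (T - 1), mul_assoc, ← mul_assoc (T ^ k), hpT, zero_mul, mul_zero]
  set e := T ^ Q with he
  have h1e : (T - 1) ^ Q = e - 1 := by
    rw [sub_eq_add_neg, hadd (Commute.neg_right (Commute.one_right T)), (Odd.neg_one_pow ⟨r, hr⟩), ← sub_eq_add_neg]
  have hee : e * e = e := by
    have h := hpT' Q Q (by omega) (by omega)
    rw [h1e, ← he, mul_sub, mul_one, sub_eq_zero] at h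
    exact h
  have eN : Commute e N := tN.pow_left _
  have eY : Commute e Y := tY.pow_left _
  -- the scalars
  set S := (2 : F) • (1 : Matrix ι ι F) - T with hS
  set δ := -(T * S) with hδ
  have sN : Commute S N := ((Commute.one_left N).smul_left _).sub_left tN
  have sY : Commute S Y := ((Commute.one_left Y).smul_left _).sub_left tY
  have sT : Commute S T := ((Commute.one_left T).smul_left _).sub_left (Commute.refl T)
  have dN : Commute δ N := (tN.mul_left sN).neg_left
  have dY : Commute δ Y := (tY.mul_left sY).neg_left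
  have hδ' : δ = (T - 1) ^ 2 + (-1) := by
    rw [hδ, hS, pow_two, mul_sub, Matrix.mul_smul, mul_one, mul_sub, sub_mul, mul_one, one_mul]
    module
  have hδQ : δ ^ Q = -e := by
    rw [hδ', hadd (Commute.neg_right (Commute.one_right _)), ← pow_mul, mul_comm 2 Q, pow_mul, h1e, pow_two,
      (Odd.neg_one_pow ⟨r, hr⟩), sub_mul, one_mul, mul_sub, mul_one, hee]
    abel
  have hδr : δ ^ r * δ ^ r * δ = -e := by rw [← hδQ, ← pow_add, ← two_mul, ← pow_succ, ← hr]
  have hδe : (1 - e) * δ ^ r = 0 := by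
    have h := hpT' r Q hrk (by omega)
    rw [h1e] at h
    have ct : Commute (T ^ r) (e - 1) := by
      rw [he]; exact (((Commute.refl T).pow_pow r Q)).sub_right (Commute.one_right _)
    have hz : (1 - e) * T ^ r = 0 := by rw [← neg_sub e 1, neg_mul, ← ct.eq, h, neg_zero]
    rw [hδ, neg_pow, (sT.symm).mul_pow, ← mul_assoc (1 - e), ((Commute.neg_one_right (1 - e)).pow_right r).eq, mul_assoc,
      ← mul_assoc (1 - e), hz, zero_mul, mul_zero]
  obtain ⟨R, hR⟩ : ∃ R, R = δ ^ r := ⟨_, rfl⟩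
  have cT : ∀ {A : Matrix ι ι F}, Commute T A → Commute S A := fun h =>
    ((Commute.one_left _).smul_left _).sub_left h |> fun h' => by rw [hS]; exact h'
  have cR : ∀ {A : Matrix ι ι F}, Commute T A → Commute R A := fun h => by
    rw [hR, hδ]; exact (h.mul_left (cT h)).neg_left.pow_left r
  have ce : ∀ {A : Matrix ι ι F}, Commute T A → Commute e A := fun h => by rw [he]; exact h.pow_left Q
  have cC : ∀ {A : Matrix ι ι F}, Commute T A → Commute C A := fun h => by rw [hC']; exact h.smul_left _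
  rw [← hR] at hδr hδe
  have rN := cR tN
  have rY := cR tY
  clear_value T S δ e
  -- the Weyl elements
  obtain ⟨κ, hκ⟩ : ∃ κ : F, κ = -l⁻¹ := ⟨_, rfl⟩
  have hTC : T = (-κ) • C := by rw [hT, hκ, neg_neg]
  obtain ⟨Zf, hZf⟩ : ∃ Zf : F → Matrix ι ι F, ∀ a, Zf a = a • (S * N) + (κ / a) • Y := ⟨_, fun _ => rfl⟩
  have hZ2 : ∀ a b : F, a ≠ 0 → b ≠ 0 →
      Zf a * Zf b = κ • (S * ((a / b) • (N * Y) + (b / a) • (Y * N))) := fun a b ha hb => by
    have q1 : S * N * (S * N) = 0 := by
      rw [mul_assoc, ← mul_assoc N, ← sN.eq, mul_assoc S N N, hN, mul_zero, mul_zero]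
    have q2 : Y * (S * N) = S * (Y * N) := by rw [← mul_assoc, ← sY.eq, mul_assoc]
    simp only [hZf, mul_add, add_mul, Matrix.smul_mul, Matrix.mul_smul, q1, q2, hY, smul_zero, zero_add, add_zero,
      mul_assoc S N Y, smul_smul]
    rw [show b * (κ / a) = κ * (b / a) by ring, show κ / b * a = κ * (a / b) by ring, smul_add, smul_smul, smul_smul]
    abel
  have hTS : T * S = -δ := by rw [hδ, neg_neg]
  have hZsq : ∀ a : F, a ≠ 0 → Zf a * Zf a = δ := fun a ha => by
    rw [hZ2 a a ha ha, div_self ha, one_smul, one_smul, ← hCdef, hC', Matrix.mul_smul, smul_smul, sT.eq, hTS, hκ,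
      neg_mul, inv_mul_cancel₀ hl, neg_one_smul, neg_neg]
  have tZ : ∀ a : F, Commute T (Zf a) := fun a => by
    rw [hZf]; exact ((((sT.symm).mul_right tN)).smul_right _).add_right (tY.smul_right _)
  let W : F → GL ι F := fun a => one1 N hN a * one1 Y hY (κ / a) * one1 N hN a
  have hW : ∀ a, W a ∈ EG N Y hN hY := fun a =>
    mul_mem (mul_mem (mem_EG_left _) (mem_EG_right _)) (mem_EG_left _)
  have hexp : ∀ a b : F, ((1 : Matrix ι ι F) + a • N) * (1 + b • Y) * (1 + a • N) =
      1 + (a * b) • C + (2 * a) • N + (a * (a * b)) • (C * N) + b • Y := fun a b => by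
    simp only [mul_add, add_mul, one_mul, mul_one, Matrix.smul_mul, Matrix.mul_smul, hN, hYN, hNYN, smul_zero, smul_smul]
    module
  have hWQ : ∀ a : F, a ≠ 0 → ((W a ^ Q : GL ι F) : Matrix ι ι F) = 1 - e + R * Zf a := fun a ha => by
    have hv : ((W a : GL ι F) : Matrix ι ι F) = (1 - T) + Zf a := by
      show ((1 : Matrix ι ι F) + a • N) * (1 + (κ / a) • Y) * (1 + a • N) = _
      rw [hexp, hZf, hS, hTC, mul_div_cancel₀ _ ha, sub_mul, Matrix.smul_mul, one_mul, Matrix.smul_mul]
      module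
    have hcom : Commute (1 - T) (Zf a) := (Commute.one_left _).sub_left (tZ a)
    rw [Units.val_pow_eq_pow_val, hv, hadd hcom, show (1 - T) ^ Q = 1 - e by
      rw [← neg_sub T 1, (Odd.neg_pow ⟨r, hr⟩), h1e, neg_sub]]
    rw [hr, pow_succ, pow_mul, pow_two, hZsq a ha, hR]
  obtain ⟨x, hx0, hx1⟩ := exists_sq_ne_one1 hq
  -- the torus element
  set d : GL ι F := W x ^ Q * W 1 ^ Q with hd
  obtain ⟨G, hG⟩ : ∃ G, G = (-κ) • (R * R * S) := ⟨_, rfl⟩
  have gN : Commute G N := by rw [hG]; exact ((rN.mul_left rN).mul_left sN).smul_left _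
  have hGC : G * C = e := by
    rw [hG, hC', Matrix.smul_mul, Matrix.mul_smul, smul_smul, mul_assoc _ S T, sT.eq, hTS, mul_neg, hδr, neg_neg, hκ,
      neg_neg, inv_mul_cancel₀ hl, one_smul]
  have hdv : (d : Matrix ι ι F) = 1 - e - G * (x • (N * Y) + x⁻¹ • (Y * N)) := by
    have c1 : (1 - e) * (R * Zf 1) = 0 := by rw [← mul_assoc, hδe, zero_mul]
    have cz : Commute (1 - e) (R * Zf x) :=
      ((Commute.one_left _).sub_left ((ce (cR (Commute.refl T)).symm).mul_right (ce (tZ x))))
    have c2 : R * Zf x * (1 - e) = 0 := by rw [← cz.eq, ← mul_assoc, hδe, zero_mul]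
    have c3 : R * Zf x * (R * Zf 1) = R * R * (Zf x * Zf 1) := by
      rw [mul_assoc, ← mul_assoc (Zf x), ← (cR (tZ x)).eq, mul_assoc, ← mul_assoc]
    have c0 : (1 - e) * (1 - e) = 1 - e := by
      rw [sub_mul 1 e, one_mul, mul_sub e 1, mul_one, hee, sub_self, sub_zero]
    rw [hd, Units.val_mul, hWQ x hx0, hWQ 1 one_ne_zero, add_mul, mul_add, mul_add, c1, c2, c3, c0,
      hZ2 x 1 hx0 one_ne_zero, div_one, one_div, hG, Matrix.mul_smul, ← mul_assoc, Matrix.smul_mul, neg_smul,
      sub_neg_eq_add, add_zero, zero_add]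
  set X := (x * x - 1) • e with hX
  have hXN : Commute X N := eN.smul_left _
  have key : ((d * one1 N hN 1 * d⁻¹ * one1 N hN (-1) : GL ι F) : Matrix ι ι F) = 1 + N * X := by
    have e1 : (d : Matrix ι ι F) * N = (1 - (1 + x) • e) * N := by
      rw [hdv, sub_mul, mul_assoc G, add_mul, Matrix.smul_mul, Matrix.smul_mul, hNYN, mul_assoc Y, hN, mul_zero,
        smul_zero, add_zero, Matrix.mul_smul, ← mul_assoc, hGC]
      simp only [sub_mul, one_mul, Matrix.smul_mul]
      module
    have e2 : N * (d : Matrix ι ι F) = (1 - (1 + x⁻¹) • e) * N := by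
      rw [hdv, mul_sub, ← mul_assoc N G, ← gN.eq, mul_assoc G, mul_add N, Matrix.mul_smul, Matrix.mul_smul,
        ← mul_assoc N N, hN, zero_mul, smul_zero, zero_add, ← mul_assoc N Y, hNYN, Matrix.mul_smul, ← mul_assoc,
        hGC, mul_sub, mul_one, ← eN.eq]
      simp only [sub_mul, one_mul, Matrix.smul_mul]
      module
    have hee' : ∀ A : Matrix ι ι F, e * (e * A) = e * A := fun A => by rw [← mul_assoc, hee]
    have e3 : (d : Matrix ι ι F) * (one1 N hN 1 : Matrix ι ι F) = (1 + (N + N * X)) * (d : Matrix ι ι F) := by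
      rw [one1_coe, one_smul, mul_add, mul_one, add_mul, one_mul, e1, add_mul N, ← hXN.eq, mul_assoc X, e2, hX]
      simp only [sub_mul, one_mul, mul_sub, Matrix.smul_mul, Matrix.mul_smul, smul_smul, hee']
      match_scalars <;> field_simp <;> ring
    have hz : N * X * N = 0 := by rw [mul_assoc, hXN.eq, ← mul_assoc, hN, zero_mul]
    rw [Units.val_mul, Units.val_mul, Units.val_mul, e3, mul_assoc (1 + (N + N * X)), gl_mul_inv, mul_one, one1_coe,
      neg_one_smul, add_mul, one_mul, add_mul, mul_add, mul_one, mul_neg, hN, neg_zero, add_zero, mul_add, mul_one,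
      mul_neg, hz, neg_zero, add_zero]
    abel
  have hdEG : d ∈ EG N Y hN hY := mul_mem (pow_mem (hW _) _) (pow_mem (hW _) _)
  obtain ⟨c, hc⟩ := hNs _ (mul_mem (mul_mem (mul_mem hdEG (mem_EG_left 1)) (inv_mem hdEG)) (mem_EG_left _)) X hXN key
  have he1 : e = 1 := by
    have heN : e * N = ((x * x - 1)⁻¹ * c) • N := by
      rw [← smul_smul, ← hc, hX, Matrix.mul_smul, smul_smul, inv_mul_cancel₀ (sub_ne_zero.2 hx1), one_smul, eN.eq]
    generalize (x * x - 1)⁻¹ * c = c' at heN
    have hcc : c' * c' = c' := by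
      have h := congrArg (e * ·) heN
      simp only [Matrix.mul_smul] at h
      rw [← mul_assoc, hee, heN, smul_smul] at h
      by_contra hne
      exact hN0 ((smul_eq_zero.1 (show (c' * c' - c') • N = 0 by rw [sub_smul, ← h, sub_self])).resolve_left
        (sub_ne_zero.2 hne))
    rcases eq_or_ne c' 0 with rfl | hc0
    · rw [zero_smul] at heN
      obtain ⟨X', hX'⟩ := hfree e (by rw [← eN.eq, heN])
      exfalso
      have he0 : e = 0 := by
        rw [← hee]
        nth_rewrite 2 [hX']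
        rw [← mul_assoc, heN, zero_mul]
      exact hn ⟨Q, by rw [hC', smul_pow, ← he, he0, smul_zero]⟩
    · rw [(mul_eq_left₀ hc0).1 hcc, one_smul] at heN
      obtain ⟨X', hX'⟩ := hfree (1 - e) (by rw [mul_sub, mul_one, ← eN.eq, heN, sub_self])
      have h : (1 - e) * (1 - e) = 0 := by
        nth_rewrite 2 [hX']
        rw [← mul_assoc, sub_mul, one_mul, heN, sub_self, zero_mul]
      rw [sub_mul, one_mul, mul_sub, mul_one, hee, sub_self, sub_zero, sub_eq_zero] at h
      exact h.symm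
  -- the conjugate of the first group
  obtain ⟨X', hX'⟩ : ∃ X', X' = -(κ * κ) • (R * R * C) := ⟨_, rfl⟩
  have hXY : Commute X' Y := by rw [hX']; exact ((rY.mul_left rY).mul_left cY).smul_left _
  rw [he1] at hδr hGC
  have key' : ((W 1 ^ Q * one1 N hN 1 * (W 1 ^ Q)⁻¹ : GL ι F) : Matrix ι ι F) = 1 + Y * X' := by
    have hw := hWQ 1 one_ne_zero
    rw [he1, sub_self, zero_add] at hw
    have hZN : Zf 1 * N = κ • (Y * N) := by
      simp only [hZf, one_smul, div_one, add_mul, mul_assoc, hN, mul_zero, zero_add, Matrix.smul_mul]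
    have hYZ : Y * (R * Zf 1) = R * (S * (Y * N)) := by
      rw [← mul_assoc, ← rY.eq, mul_assoc]
      simp only [hZf, one_smul, div_one, mul_add, Matrix.mul_smul, hY, smul_zero, add_zero]
      rw [← mul_assoc Y S, ← sY.eq, mul_assoc S]
    have e3 : ((W 1 ^ Q : GL ι F) : Matrix ι ι F) * (one1 N hN 1 : Matrix ι ι F) =
        (1 + Y * X') * ((W 1 ^ Q : GL ι F) : Matrix ι ι F) := by
      rw [hw, one1_coe, one_smul, mul_add, mul_one, add_mul, one_mul, ← hXY.eq, mul_assoc X', hYZ, mul_assoc R, hZN,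
        hX', Matrix.smul_mul, mul_assoc (R * R), ← mul_assoc C R, ← (cR (cC (Commute.refl T)).symm).eq,
        mul_assoc R C, ← mul_assoc C S, hC', Matrix.smul_mul, hTS]
      have h3 : R * R * (R * (δ * (Y * N))) = -(R * (Y * N)) := by
        rw [← mul_assoc R δ, ← mul_assoc (R * R), ← mul_assoc (R * R), (cR (Commute.refl T)).eq |> fun _ => mul_assoc _ R δ]
        rw [show R * δ = δ * R by
          rw [hδ, mul_neg, neg_mul, ((cR (Commute.refl T)).mul_right (cR sT.symm)).eq]]
        rw [← mul_assoc (R * R), hδr, neg_mul, one_mul, neg_mul]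
      simp only [Matrix.smul_mul, Matrix.mul_smul, neg_mul, mul_neg, smul_neg, neg_smul, h3, neg_neg, smul_smul]
      rw [← smul_neg]
      match_scalars <;> simp [hκ] <;> field_simp
    rw [Units.val_mul, Units.val_mul, e3, mul_assoc, gl_mul_inv, mul_one]
  obtain ⟨c, hc⟩ := hYs _ (mul_mem (mul_mem (pow_mem (hW 1) _) (mem_EG_left 1)) (inv_mem (pow_mem (hW 1) _))) X' hXY key'
  have hSY : c • (S * Y) = κ • Y := by
    have h : S * (X' * Y) = S * (c • Y) := by rw [hXY.eq, hc]
    rw [Matrix.mul_smul] at h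
    rw [← h, ← mul_assoc, hX', Matrix.mul_smul, ← mul_assoc S, (cT (cR (Commute.refl T)).symm |>.mul_right
      (cT (cR (Commute.refl T)).symm)).eq, mul_assoc (R * R) S C, hC', Matrix.mul_smul, sT.eq, hTS, smul_neg, mul_neg,
      Matrix.mul_smul, hδr]
    simp only [smul_neg, neg_neg, neg_smul, neg_mul, smul_smul, Matrix.smul_mul, one_mul]
    match_scalars <;> simp [hκ] <;> field_simp
  have hκ0 : κ ≠ 0 := by rw [hκ]; exact neg_ne_zero.2 (inv_ne_zero hl)
  have hc0 : c ≠ 0 := fun e => by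
    rw [e, zero_smul] at hSY
    exact hY0 ((smul_eq_zero.1 hSY.symm).resolve_left hκ0)
  refine ⟨l * (2 - κ / c), ?_⟩
  have hTY : (T - (2 - κ / c) • 1) * Y = 0 := by
    have h := congrArg (c⁻¹ • ·) hSY
    simp only [smul_smul, inv_mul_cancel₀ hc0, one_smul, hS, sub_mul, Matrix.smul_mul, one_mul] at h
    rw [sub_eq_iff_eq_add] at h
    simp only [sub_mul, Matrix.smul_mul, one_mul, sub_smul]
    rw [h]
    module
  set D := T - (2 - κ / c) • (1 : Matrix ι ι F) with hD
  have dN' : Commute D N := tN.sub_left ((Commute.one_left N).smul_left _)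
  have hDC : D * C = 0 := by
    rw [hCdef, mul_add, ← mul_assoc, dN'.eq, mul_assoc, hTY, mul_zero, zero_add, ← mul_assoc, hTY, zero_mul]
  have hDQ : ∀ j, D * T ^ (j + 1) = 0 := fun j => by
    rw [pow_succ', ← mul_assoc, hT, Matrix.mul_smul, hDC, smul_zero, zero_mul]
  have hD0 : D = 0 := by
    have := hDQ (2 * r)
    rw [← hr, ← he, he1, mul_one] at this
    exact this
  rw [hD, sub_eq_zero] at hD0
  rw [← smul_smul, ← hD0, ← hC']

end CfsgLib.Perm.Trans.TensorPowerSp
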