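import Cfsg.Agent.Lib.Perm.Trans.TensorPowerSp.Star
import Cfsg.Agent.Lib.Perm.Trans.Symp

/-!
# Isometries of one symplectic factor
-/

set_option autoImplicit false
set_option linter.all false

namespace CfsgLib.Perm.Trans.TensorPowerSp

open scoped Matrix
open Matrix Cfsg.Geo CfsgLib.Perm.Asch CfsgLib.Perm.Trans CfsgLib.Perm.Trans.TensorPower

variable {F : Type*} [Field F]

section Form

variable {ι : Type} [Fintype ι] [DecidableEq ι]

/-- the form with the signed monomial Gram matrix -/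
def sform (ε : ι → F) (S : ι → ι) (v w : ι → F) : F := v ⬝ᵥ dual ε S w

variable {ε : ι → F} {S : ι → ι}

/-- every vector is isotropic -/
theorem iso_vec (h : Sg ε S (-1)) (h2 : (2 : F) ≠ 0) (u : ι → F) : dual ε S u ⬝ᵥ u = 0 := by
  have e := dual_dot h u u
  have : (2 : F) * (dual ε S u ⬝ᵥ u) = 0 := by linear_combination e
  exact (mul_eq_zero.1 this).resolve_left h2

theorem sform_symp (h : Sg ε S (-1)) (h2 : (2 : F) ≠ 0) : IsSymplecticForm (sform ε S) where
  bilinear := ⟨fun x y v => add_dotProduct x y _, fun c x v => smul_dotProduct c x _,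
    fun v x y => by rw [sform, sform, sform, dual_add, dotProduct_add],
    fun c v x => by rw [sform, sform, dual_smul, dotProduct_smul, smul_eq_mul]⟩
  skew v w := by rw [sform, sform, dotProduct_comm v, dual_dot h, dotProduct_comm (dual ε S v)]; ring
  alternating v := by rw [sform, dotProduct_comm, iso_vec h h2]
  nondegenerate := by
    intro v hv
    obtain ⟨a, ha⟩ := Function.ne_iff.1 hv
    have hne : ∀ x, ε x ≠ 0 := fun x e => by simpa [e] using h.sq x
    refine ⟨⟨Pi.single (S a) 1, ?_⟩, ⟨Pi.single (S a) 1, ?_⟩⟩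
    · rw [sform, single_dotProduct, one_mul, dual, h.inv]
      exact mul_ne_zero (hne _) ha
    · rw [sform, dual_single h, dotProduct_single, h.inv, mul_one]
      exact mul_ne_zero ha (hne _)

theorem isoSub_sform {δ : F} (h : Sg ε S δ) : Symp.isoSub (sform ε S) = uSub h := by
  ext g
  rw [Symp.mem_isoSub, mem_uSub]
  constructor
  · intro hg
    have hcol : adj ε S (g : Matrix ι ι F) * (g : Matrix ι ι F) = 1 := by
      ext x y
      have := hg (Pi.single y 1) (Pi.single (S x) 1)
      rw [sform, sform, dual_mulVec h, dual_single h, h.inv, mul_one, dotProduct_comm, ← dotProduct_mulVec,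
        mulVec_mulVec, single_dotProduct, mulVec_single_one, single_dotProduct, one_mul, Pi.single_apply] at this
      simp only [Matrix.col_apply] at this
      refine mul_left_cancel₀ (fun e => by simpa [e] using h.sq x) (this.trans ?_)
      rw [Matrix.one_apply, mul_ite, mul_one, mul_zero]
      exact if_congr eq_comm rfl rfl
    exact mul_eq_one_comm.1 hcol
  · intro hg x y
    rw [sform, sform, dual_mulVec h, dotProduct_comm, ← dotProduct_mulVec, mulVec_mulVec,
      mul_eq_one_comm.1 hg, one_mulVec, dotProduct_comm]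

theorem sv_sform (h : Sg ε S (-1)) (h2 : (2 : F) ≠ 0) (u : ι → F) : Symp.sv (sform_symp h h2) u = dual ε S u := by
  funext a
  have := Symp.sv_dot (sform_symp h h2) u (Pi.single a 1)
  rwa [dotProduct_single, mul_one, sform, single_dotProduct, one_mul] at this

theorem stv_coe (h : Sg ε S (-1)) (h2 : (2 : F) ≠ 0) (u : ι → F) (c : F) :
    (Symp.stv (sform_symp h h2) u c : Matrix ι ι F) = 1 + c • vecMulVec u (dual ε S u) := by
  rw [Symp.stv, tv_coe, sv_sform h h2, vecMulVec_smul]

end Form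

variable {n t : ℕ}

/-- a form paired by a fixed-point-free involution with opposite signs is alternating -/
theorem iso_of_free {ι : Type} [Fintype ι] [DecidableEq ι] {ε : ι → F} {S : ι → ι} (hS : ∀ x, S (S x) = x)
    (hne : ∀ x, S x ≠ x) (hε : ∀ x, ε (S x) = -ε x) (u : ι → F) : dual ε S u ⬝ᵥ u = 0 := by
  rw [dotProduct]
  refine Finset.sum_involution (fun x _ => S x) (fun x _ => ?_) (fun x _ _ => hne x) (fun x _ => Finset.mem_univ _)
    (fun x _ => hS x)
  simp only [dual, hε, hS]
  ring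

/-- every vector of one factor is isotropic, in every characteristic -/
theorem iso1 (u : Ix n → F) : dual (e1 n F) (s1 n) u ⬝ᵥ u = 0 :=
  iso_of_free (fun x => s1_inv x) s1_ne (fun x => by
    linear_combination (e1 n F x) * (sg1 (F := F)).pr x - e1 n F (s1 n x) * (sg1 (F := F)).sq x) u

/-- the form with the signed monomial Gram matrix, when every vector is isotropic -/
theorem sform_symp_of_iso {ι : Type} [Fintype ι] [DecidableEq ι] {ε : ι → F} {S : ι → ι} (h : Sg ε S (-1))
    (hiso : ∀ u, dual ε S u ⬝ᵥ u = 0) : IsSymplecticForm (sform ε S) where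
  bilinear := ⟨fun x y v => add_dotProduct x y _, fun c x v => smul_dotProduct c x _,
    fun v x y => by rw [sform, sform, sform, dual_add, dotProduct_add],
    fun c v x => by rw [sform, sform, dual_smul, dotProduct_smul, smul_eq_mul]⟩
  skew v w := by rw [sform, sform, dotProduct_comm v, dual_dot h, dotProduct_comm (dual ε S v)]; ring
  alternating v := by rw [sform, dotProduct_comm, hiso]
  nondegenerate := by
    intro v hv
    obtain ⟨a, ha⟩ := Function.ne_iff.1 hv
    have hne : ∀ x, ε x ≠ 0 := fun x e => by simpa [e] using h.sq x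
    refine ⟨⟨Pi.single (S a) 1, ?_⟩, ⟨Pi.single (S a) 1, ?_⟩⟩
    · rw [sform, single_dotProduct, one_mul, dual, h.inv]
      exact mul_ne_zero (hne _) ha
    · rw [sform, dual_single h, dotProduct_single, h.inv, mul_one]
      exact mul_ne_zero ha (hne _)

theorem sform1_symp : IsSymplecticForm (sform (e1 n F) (s1 n)) := sform_symp_of_iso sg1 iso1

/-- the transvection of one factor -/
def utv (u : Ix n → F) (hu : dual (e1 n F) (s1 n) u ⬝ᵥ u = 0) (c : F) : GL (Ix n) F :=
  tv (c • u) (dual (e1 n F) (s1 n) u) (by rw [dotProduct_smul, hu, smul_zero])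

theorem utv_coe (u : Ix n → F) (hu : dual (e1 n F) (s1 n) u ⬝ᵥ u = 0) (c : F) :
    (utv u hu c : Matrix (Ix n) (Ix n) F) = 1 + c • vecMulVec u (dual (e1 n F) (s1 n) u) := by
  rw [utv, tv_coe, smul_vecMulVec]

theorem vmv_zero_right {ι : Type} (u : ι → F) : vecMulVec u (0 : ι → F) = 0 := by ext; simp [vecMulVec_apply]

theorem vmv_dual_sq {u : Ix n → F} (hu : dual (e1 n F) (s1 n) u ⬝ᵥ u = 0) :
    vecMulVec u (dual (e1 n F) (s1 n) u) * vecMulVec u (dual (e1 n F) (s1 n) u) = 0 := by
  rw [vecMulVec_mul_vecMulVec, hu, zero_smul, vmv_zero_right]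

theorem utv_mem (u : Ix n → F) (hu : dual (e1 n F) (s1 n) u ⬝ᵥ u = 0) (c : F) : utv u hu c ∈ u1 n F :=
  mem_of_one_add (utv_coe u hu c) (by rw [Matrix.smul_mul, Matrix.mul_smul, vmv_dual_sq hu, smul_zero, smul_zero])
    (by rw [adj_smul, adj_vecMulVec sg1, neg_one_smul, smul_neg])

theorem utv_conj {A : GL (Ix n) F} (hA : A ∈ u1 n F) (u : Ix n → F) (hu : dual (e1 n F) (s1 n) u ⬝ᵥ u = 0)
    (hu' : dual (e1 n F) (s1 n) ((A : Matrix (Ix n) (Ix n) F) *ᵥ u) ⬝ᵥ ((A : Matrix (Ix n) (Ix n) F) *ᵥ u) = 0)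
    (c : F) : A * utv u hu c * A⁻¹ = utv _ hu' c := Units.ext (by
  rw [← cj_coe, utv_coe, utv_coe, cj_add, cj_one, cj_smul, cj_vmv_dual hA])

theorem vmv_single2 {ι : Type} [DecidableEq ι] (a b : ι) (c d : F) :
    vecMulVec (Pi.single a c) (Pi.single b d) = Matrix.single a b (c * d) := by
  ext x y
  rw [vecMulVec_apply, Pi.single_apply, Pi.single_apply, Matrix.single_apply]
  by_cases h1 : x = a <;> by_cases h2 : y = b <;> simp [h1, h2, Ne.symm]

theorem dual_e0 : dual (e1 n F) (s1 n) (Pi.single 0 1) = -Pi.single 1 (1 : F) := by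
  rw [dual_single sg1, s1_zero, e1_one, mul_one, Pi.single_neg]

theorem e0_iso : dual (e1 n F) (s1 n) (Pi.single 0 (1 : F)) ⬝ᵥ Pi.single 0 1 = 0 := by
  rw [dual_e0]; simp

theorem vmv_e0 : vecMulVec (Pi.single 0 (1 : F)) (dual (e1 n F) (s1 n) (Pi.single 0 1)) =
    -Matrix.single (0 : Ix n) 1 1 := by
  rw [dual_e0, vecMulVec_neg, vmv_single2, mul_one]

/-- the root element of the first vector -/
def rt (n : ℕ) {F : Type*} [Field F] (c : F) : GL (Ix n) F := utv (Pi.single 0 1) e0_iso (-c)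

theorem rt_coe (c : F) : (rt n c : Matrix (Ix n) (Ix n) F) = 1 + c • Matrix.single 0 1 1 := by
  rw [rt, utv_coe, vmv_e0, smul_neg, neg_smul, neg_neg]

theorem rt_mem (c : F) : rt n c ∈ u1 n F := utv_mem _ _ _

theorem rt_mul (c d : F) : rt n c * rt n d = rt n (c + d) := Units.ext (by
  rw [Units.val_mul, rt_coe, rt_coe, rt_coe, add_smul]
  simp only [add_mul, mul_add, one_mul, mul_one, Matrix.smul_mul, Matrix.mul_smul]
  rw [Matrix.single_mul_single_of_ne (h := show (1 : Ix n) ≠ 0 by simp), smul_zero, smul_zero, add_zero]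
  abel)

/-- a root element of the unipotent radical fixing the first vector -/
def etaN (a : Ix n) (l : F) : Matrix (Ix n) (Ix n) F :=
  Matrix.single a 1 l + Matrix.single 0 (s1 n a) (e1 n F a * l)

theorem etaN_sq {a : Ix n} (ha0 : a ≠ 0) (ha1 : a ≠ 1) (l : F) : etaN a l * etaN a l = (0 : Matrix (Ix n) (Ix n) F) := by
  have h10 : (1 : Ix n) ≠ 0 := by simp
  rw [etaN, add_mul, mul_add, mul_add, Matrix.single_mul_single_of_ne (h := ha1.symm),
    Matrix.single_mul_single_of_ne (h := h10), Matrix.single_mul_single_of_ne (h := s1_ne a),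
    Matrix.single_mul_single_of_ne (h := (s1_mid ha0 ha1).1)]
  simp

/-- the element `1 + etaN` -/
def eta (a : Ix n) (ha0 : a ≠ 0) (ha1 : a ≠ 1) (l : F) : GL (Ix n) F :=
  ⟨1 + etaN a l, 1 - etaN a l,
    by rw [add_mul, one_mul, mul_sub, mul_one, etaN_sq ha0 ha1, sub_zero, sub_add_cancel],
    by rw [sub_mul, one_mul, mul_add, mul_one, etaN_sq ha0 ha1, add_zero, add_sub_cancel_right]⟩

theorem eta_coe {a : Ix n} (ha0 : a ≠ 0) (ha1 : a ≠ 1) (l : F) :
    (eta a ha0 ha1 l : Matrix (Ix n) (Ix n) F) = 1 + etaN a l := rfl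

theorem e1_s1 (a : Ix n) : e1 n F (s1 n a) = -e1 n F a := by
  linear_combination (e1 n F a) * (sg1 (F := F)).pr a - e1 n F (s1 n a) * (sg1 (F := F)).sq a

theorem eta_mem {a : Ix n} (ha0 : a ≠ 0) (ha1 : a ≠ 1) (l : F) : eta a ha0 ha1 l ∈ u1 n F := by
  refine mem_of_one_add (eta_coe ha0 ha1 l) (etaN_sq ha0 ha1 l) ?_
  rw [etaN, adj_add, adj_single sg1, adj_single sg1, s1_inv, s1_zero, s1_one, e1_zero, e1_one, e1_s1, neg_add_rev, add_comm (-Matrix.single _ _ _) (-Matrix.single _ _ _)]
  have e2 : e1 n F a * -1 * (e1 n F a * l) = -l := by linear_combination (-l) * (sg1 (F := F)).sq a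
  rw [e2, show 1 * -e1 n F a * l = -(e1 n F a * l) by ring, Matrix.single_neg, Matrix.single_neg]
  abel

/-- a monomial element -/
def mono (p : Equiv.Perm (Ix n)) (d : Ix n → Fˣ) : GL (Ix n) F :=
  ⟨Matrix.of fun x y => if x = p y then (d y : F) else 0,
    Matrix.of fun x y => if y = p x then ((d x)⁻¹ : Fˣ).val else 0,
    by
      ext x z
      rw [Matrix.mul_apply, Finset.sum_eq_single (p.symm x) (fun y _ hy => by
        rw [Matrix.of_apply, if_neg, zero_mul]
        exact fun e => hy (by rw [e, Equiv.symm_apply_apply])) (by simp)]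
      simp [Matrix.one_apply, eq_comm],
    by
      ext x z
      rw [Matrix.mul_apply, Finset.sum_eq_single (p x) (fun y _ hy => by
        rw [Matrix.of_apply, if_neg hy, zero_mul]) (by simp)]
      simp only [Matrix.of_apply, if_true, Matrix.one_apply, p.injective.eq_iff, mul_ite, mul_zero]
      split_ifs with h
      · subst h; rw [← Units.val_mul, inv_mul_cancel, Units.val_one]
      · rfl⟩

theorem mono_coe (p : Equiv.Perm (Ix n)) (d : Ix n → Fˣ) :
    (mono p d : Matrix (Ix n) (Ix n) F) = Matrix.of fun x y => if x = p y then (d y : F) else 0 := rfl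

theorem mono_mulVec_single (p : Equiv.Perm (Ix n)) (d : Ix n → Fˣ) (y : Ix n) :
    (mono p d : Matrix (Ix n) (Ix n) F) *ᵥ Pi.single y 1 = Pi.single (p y) (d y : F) := by
  funext x
  rw [mono_coe, mulVec_single_one, Matrix.col_apply, Matrix.of_apply, Pi.single_apply]

theorem mono_adj {p : Equiv.Perm (Ix n)} {d : Ix n → Fˣ} {ν : F} (hp : ∀ y, p (s1 n y) = s1 n (p y))
    (hd : ∀ y, e1 n F y * e1 n F (p y) * (d (s1 n y) : F) * d y = ν) :
    (mono p d : Matrix (Ix n) (Ix n) F) * adj (e1 n F) (s1 n) (mono p d : Matrix (Ix n) (Ix n) F) = ν • 1 := by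
  ext x z
  rw [Matrix.mul_apply, Matrix.smul_apply, Matrix.one_apply, smul_eq_mul, Finset.sum_eq_single (p.symm x)
    (fun y _ hy => by
      rw [mono_coe, Matrix.of_apply, if_neg, zero_mul]
      exact fun e => hy (by rw [e, Equiv.symm_apply_apply])) (by simp), adj_apply]
  simp only [mono_coe, Matrix.of_apply, Equiv.apply_symm_apply, if_true, hp, s1_inv.injective.eq_iff]
  by_cases h : x = z
  · subst h
    have := hd (p.symm x)
    rw [Equiv.apply_symm_apply] at this
    rw [if_pos rfl, if_pos rfl, mul_one]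
    linear_combination this
  · rw [if_neg (Ne.symm h), if_neg h, mul_zero, mul_zero, mul_zero]

theorem mono_mem {p : Equiv.Perm (Ix n)} {d : Ix n → Fˣ} (hp : ∀ y, p (s1 n y) = s1 n (p y))
    (hd : ∀ y, e1 n F y * e1 n F (p y) * (d (s1 n y) : F) * d y = 1) : mono p d ∈ u1 n F := by
  rw [mem_uSub, mono_adj hp hd, one_smul]

/-- the Weyl element of the first pair -/
def wd (n : ℕ) (F : Type*) [Field F] (y : Ix n) : Fˣ := if y = 1 then -1 else 1

/-- the Weyl element of the first pair -/
def wl (n : ℕ) (F : Type*) [Field F] : GL (Ix n) F := mono (Equiv.swap 0 1) (wd n F)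

theorem wl_mem : wl n F ∈ u1 n F := by
  refine mono_mem (fun y => ?_) fun y => ?_
  · by_cases h0 : y = 0
    · subst h0; simp [s1_zero, s1_one]
    by_cases h1 : y = 1
    · subst h1; simp [s1_zero, s1_one]
    rw [Equiv.swap_apply_of_ne_of_ne h0 h1, Equiv.swap_apply_of_ne_of_ne (s1_mid h0 h1).1 (s1_mid h0 h1).2]
  · by_cases h0 : y = 0
    · subst h0; simp [wd, s1_zero, e1_zero, e1_one]
    by_cases h1 : y = 1
    · subst h1; simp [wd, s1_one, e1_zero, e1_one]
    simp [wd, Equiv.swap_apply_of_ne_of_ne h0 h1, (s1_mid h0 h1).2, h1, sg1.sq]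

/-- a diagonal element -/
def td (n : ℕ) {F : Type*} [Field F] (x : Fˣ) (y : Ix n) : Fˣ := if y = 0 then x else if y = 1 then x⁻¹ else 1

/-- a torus element of the first pair -/
def tor (n : ℕ) {F : Type*} [Field F] (x : Fˣ) : GL (Ix n) F := mono 1 (td n x)

theorem tor_mem (x : Fˣ) : tor n x ∈ u1 n F := by
  refine mono_mem (fun y => rfl) fun y => ?_
  rw [Equiv.Perm.one_apply, sg1.sq, one_mul]
  by_cases h0 : y = 0
  · subst h0; simp [td, s1_zero]
  by_cases h1 : y = 1
  · subst h1; simp [td, s1_one]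
  simp [td, h0, h1, (s1_mid h0 h1).1, (s1_mid h0 h1).2]

theorem cj_unit {g : GL (Ix n) F} (hg : g ∈ u1 n F) (a b : Ix n) :
    cj g (Matrix.single a b (1 : F)) = e1 n F b • vecMulVec ((g : Matrix (Ix n) (Ix n) F) *ᵥ Pi.single a 1)
      (dual (e1 n F) (s1 n) ((g : Matrix (Ix n) (Ix n) F) *ᵥ Pi.single (s1 n b) 1)) := by
  rw [← cj_vmv_dual hg, ← cj_smul]
  congr 1
  rw [dual_single sg1, s1_inv, mul_one, vmv_single2, one_mul, Matrix.smul_single, smul_eq_mul, sg1.sq]

theorem cj_tor01 (x : Fˣ) :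
    cj (tor n x) (Matrix.single 0 1 (1 : F)) = ((x : F) * x) • Matrix.single 0 1 1 := by
  rw [cj_unit (tor_mem x), s1_one, tor, mono_mulVec_single, Equiv.Perm.one_apply, e1_one,
    show td n x 0 = x from if_pos rfl, dual_single sg1, s1_zero, e1_one, vmv_single2, Matrix.smul_single,
    Matrix.smul_single]
  congr 1
  simp

/-- every vector can be moved to the first one -/
theorem exists_move {u : Ix n → F} (hu : u ≠ 0) :
    ∃ A ∈ u1 n F, (A : Matrix (Ix n) (Ix n) F) *ᵥ u = Pi.single 0 1 := by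
  have hf := sform1_symp (F := F) (n := n)
  obtain ⟨A, hA, e⟩ := Symp.move_vec hf (M := u1 n F) (W := ⊤) (fun v _ c => by
      show _ ∈ uSub (sg1 (F := F) (n := n)); rw [← isoSub_sform]; exact Symp.stv_iso hf v c) (Symp.isNondegenerateOn_top hf)
    Submodule.mem_top Submodule.mem_top hu (w := Pi.single 0 1) (by simp)
  exact ⟨A, hA.1, e⟩

/-- every scalar is a sum of two squares -/
theorem exists_two_squares [Fintype F] (c : F) : ∃ a b : F, a * a + b * b = c := by
  by_cases h2 : ringChar F = 2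
  · obtain ⟨x, hx⟩ := FiniteField.isSquare_of_char_two h2 c
    exact ⟨x, 0, by rw [hx]; ring⟩
  · obtain ⟨x, y, h⟩ := FiniteField.exists_root_sum_quadratic (f := (Polynomial.X : Polynomial F) ^ 2)
      (g := Polynomial.X ^ 2 - Polynomial.C c) (Polynomial.degree_X_pow 2)
      (Polynomial.degree_X_pow_sub_C (by norm_num) c) (FiniteField.odd_card_of_char_ne_two h2)
    rw [Polynomial.eval_pow, Polynomial.eval_X, Polynomial.eval_sub, Polynomial.eval_pow, Polynomial.eval_X,
      Polynomial.eval_C] at h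
    exact ⟨x, y, by linear_combination h⟩

/-- the isometries of the single factors are in `M` -/
def HasSBase (M : Subgroup (GL (Fin t → Ix n) F)) : Prop :=
  ∀ A : Fin t → GL (Ix n) F, (∀ l, A l ∈ u1 n F) → pureGL A ∈ M

/-- all pure isometries are in `M` -/
def HasSSim (M : Subgroup (GL (Fin t → Ix n) F)) : Prop :=
  ∀ A : Fin t → GL (Ix n) F, pureGL A ∈ uT n t F → pureGL A ∈ M

/-- the permutations of the factors are in `M` -/
def HasSPerms (M : Subgroup (GL (Fin t → Ix n) F)) : Prop := ∀ π : Equiv.Perm (Fin t), permGL π ∈ M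

theorem HasSBase.sl_mem {M : Subgroup (GL (Fin t → Ix n) F)} (hB : HasSBase M) (i : Fin t) {a : GL (Ix n) F}
    (ha : a ∈ u1 n F) : sl i a ∈ M := hB _ fun l => by
  rcases eq_or_ne l i with rfl | hl
  · rwa [Pi.mulSingle_eq_same]
  · rw [Pi.mulSingle_eq_of_ne hl]; exact one_mem _

theorem HasSBase.pure_mem {M : Subgroup (GL (Fin t → Ix n) F)} (hB : HasSBase M) (B : Fin t → GL (Ix n) F)
    (hu : ∀ l, B l ∈ u1 n F) : pureGL B ∈ M := hB _ hu

end CfsgLib.Perm.Trans.TensorPowerSp
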