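import Cfsg.Agent.Lib.Perm.Trans.TensorPowerSp.Full

/-!
# Elements commuting with a root: the blocks
-/

set_option autoImplicit false
set_option linter.all false

namespace CfsgLib.Perm.Trans.TensorPowerSp

open scoped Matrix
open Matrix Cfsg.Geo CfsgLib.Perm.Asch CfsgLib.Perm.Trans CfsgLib.Perm.Trans.TensorPower

variable {F : Type*} [Field F] {n s t : ℕ}

local notation "Mat" => Matrix (Fin t → Ix n) (Fin t → Ix n) F

theorem e1_ne (a : Ix n) : e1 n F a ≠ 0 := fun e => by simpa [e] using (sg1 (F := F)).sq a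

theorem adj_sum {ι κ : Type} [Fintype ι] [DecidableEq ι] (ε : ι → F) (S : ι → ι) (u : Finset κ)
    (f : κ → Matrix ι ι F) : adj ε S (∑ r ∈ u, f r) = ∑ r ∈ u, adj ε S (f r) := by
  ext p q
  simp [adj_apply, Matrix.sum_apply, Finset.mul_sum]

theorem adj_sx (j : Fin t) (a b : Ix n) : adj (eT n t F) (sT n t) (sx j a b) =
    (e1 n F (s1 n b) * e1 n F (s1 n a)) • (sx j (s1 n b) (s1 n a) : Mat) := by
  rw [sx, adj_slot, adj_single sg1, mul_one, slot_single_smul]

theorem cm_adj {j : Fin t} {X : Mat} (h : Cm j X) : Cm j (adj (eT n t F) (sT n t) X) := fun u v => by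
  have e := congrArg (adj (eT n t F) (sT n t)) (h (s1 n v) (s1 n u))
  rw [adj_mul sgT, adj_mul sgT, adj_sx, s1_inv, s1_inv, Matrix.mul_smul, Matrix.smul_mul] at e
  exact (smul_right_injective _ (mul_ne_zero (e1_ne u) (e1_ne v)) e).symm

theorem adj_blk (j : Fin t) (x y : Ix n) (X : Mat) : adj (eT n t F) (sT n t) (blk j x y X) =
    (e1 n F x * e1 n F y) • blk j (s1 n y) (s1 n x) (adj (eT n t F) (sT n t) X) := by
  rw [blk, blk, adj_sum, Finset.smul_sum]
  refine Fintype.sum_equiv s1_inv.toPerm _ _ fun r => ?_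
  rw [adj_mul sgT, adj_mul sgT, adj_sx, adj_sx, Function.Involutive.coe_toPerm]
  simp only [Matrix.smul_mul, Matrix.mul_smul, smul_smul, ← mul_assoc]
  congr 1
  rw [e1_s1, e1_s1, e1_s1]
  linear_combination (e1 n F x * e1 n F y) * (sg1 (F := F)).sq r

theorem inv_blk {g : GL (Fin t → Ix n) F} (hg : g ∈ uT n t F) (j : Fin t) (x y : Ix n) :
    blk j x y ((g⁻¹ : GL (Fin t → Ix n) F) : Mat) =
      (e1 n F x * e1 n F y) • adj (eT n t F) (sT n t) (blk j (s1 n y) (s1 n x) (g : Mat)) := by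
  rw [adj_blk, adj_of_mem hg, s1_inv, s1_inv, smul_smul, e1_s1, e1_s1,
    show e1 n F x * e1 n F y * (-e1 n F y * -e1 n F x) = 1 by
      linear_combination (e1 n F y * e1 n F y) * (sg1 (F := F)).sq x + (sg1 (F := F)).sq y, one_smul]

theorem blk_cj (j : Fin t) (g : GL (Fin t → Ix n) F) (x y p q : Ix n) :
    blk j x y (cj g (sx j p q)) =
      blk j x p (g : Mat) * blk j q y ((g⁻¹ : GL (Fin t → Ix n) F) : Mat) := by
  rw [blk_mul_blk]; rfl

theorem cm_one (j : Fin t) : Cm j (1 : Mat) := fun u v => by rw [mul_one, one_mul]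

theorem cm_zero (j : Fin t) : Cm j (0 : Mat) := fun u v => by rw [mul_zero, zero_mul]

theorem Cm.smul {j : Fin t} {X : Mat} (h : Cm j X) (c : F) : Cm j (c • X) := fun u v => by
  rw [Matrix.mul_smul, Matrix.smul_mul, h]

theorem Cm.add {j : Fin t} {X Y : Mat} (h : Cm j X) (h' : Cm j Y) : Cm j (X + Y) := fun u v => by
  rw [mul_add, add_mul, h, h']

theorem Cm.neg {j : Fin t} {X : Mat} (h : Cm j X) : Cm j (-X) := fun u v => by rw [mul_neg, neg_mul, h]

theorem Cm.mul {j : Fin t} {X Y : Mat} (h : Cm j X) (h' : Cm j Y) : Cm j (X * Y) := fun u v => by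
  rw [← mul_assoc, h, mul_assoc, h', mul_assoc]

theorem sxm_mul {j : Fin t} {X : Mat} (h : Cm j X) (p q p' q' : Ix n) (X' : Mat) :
    sx j p q * X * (sx j p' q' * X') = if q = p' then sx j p q' * (X * X') else 0 := by
  rw [mul_assoc, ← mul_assoc X, ← h, mul_assoc (sx j p' q'), ← mul_assoc (sx j p q), sx_mul]
  split_ifs <;> simp

/-- the blocks of an element commuting with the root -/
theorem root_shape {j : Fin t} {X : Mat} (h : X * sx j 0 1 = sx j 0 1 * X) :
    (∀ y, y ≠ 1 → blk j 1 y X = 0) ∧ (∀ x, x ≠ 0 → blk j x 0 X = 0) ∧ blk j 1 1 X = blk j 0 0 X := by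
  have E : ∀ x y, (if y = 1 then blk j x 0 X else 0) = if x = 0 then blk j 1 y X else 0 := fun x y => by
    have := congrArg (blk j x y) h
    rwa [blk_sx_left, blk_sx_right] at this
  exact ⟨fun y hy => by simpa [hy] using (E 0 y).symm, fun x hx => by simpa [hx] using E x 1,
    by simpa using (E 0 1).symm⟩

theorem inv_comm {g : GL (Fin t → Ix n) F} {X : Mat} (h : (g : Mat) * X = X * (g : Mat)) :
    ((g⁻¹ : GL (Fin t → Ix n) F) : Mat) * X = X * ((g⁻¹ : GL (Fin t → Ix n) F) : Mat) :=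
  (show Commute (g : Mat) X from h).units_inv_left.eq

/-- the cofactors of roots are scalar -/
def Scal (M : Subgroup (GL (Fin t → Ix n) F)) : Prop :=
  ∀ (j : Fin t) (C : Matrix (Fin t → Ix n) (Fin t → Ix n) F), Cm j C → Mem1 M (sx j 0 1 * C) → ∃ c : F, C = c • 1

/-- the setting -/
structure SCtx [Fintype F] (M : Subgroup (GL (Fin t → Ix n) F)) : Prop where
  dich : (2 : F) ≠ 0 ∨ ((2 : F) = 0 ∧ 2 ≤ n)
  hq : 1 ≤ n ∨ 3 < Fintype.card F
  base : HasSBase M
  sim : 3 ≤ t → HasSSim M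
  perms : 3 ≤ t → HasSPerms M
  le : M ≤ uT n t F
  scal : Scal M

theorem scal_of_proper [Fintype F] (h2 : (2 : F) ≠ 0) {M : Subgroup (GL (Fin (s + 1) → Ix n) F)} (hB : HasSBase M)
    (hP : HasSPerms M) (hM : M ≤ uT n (s + 1) F) (ht : Odd (s + 1)) (hne : ¬ uT n (s + 1) F ≤ M) : Scal M := by
  intro j C hC hm
  obtain ⟨Z, rfl⟩ := eq_emb j hC
  by_contra hcon
  push Not at hcon
  refine hne (le_of_nonscalar h2 hB hP hM ht (mem_smallS.2 hm) fun c hc => hcon c ?_)
  rw [hc, map_smul, map_one]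

/-! ### one middle component -/

/-- a middle component and its partner -/
def vel (j : Fin t) (a : Ix n) (X Y : Mat) : Mat :=
  sx j a 1 * X + e1 n F a • (sx j 0 (s1 n a) * adj (eT n t F) (sT n t) X) + sx j 0 1 * Y

theorem vel_add (j : Fin t) (a : Ix n) (X Y X' Y' : Mat) :
    vel j a (X + X') (Y + Y') = vel j a X Y + vel j a X' Y' := by
  simp only [vel, adj_add, mul_add, smul_add]; abel

theorem vel_neg (j : Fin t) (a : Ix n) (X Y : Mat) : vel j a (-X) (-Y) = -vel j a X Y := by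
  simp only [vel, adj_neg, mul_neg, smul_neg]; abel

theorem vel_mul {j : Fin t} {a : Ix n} (ha0 : a ≠ 0) (ha1 : a ≠ 1) {X Y : Mat} (hX : Cm j X) (hY : Cm j Y)
    (X' Y' : Mat) : vel j a X Y * vel j a X' Y' = 0 := by
  obtain ⟨hb0, hb1⟩ := s1_mid ha0 ha1
  simp only [vel, add_mul, mul_add, Matrix.smul_mul, Matrix.mul_smul, sxm_mul hX, sxm_mul hY, sxm_mul (cm_adj hX),
    if_neg ha1.symm, if_neg (show (1 : Ix n) ≠ 0 by simp), if_neg hb0, if_neg (s1_ne a), smul_zero, add_zero]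

variable [Fintype F] {M : Subgroup (GL (Fin t → Ix n) F)}

/-- the middle components occurring in `M` -/
def midG (M : Subgroup (GL (Fin t → Ix n) F)) (j : Fin t) (a : Ix n) (ha0 : a ≠ 0) (ha1 : a ≠ 1) :
    AddSubgroup Mat where
  carrier := {X | Cm j X ∧ ∃ Y, Cm j Y ∧ Mem1 M (vel j a X Y)}
  zero_mem' := ⟨cm_zero j, 0, cm_zero j, by simpa [vel, adj_zero] using (Mem1.zero (M := M))⟩
  add_mem' := by
    rintro X X' ⟨hX, Y, hY, hm⟩ ⟨hX', Y', hY', hm'⟩
    refine ⟨hX.add hX', Y + Y', hY.add hY', ?_⟩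
    have hn := hm'.neg (vel_mul ha0 ha1 hX' hY' _ _)
    rw [vel_add]
    simpa using hm.sub hn (by rw [mul_neg, vel_mul ha0 ha1 hX hY, neg_zero])
      (by rw [neg_mul_neg, vel_mul ha0 ha1 hX' hY'])
  neg_mem' := by
    rintro X ⟨hX, Y, hY, hm⟩
    exact ⟨hX.neg, -Y, hY.neg, by rw [vel_neg]; exact hm.neg (vel_mul ha0 ha1 hX hY _ _)⟩

theorem mem_midG {j : Fin t} {a : Ix n} {ha0 : a ≠ 0} {ha1 : a ≠ 1} {X : Mat} :
    X ∈ midG M j a ha0 ha1 ↔ Cm j X ∧ ∃ Y, Cm j Y ∧ Mem1 M (vel j a X Y) := Iff.rfl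

variable (h : SCtx M) {j : Fin t} {a : Ix n} {ha0 : a ≠ 0} {ha1 : a ≠ 1}
include h

theorem SCtx.cj_midG {B : Fin t → GL (Ix n) F} (hB : ∀ l, B l ∈ u1 n F) {X : Mat}
    (hX : X ∈ midG M j a ha0 ha1) : cj (pureGL B) X ∈ midG M j a ha0 ha1 := by
  obtain ⟨hXc, Y, hY, hm⟩ := hX
  set B' := Function.update B j 1 with hB'
  have hsplit : pureGL B = pureGL B' * sl j (B j) := by
    rw [show sl j (B j) = pureGL (Pi.mulSingle j (B j)) from rfl, pureGL_mul]
    congr 1
    funext l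
    rcases eq_or_ne l j with rfl | hl
    · simp [hB']
    · simp [hB', hl]
  have hB'u : ∀ l, B' l ∈ u1 n F := fun l => by
    rcases eq_or_ne l j with rfl | hl
    · simp [hB']
    · simpa [hB', hl] using hB l
  have hsx : ∀ p q, cj (pureGL B') (sx j p q) = (sx j p q : Mat) := fun p q => by
    rw [sx, cj_pureGL_slot, hB', Function.update_self]; simp [cj]
  rw [hsplit, ← cj_cj, cj_eq_self (g := sl j (B j)) (X := X) (by rw [sl_coe]; exact comm_slot_of_units hXc _)]
  refine ⟨cm_cj hsx hXc, cj (pureGL B') Y, cm_cj hsx hY, ?_⟩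
  have := hm.conj (h.base.pure_mem _ hB'u)
  rwa [vel, cj_add, cj_add, cj_smul, cj_mul, cj_mul, cj_mul, hsx, hsx, hsx,
    ← adj_cj (pureGL_mem_uT hB'u)] at this

theorem SCtx.smul_one_midG (c : F) : c • (1 : Mat) ∈ midG M j a ha0 ha1 := by
  refine ⟨(cm_one j).smul c, 0, cm_zero j, sl j (eta a ha0 ha1 c), h.base.sl_mem j (eta_mem ha0 ha1 c), ?_⟩
  rw [sl_coe, eta_coe, etaN, slot_add, slot_one, slot_add, slot_single_smul, slot_single_smul, vel, mul_zero, add_zero,
    adj_smul, adj_one sgT, Matrix.mul_smul, Matrix.mul_smul, mul_one, mul_one, smul_smul]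

/-- partners have the same components -/
theorem SCtx.midG_partner {X : Mat} (hX : X ∈ midG M j a ha0 ha1) :
    X ∈ midG M j (s1 n a) (s1_mid ha0 ha1).1 (s1_mid ha0 ha1).2 := by
  obtain ⟨hXc, Y, hY, hm⟩ := hX
  rw [← neg_mem_iff]
  refine ⟨hXc.neg, Y, hY, ?_⟩
  have e1' : cj (midW a F) (Matrix.single a 1 (1 : F)) = -Matrix.single (s1 n a) (1 : Ix n) 1 := by
    rw [cj_unit (midW_mem a), s1_one, midW, mono_mulVec_single, mono_mulVec_single, Equiv.swap_apply_left,
      Equiv.swap_apply_of_ne_of_ne (Ne.symm ha0) (s1_mid ha0 ha1).1.symm, wmd, wmd, if_pos rfl, if_neg (Ne.symm ha0),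
      Units.val_neg, Units.val_one, dual_e0, e1_one, vecMulVec_neg, vmv_single2, neg_one_smul, neg_neg, mul_one,
      ← Matrix.single_neg]
  have e2' : cj (midW a F) (Matrix.single 0 (s1 n a) (1 : F)) = Matrix.single (0 : Ix n) a 1 := by
    rw [cj_unit (midW_mem a), s1_inv, midW, mono_mulVec_single, mono_mulVec_single, Equiv.swap_apply_left,
      Equiv.swap_apply_of_ne_of_ne (Ne.symm ha0) (s1_mid ha0 ha1).1.symm, wmd, wmd, if_pos rfl, if_neg (Ne.symm ha0),
      Units.val_neg, Units.val_one, dual_single sg1, s1_inv, e1_s1, vmv_single2, Matrix.smul_single, smul_eq_mul]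
    congr 1
    linear_combination (sg1 (F := F)).sq a
  have e3' : cj (midW a F) (Matrix.single 0 1 (1 : F)) = Matrix.single (0 : Ix n) 1 1 := by
    rw [cj_unit (midW_mem a), s1_one, midW, mono_mulVec_single,
      Equiv.swap_apply_of_ne_of_ne (Ne.symm ha0) (s1_mid ha0 ha1).1.symm, wmd, if_neg (Ne.symm ha0), Units.val_one,
      dual_e0, e1_one, vecMulVec_neg, vmv_single2, neg_one_smul, neg_neg, one_mul]
  have hfix : ∀ {C : Mat}, Cm j C → cj (sl j (midW a F)) C = C := fun {C} hC =>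
    cj_eq_self (by rw [sl_coe]; exact comm_slot_of_units hC _)
  have := hm.conj (h.base.sl_mem j (midW_mem a))
  rw [vel, cj_add, cj_add, cj_smul, cj_mul, cj_mul, cj_mul, hfix hXc, hfix hY, hfix (cm_adj hXc), sx, cj_sl_slot, e1',
    sx, cj_sl_slot, e2', sx, cj_sl_slot, e3', ← slotHom_apply, map_neg, slotHom_apply, neg_mul] at this
  rw [vel, mul_neg, adj_neg, mul_neg, smul_neg, s1_inv, e1_s1, neg_smul, neg_neg]
  exact this

/-- the commutator of two partners -/
theorem SCtx.mid_comm {X X' : Mat} (hX : X ∈ midG M j a ha0 ha1)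
    (hX' : X' ∈ midG M j (s1 n a) (s1_mid ha0 ha1).1 (s1_mid ha0 ha1).2) :
    ∃ c : F, adj (eT n t F) (sT n t) X * X' + adj (eT n t F) (sT n t) X' * X = c • 1 := by
  obtain ⟨hXc, Y, hY, hm⟩ := hX
  obtain ⟨hXc', Y', hY', hm'⟩ := hX'
  obtain ⟨hb0, hb1⟩ := s1_mid ha0 ha1
  set T := adj (eT n t F) (sT n t) X * X' + adj (eT n t F) (sT n t) X' * X with hT
  have h10 : (1 : Ix n) ≠ 0 := by simp
  have hVW : vel j a X Y * vel j (s1 n a) X' Y' =
      e1 n F a • (sx j 0 1 * (adj (eT n t F) (sT n t) X * X')) := by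
    simp only [vel, add_mul, mul_add, Matrix.smul_mul, Matrix.mul_smul, sxm_mul hXc, sxm_mul hY, sxm_mul (cm_adj hXc),
      if_true, if_neg hb0, if_neg h10, if_neg hb1.symm, smul_zero, add_zero, zero_add]
  have hWV : vel j (s1 n a) X' Y' * vel j a X Y =
      -(e1 n F a • (sx j 0 1 * (adj (eT n t F) (sT n t) X' * X))) := by
    simp only [vel, s1_inv a, add_mul, mul_add, Matrix.smul_mul, Matrix.mul_smul, sxm_mul hXc', sxm_mul hY',
      sxm_mul (cm_adj hXc'), if_true, if_neg ha0, if_neg h10, if_neg ha1.symm, smul_zero, add_zero, zero_add,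
      e1_s1, neg_smul, neg_mul, mul_neg, smul_neg, neg_zero]
  have hz : ∀ (C : Mat) (b : Ix n) (U V : Mat), b ≠ 0 → b ≠ 1 → Cm j C → sx j 0 1 * C * vel j b U V = 0 :=
    fun C b U V b0 b1 hC => by
      simp only [vel, mul_add, Matrix.mul_smul, sxm_mul hC, if_neg b1.symm, if_neg h10, smul_zero, add_zero]
  have hmem := comm_two_sided hm hm' (vel_mul ha0 ha1 hXc hY _ _) (vel_mul hb0 hb1 hXc' hY' _ _)
    (by rw [hVW, Matrix.smul_mul, hz _ a X Y ha0 ha1 ((cm_adj hXc).mul hXc'), smul_zero])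
    (by rw [hWV, neg_mul, Matrix.smul_mul, hz _ (s1 n a) X' Y' hb0 hb1 ((cm_adj hXc').mul hXc), smul_zero, neg_zero])
  rw [hVW, hWV, sub_neg_eq_add, ← smul_add, ← mul_add, ← Matrix.mul_smul] at hmem
  obtain ⟨c, hc⟩ := h.scal j _ ((((cm_adj hXc).mul hXc').add ((cm_adj hXc').mul hXc)).smul _) hmem
  refine ⟨e1 n F a * c, ?_⟩
  rw [mul_smul, ← hc, smul_smul, sg1.sq, one_smul]

/-- the components are scalar: characteristic two -/
theorem SCtx.midG_scalar_two (h2 : (2 : F) = 0) (hn : 2 ≤ n) {X : Mat} (hX : X ∈ midG M j a ha0 ha1) :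
    ∃ c : F, X = c • 1 := by
  classical
  by_contra hcon
  push Not at hcon
  have hneg : ∀ x : F, -x = x := fun x => by linear_combination -x * h2
  obtain ⟨L, κ, d, hL, hd, hκ, hPm⟩ := fix_pattern h.dich (midG M j a ha0 ha1)
    (fun B hB P hP => h.cj_midG hB hP) hX hcon
  obtain ⟨r, hrL⟩ := hL
  set P : Mat := pat L κ d with hPdef
  have hPs : adj (eT n t F) (sT n t) P = P := by
    rw [hPdef, pat, adj_smul, adj_pure]
    congr 2
    funext l
    by_cases hl : l ∈ L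
    · simp only [hl, Finset.piecewise, if_true, pt]
      split_ifs with h0
      · rw [adj_single sg1, s1_one, s1_zero, e1_zero, e1_one, hneg 1, one_mul, one_mul]
      · exact adj_za _
    · simp [hl, Finset.piecewise, adj_one sg1]
  set Wg : Fin t → GL (Ix n) F := fun l =>
    if l = r ∧ κ l ≠ 0 then wl n F * midW (κ l) F else if l ∈ L then wk (κ l) F else 1 with hWg
  have hWu : ∀ l, Wg l ∈ u1 n F := fun l => by
    simp only [hWg]
    split_ifs <;> [exact mul_mem wl_mem (midW_mem _); exact wk_mem _; exact one_mem _]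
  set Qf : Fin t → Matrix (Ix n) (Ix n) F :=
    fun l => cj (Wg l) ((L.piecewise (fun l => pt (F := F) (κ l)) 1 : Fin t → Matrix (Ix n) (Ix n) F) l) with hQf
  have hQ : cj (pureGL Wg) P = d • CfsgLib.Perm.Asch.pure Qf := by
    rw [hPdef, pat, cj_smul, cj_pureGL]
  have hQs : adj (eT n t F) (sT n t) (cj (pureGL Wg) P) = cj (pureGL Wg) P := by
    rw [adj_cj (pureGL_mem_uT hWu), hPs]
  obtain ⟨k, hk⟩ := h.mid_comm hPm (h.midG_partner (h.cj_midG hWu hPm))
  rw [hPs, hQs, hQ, hPdef, pat, Matrix.smul_mul, Matrix.mul_smul, Matrix.smul_mul, Matrix.mul_smul, pure_mul,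
    pure_mul] at hk
  have hoth : ∀ l ∈ L, ¬ (l = r ∧ κ l ≠ 0) → Qf l = qt (κ l) := fun l hl hc => by
    simp only [hQf, hWg]
    rw [if_neg hc, if_pos hl, Finset.piecewise_eq_of_mem _ _ _ hl, cj_wk_pt (hκ l)]
  have hout : ∀ l, l ∉ L → Qf l = 1 := fun l hl => by
    simp only [hQf]
    rw [Finset.piecewise_eq_of_notMem _ _ _ hl, Pi.one_apply, cj_one]
  have hrQ : κ r ≠ 0 → Qf r = Matrix.single 1 (κ r) 1 + Matrix.single (s1 n (κ r)) 0 1 := fun h0 => by
    simp only [hQf, hWg]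
    rw [if_pos ⟨trivial, h0⟩, Finset.piecewise_eq_of_mem _ _ _ hrL, pt, if_neg h0, ← cj_cj,
      show cj (midW (κ r) F) (za (κ r) : Matrix (Ix n) (Ix n) F) = qt (κ r) by
        have := cj_wk_pt (F := F) (hκ r)
        rwa [wk, if_neg h0, pt, if_neg h0] at this,
      qt, if_neg h0, cj_neg, ← wed_e0, cj_wed wl_mem, wl_e0,
      show (wl n F : Matrix (Ix n) (Ix n) F) *ᵥ Pi.single (s1 n (κ r)) 1 = Pi.single (s1 n (κ r)) 1 by
        rw [wl, mono_mulVec_single, Equiv.swap_apply_of_ne_of_ne (s1_mid h0 (hκ r)).1 (s1_mid h0 (hκ r)).2, wd,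
          if_neg (s1_mid h0 (hκ r)).2, Units.val_one],
      wed, dual_e1', dual_single sg1, s1_inv, e1_two h2, mul_one, vmv_single2, vmv_single2, mul_one]
    ext x y
    simp [hneg, sub_eq_add_neg]
  let y : Fin t → Ix n := fun l => if l ∈ L ∧ κ l ≠ 0 ∧ l ≠ r then 1 else 0
  have hA : ∀ l, ((L.piecewise (fun l => pt (F := F) (κ l)) 1 : Fin t → Matrix (Ix n) (Ix n) F) l *
      Qf l : Matrix (Ix n) (Ix n) F) 0 (y l) ≠ 0 := by
    intro l
    by_cases hl : l ∈ L
    · rw [Finset.piecewise_eq_of_mem _ _ _ hl]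
      by_cases hc : l = r ∧ κ l ≠ 0
      · obtain ⟨rfl, h0⟩ := hc
        obtain ⟨hs0, hs1⟩ := s1_mid h0 (hκ l)
        rw [hrQ h0, pt, if_neg h0, za]
        simp [y, sub_mul, mul_add, Matrix.single_mul_single_of_ne, h0, Ne.symm h0, hs0.symm, hs1, hs1.symm,
          e1_ne, hκ l, Ne.symm (hκ l)]
      rw [hoth l hl hc]
      by_cases h0 : κ l = 0
      · simp [y, hl, h0, pt, qt]
      · have hlr : l ≠ r := fun e => hc ⟨e, h0⟩
        simp [y, hl, h0, hlr, pt, qt, za_mul h0 (hκ l), e1_ne]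
    · simp [y, hl, Finset.piecewise, hout l hl]
  have hB0 : ((Qf r) * (L.piecewise (fun l => pt (F := F) (κ l)) 1 : Fin t → Matrix (Ix n) (Ix n) F) r :
      Matrix (Ix n) (Ix n) F) 0 (y r) = 0 := by
    rw [Finset.piecewise_eq_of_mem _ _ _ hrL]
    by_cases h0 : κ r = 0
    · rw [hoth r hrL fun e => e.2 h0]
      simp [y, h0, pt, qt]
    · obtain ⟨hs0, hs1⟩ := s1_mid h0 (hκ r)
      rw [hrQ h0, pt, if_neg h0, za]
      simp [y, add_mul, mul_sub, Matrix.single_mul_single_of_ne, h0, Ne.symm h0, hs0, hs0.symm, hs1, hs1.symm, hκ r,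
        Ne.symm (hκ r)]
  have key := congrFun (congrFun hk fun _ => 0) y
  simp only [Matrix.add_apply, Matrix.smul_apply, pure_apply, Pi.mul_apply, smul_eq_mul] at key
  rw [Finset.prod_eq_zero (f := fun l => (Qf l *
      (L.piecewise (fun l => pt (F := F) (κ l)) 1 : Fin t → Matrix (Ix n) (Ix n) F) l) 0 (y l)) (Finset.mem_univ r)
    hB0] at key
  have hk0 : k ≠ 0 := fun e => by
    rw [e, zero_mul, mul_zero, mul_zero, add_zero] at key
    exact mul_ne_zero hd (mul_ne_zero hd (Finset.prod_ne_zero_iff.2 fun l _ => hA l)) key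
  -- a middle index outside the pair
  obtain ⟨c, hc0, hc1, hcκ, hcs⟩ : ∃ c : Ix n, c ≠ 0 ∧ c ≠ 1 ∧ c ≠ κ r ∧ c ≠ s1 n (κ r) := by
    have h24 : ∀ c : Ix n, (c : ℕ) = 2 ∨ (c : ℕ) = 4 → c ≠ 0 ∧ c ≠ 1 := fun c hc =>
      ⟨fun e => by simp [e] at hc, fun e => by simp [e] at hc⟩
    by_cases e : (κ r : ℕ) = 2 ∨ (s1 n (κ r) : ℕ) = 2
    · refine ⟨⟨4, by omega⟩, (h24 _ (Or.inr rfl)).1, (h24 _ (Or.inr rfl)).2, fun e' => ?_, fun e' => ?_⟩ <;>
      · have := congrArg Fin.val e'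
        rw [s1_val] at e
        try rw [s1_val] at this
        simp only at this
        split_ifs at e this <;> omega
    · push Not at e
      refine ⟨⟨2, by omega⟩, (h24 _ (Or.inl rfl)).1, (h24 _ (Or.inl rfl)).2, fun e' => e.1 ?_, fun e' => e.2 ?_⟩ <;>
        rw [← e']
  refine hk0 ?_
  let z : Fin t → Ix n := Function.update (fun _ => 0) r c
  have key' := congrFun (congrFun hk z) z
  simp only [Matrix.add_apply, Matrix.smul_apply, pure_apply, Pi.mul_apply, smul_eq_mul, Matrix.one_apply_eq] at key'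
  rw [Finset.prod_eq_zero (Finset.mem_univ r), Finset.prod_eq_zero (Finset.mem_univ r)] at key'
  · simpa using key'.symm
  · rw [Finset.piecewise_eq_of_mem _ _ _ hrL]
    by_cases h0 : κ r = 0
    · rw [hoth r hrL fun e => e.2 h0]
      simp [z, h0, pt, qt, hc0, hc0.symm, hc1, hc1.symm]
    · rw [hrQ h0, pt, if_neg h0, za]
      simp [z, add_mul, mul_sub, Matrix.single_apply, Matrix.single_mul_single_of_ne, hc0, hc0.symm, hc1, hc1.symm,
        hcκ, hcκ.symm, hcs, hcs.symm, h0, Ne.symm h0, (s1_mid h0 (hκ r)).2, (s1_mid h0 (hκ r)).1]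
  · rw [Finset.piecewise_eq_of_mem _ _ _ hrL]
    by_cases h0 : κ r = 0
    · rw [hoth r hrL fun e => e.2 h0]
      simp [z, h0, pt, qt, hc0, hc0.symm, hc1, hc1.symm]
    · rw [hrQ h0, pt, if_neg h0, za]
      simp [z, sub_mul, mul_add, Matrix.single_apply, Matrix.single_mul_single_of_ne, hc0, hc0.symm, hc1, hc1.symm,
        hcκ, hcκ.symm, hcs, hcs.symm, h0, Ne.symm h0, hκ r, Ne.symm (hκ r)]

/-- the components are scalar -/
theorem SCtx.midG_scalar {X : Mat} (hX : X ∈ midG M j a ha0 ha1) : ∃ c : F, X = c • 1 := by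
  classical
  rcases h.dich with h2 | ⟨h2, hn⟩
  swap
  · exact h.midG_scalar_two h2 hn hX
  by_contra hcon
  push Not at hcon
  let S : AddSubgroup Mat :=
    { carrier := {X | X ∈ midG M j a ha0 ha1 ∧ adj (eT n t F) (sT n t) X = -X}
      zero_mem' := ⟨zero_mem _, by rw [adj_zero, neg_zero]⟩
      add_mem' := by
        rintro P Q ⟨hP, hP'⟩ ⟨hQ, hQ'⟩
        exact ⟨add_mem hP hQ, by rw [adj_add, hP', hQ', neg_add]⟩
      neg_mem' := by
        rintro P ⟨hP, hP'⟩
        exact ⟨neg_mem hP, by rw [adj_neg, hP', neg_neg]⟩ }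
  obtain ⟨c, hc⟩ := h.mid_comm hX (h.midG_partner (h.smul_one_midG (a := a) (j := j) (ha0 := ha0) (ha1 := ha1) 1))
  rw [one_smul, adj_one sgT, one_mul, mul_one] at hc
  set Z := X - ((2 : F)⁻¹ * c) • (1 : Mat) with hZdef
  have hZ : Z ∈ S := by
    refine ⟨sub_mem hX (h.smul_one_midG _), ?_⟩
    rw [hZdef, adj_sub, adj_smul, adj_one sgT, eq_neg_iff_add_eq_zero,
      show adj (eT n t F) (sT n t) X - ((2 : F)⁻¹ * c) • (1 : Mat) + (X - ((2 : F)⁻¹ * c) • 1) =
        (adj (eT n t F) (sT n t) X + X) - ((2 : F) * ((2 : F)⁻¹ * c)) • 1 by rw [mul_smul (2 : F), two_smul]; abel,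
      hc, ← mul_assoc, mul_inv_cancel₀ h2, one_mul, sub_self]
  have hne : ∀ d : F, Z ≠ d • 1 := fun d hd => hcon (d + (2 : F)⁻¹ * c) (by rw [add_smul, ← hd, hZdef, sub_add_cancel])
  obtain ⟨L, κ, d, hL, hd, hκ, hPm, hPs⟩ := fix_pattern h.dich S (fun B hB P hP =>
    ⟨h.cj_midG hB hP.1, by rw [adj_cj (pureGL_mem_uT hB), hP.2, cj_neg]⟩) hZ hne
  set P : Mat := pat L κ d with hPdef
  set Wg : Fin t → GL (Ix n) F := fun l => if l ∈ L then wk (κ l) F else 1 with hWg
  have hWu : ∀ l, Wg l ∈ u1 n F := fun l => by simp only [hWg]; split_ifs <;> [exact wk_mem _; exact one_mem _]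
  have hQ : cj (pureGL Wg) P = d • CfsgLib.Perm.Asch.pure (fun l => if l ∈ L then qt (κ l) else 1) := by
    rw [hPdef, pat, cj_smul, cj_pureGL]
    congr 2
    funext l
    by_cases hl : l ∈ L <;> simp [hWg, hl, Finset.piecewise, cj_wk_pt (hκ l), cj_one]
  obtain ⟨k, hk⟩ := h.mid_comm hPm (h.midG_partner (h.cj_midG hWu hPm))
  rw [hPs, adj_cj (pureGL_mem_uT hWu), hPs, cj_neg, hQ, neg_mul, neg_mul] at hk
  -- a root among the factors
  obtain ⟨r, hrL, hr⟩ : ∃ r ∈ L, κ r = 0 := by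
    by_contra hall
    push Not at hall
    have e : adj (eT n t F) (sT n t) P = P := by
      rw [hPdef, pat, adj_smul, adj_pure]
      congr 2
      funext l
      by_cases hl : l ∈ L
      · simp [hl, Finset.piecewise, pt, hall l hl, adj_za]
      · simp [hl, Finset.piecewise, adj_one sg1]
    rw [hPs, neg_eq_iff_add_eq_zero, ← two_smul F, smul_eq_zero] at e
    have hxy : ∀ l, ∃ x y, (L.piecewise (fun l => pt (F := F) (κ l)) 1 : Fin t → Matrix (Ix n) (Ix n) F) l x y ≠ 0 :=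
      fun l => by
        by_cases hl : l ∈ L
        · simpa [hl, Finset.piecewise] using pt_ne_zero (F := F) (hκ l)
        · exact ⟨0, 0, by simp [hl, Finset.piecewise]⟩
    choose x y hxy using hxy
    have h0 := congrFun (congrFun (e.resolve_left h2) x) y
    rw [hPdef, pat, Matrix.smul_apply, pure_apply, Matrix.zero_apply, smul_eq_mul] at h0
    exact mul_ne_zero hd (Finset.prod_ne_zero_iff.2 fun l _ => hxy l) h0
  rw [hPdef, pat, Matrix.smul_mul, Matrix.mul_smul, Matrix.smul_mul, Matrix.mul_smul, pure_mul, pure_mul] at hk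
  let y : Fin t → Ix n := fun l => if l ∈ L ∧ κ l ≠ 0 then 1 else 0
  have hA : ∀ l, ((L.piecewise (fun l => pt (F := F) (κ l)) 1 : Fin t → Matrix (Ix n) (Ix n) F) l *
      ((if l ∈ L then qt (κ l) else 1) : Matrix (Ix n) (Ix n) F) : Matrix (Ix n) (Ix n) F) 0 (y l) ≠ 0 := by
    intro l
    by_cases hl : l ∈ L
    · by_cases h0 : κ l = 0
      · simp [y, hl, h0, Finset.piecewise, pt, qt]
      · simp [y, hl, h0, Finset.piecewise, pt, qt, za_mul h0 (hκ l), e1_ne]
    · simp [y, hl, Finset.piecewise]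
  have key := congrFun (congrFun hk fun _ => 0) y
  simp only [Matrix.add_apply, Matrix.neg_apply, Matrix.smul_apply, pure_apply, Pi.mul_apply, smul_eq_mul] at key
  rw [Finset.prod_eq_zero (f := fun l => (((if l ∈ L then qt (κ l) else 1) : Matrix (Ix n) (Ix n) F) *
      (L.piecewise (fun l => pt (F := F) (κ l)) 1 : Fin t → Matrix (Ix n) (Ix n) F) l) 0 (y l)) (Finset.mem_univ r)
    (by simp [y, hrL, hr, Finset.piecewise, pt, qt])] at key
  have hk0 : k ≠ 0 := fun e => by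
    rw [e, zero_mul, mul_zero, mul_zero, neg_zero, add_zero, neg_eq_zero] at key
    exact mul_ne_zero hd (mul_ne_zero hd (Finset.prod_ne_zero_iff.2 fun l _ => hA l)) key
  refine hk0 ?_
  let z : Fin t → Ix n := Function.update (fun _ => 0) r a
  have key' := congrFun (congrFun hk z) z
  simp only [Matrix.add_apply, Matrix.neg_apply, Matrix.smul_apply, pure_apply, Pi.mul_apply, smul_eq_mul,
    Matrix.one_apply_eq] at key'
  rw [Finset.prod_eq_zero (Finset.mem_univ r), Finset.prod_eq_zero (Finset.mem_univ r)] at key'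
  · simpa using key'.symm
  · simp [z, hrL, hr, Finset.piecewise, pt, qt, ha0.symm, ha1.symm]
  · simp [z, hrL, hr, Finset.piecewise, pt, qt, ha0.symm, ha1.symm]

/-- the middle blocks of a unipotent element of `M` are scalar -/
theorem SCtx.mid_scalar {G : GL (Fin t → Ix n) F} (hG : G ∈ M) {W : Mat} (hGe : (G : Mat) = 1 + W)
    (hWW : W * W = 0) (h0 : ∀ x, blk j x 0 W = 0) (h1 : ∀ y, blk j 1 y W = 0)
    (hm : ∀ x y, x ≠ 0 → x ≠ 1 → y ≠ 0 → y ≠ 1 → blk j x y W = 0) (b0 : a ≠ 0) (b1 : a ≠ 1) :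
    ∃ c : F, blk j a 1 W = c • 1 := by
  obtain ⟨hb0, hb1⟩ := s1_mid b0 b1
  have hdag : blk j 0 (s1 n a) W = e1 n F a • adj (eT n t F) (sT n t) (blk j a 1 W) := by
    rw [adj_blk, adj_of_one_add (h.le hG) hGe hWW, s1_one, e1_one,
      show blk j 0 (s1 n a) (-W) = -blk j 0 (s1 n a) W by
        rw [← zero_sub, blk_sub, blk_zero, zero_sub], smul_neg, smul_neg, smul_smul]
    rw [show e1 n F a * (e1 n F a * -1) = -1 by linear_combination -(sg1 (F := F)).sq a, neg_one_smul, neg_neg]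
  have hT : ((sl j (midT a) : GL (Fin t → Ix n) F) : Mat) = 1 + e1 n F a • sx j (s1 n a) a := by
    rw [sl_coe, midT, utv_coe, one_smul, slot_add, slot_one, dual_single sg1, s1_inv, mul_one, vmv_single2, one_mul,
      slot_single_smul]
  have hT2 : (e1 n F a • sx j (s1 n a) a : Mat) * (e1 n F a • sx j (s1 n a) a) = 0 := by
    rw [Matrix.smul_mul, Matrix.mul_smul, sx_mul, if_neg (s1_ne a).symm, smul_zero, smul_zero]
  set E : Mat := sx j (s1 n a) a with hE
  set D := cj (sl j (midT a)) W with hD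
  have hDe : D = W + e1 n F a • (E * W) - e1 n F a • (W * E) - E * W * E := by
    rw [hD, cj, inv_one_add hT hT2, hT]
    simp only [add_mul, mul_sub, one_mul, mul_one, Matrix.mul_smul, Matrix.smul_mul, smul_smul, sg1.sq, one_smul,
      mul_assoc]
    abel
  have hEW : ∀ x y, blk j x y (E * W) = if x = s1 n a then blk j a y W else 0 := fun x y => blk_sx_left j x y _ _ W
  have hWE : ∀ x y, blk j x y (W * E) = if y = a then blk j x (s1 n a) W else 0 := fun x y => blk_sx_right j x y _ _ W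
  have hEWE : E * W * E = 0 := ext_blk j fun x y => by
    rw [blk_sx_right, blk_zero, hEW, hm a (s1 n a) b0 b1 hb0 hb1, ite_self, ite_self]
  rw [hEWE, sub_zero] at hDe
  have hDb : ∀ x y, blk j x y D = blk j x y W + e1 n F a • (if x = s1 n a then blk j a y W else 0) -
      e1 n F a • (if y = a then blk j x (s1 n a) W else 0) := fun x y => by
    rw [hDe, blk_sub, blk_add, blk_smul, blk_smul, hEW, hWE]
  have hDW : ∀ x y, ¬ (x = 0 ∧ y = 1) → blk j x y (D * W) = 0 := fun x y hxy => by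
    rw [← sum_blk_mul]
    refine Finset.sum_eq_zero fun e _ => ?_
    by_cases he1 : e = 1
    · rw [he1, h1, mul_zero]
    by_cases he0 : e = 0
    · rw [he0, hDb, h0, h0, if_neg b0.symm, ite_self]; simp
    by_cases hy : y = 0
    · rw [hy, h0, mul_zero]
    by_cases hy1 : y = 1
    swap
    · rw [hm e y he0 he1 hy hy1, mul_zero]
    have hx : x ≠ 0 := fun hx => hxy ⟨hx, hy1⟩
    by_cases hx1 : x = 1
    · rw [hx1, hDb, h1, h1, if_neg hb1.symm, ite_self]; simp
    · rw [hDb, hm x e hx hx1 he0 he1, hm a e b0 b1 he0 he1, hm x (s1 n a) hx hx1 hb0 hb1, ite_self, ite_self]; simp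
  set V := D - W - D * W with hV
  have hT0 : sl j (midT a) ∈ M := h.base.sl_mem j (utv_mem _ _ _)
  have hVm : Mem1 M V := by
    refine ⟨sl j (midT a) * G * (sl j (midT a))⁻¹ * G⁻¹,
      M.mul_mem (M.mul_mem (M.mul_mem hT0 hG) (M.inv_mem hT0)) (M.inv_mem hG), ?_⟩
    rw [Units.val_mul _ G⁻¹, ← cj_coe, hGe, cj_add, cj_one, inv_one_add hGe hWW, ← hD, hV]
    noncomm_ring
  have hshape : V = vel j (s1 n a) (e1 n F a • blk j a 1 W) (blk j 0 1 V) := by
    refine ext_blk j fun x y => ?_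
    have hc1 : Cm j (e1 n F a • blk j a 1 W) := (cm_blk j a 1 W).smul _
    rw [vel, s1_inv, e1_s1, blk_add, blk_add, blk_smul, blk_right hc1, blk_right (cm_adj hc1),
      blk_right (cm_blk j 0 1 V), blk_sx, blk_sx, blk_sx]
    by_cases hxy : x = 0 ∧ y = 1
    · rw [if_neg (fun e : x = s1 n a ∧ y = 1 => hb0 (e.1.symm.trans hxy.1)),
        if_neg (fun e : x = 0 ∧ y = a => b1 (e.2.symm.trans hxy.2)), if_pos hxy, hxy.1, hxy.2]; simp
    rw [if_neg hxy, zero_mul, add_zero, hV, blk_sub, blk_sub, hDW x y hxy, sub_zero, hDb]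
    by_cases hA : x = s1 n a ∧ y = 1
    · simp [hA.1, hA.2, b1.symm, hb0]
    by_cases hB : x = 0 ∧ y = a
    · simp [hB.1, hB.2, hb0.symm, b1, hdag, adj_smul, smul_smul, sg1.sq]
    rw [if_neg hA, if_neg hB, zero_mul, zero_mul, smul_zero, add_zero]
    have i1 : (if x = s1 n a then blk j a y W else 0) = 0 := by
      split_ifs with hx
      · by_cases hy : y = 0
        · rw [hy, h0]
        exact hm a y b0 b1 hy fun e => hA ⟨hx, e⟩
      · rfl
    have i2 : (if y = a then blk j x (s1 n a) W else 0) = 0 := by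
      split_ifs with hy
      · by_cases hx : x = 1
        · rw [hx, h1]
        exact hm x (s1 n a) (fun e => hB ⟨e, hy⟩) hx hb0 hb1
      · rfl
    rw [i1, i2]; simp
  obtain ⟨c, hc⟩ := h.midG_scalar (a := s1 n a) (ha0 := hb0) (ha1 := hb1)
    ⟨(cm_blk j a 1 W).smul _, _, cm_blk j 0 1 V, hshape ▸ hVm⟩
  refine ⟨e1 n F a * c, ?_⟩
  rw [mul_smul, ← hc, smul_smul, sg1.sq, one_smul]

/-- the blocks of an element commuting with a root are proportional to one of them, apart from one -/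
theorem SCtx.blocks {g : GL (Fin t → Ix n) F} (hg : g ∈ uT n t F)
    (hN : ∀ l, ∀ b ∈ u1 n F, g * sl l b * g⁻¹ ∈ M) {j : Fin t}
    (hc : (g : Mat) * sx j 0 1 = sx j 0 1 * (g : Mat)) (x y : Ix n) (hxy : ¬ (x = 0 ∧ y = 1)) :
    ∃ c : F, blk j x y (g : Mat) = c • blk j 0 0 (g : Mat) := by
  classical
  set B := fun x y => blk j x y (g : Mat) with hB
  set B' := fun x y => blk j x y ((g⁻¹ : GL (Fin t → Ix n) F) : Mat) with hB'
  obtain ⟨hr, hcl, h11⟩ := root_shape hc
  obtain ⟨hr', hcl', h11'⟩ := root_shape (inv_comm hc)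
  have hmul : ∀ x y, ∑ e, B x e * B' e y = if x = y then 1 else 0 := fun x y => by
    rw [hB, hB', sum_blk_mul, gl_mul_inv, blk_one]
  have hBB : B' 0 0 * B 0 0 = 1 := by
    have e := sum_blk_mul j 0 0 ((g⁻¹ : GL (Fin t → Ix n) F) : Mat) (g : Mat)
    rwa [gl_inv_mul, blk_one, if_pos rfl, Finset.sum_eq_single 0 (fun e _ he => by rw [hcl e he, mul_zero]) (by simp)] at e
  have hBB' : B 0 0 * B' 0 0 = 1 := mul_eq_one_comm.1 hBB
  have hadj : ∀ x y, B' x y = (e1 n F x * e1 n F y) • adj (eT n t F) (sT n t) (B (s1 n y) (s1 n x)) :=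
    fun x y => inv_blk hg j x y
  have h00 : adj (eT n t F) (sT n t) (B 0 0) = B' 0 0 := by
    rw [← show B' 1 1 = B' 0 0 from h11', hadj, s1_one, sg1.sq, one_smul]
  -- the middle blocks
  have hmid : ∀ a d, a ≠ 0 → a ≠ 1 → d ≠ 0 → d ≠ 1 → ∃ c : F, B a d = c • B 0 0 := by
    intro a d ha0 ha1 hd0 hd1
    obtain ⟨hd0', hd1'⟩ := s1_mid hd0 hd1
    set W := cj g (slot j (etaN d 1)) with hW
    have hWb : ∀ x y, blk j x y W = B x d * B' 1 y + e1 n F d • (B x 0 * B' (s1 n d) y) := fun x y => by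
      rw [hW, etaN, slot_add, slot_single_smul, slot_single_smul, one_smul, mul_one, cj_add, cj_smul, blk_add, blk_smul,
        blk_cj, blk_cj]
    obtain ⟨c, hc'⟩ := h.mid_scalar (j := j) (a := a)
      (G := g * sl j (eta d hd0 hd1 1) * g⁻¹) (hN j _ (eta_mem hd0 hd1 1))
      (W := W) (by rw [← cj_coe, sl_coe, eta_coe, slot_add, slot_one, cj_add, cj_one])
      (by rw [hW, ← cj_mul, slot_mul, etaN_sq hd0 hd1, slot_zero, TensorPower.cj_zero])
      (fun x => by rw [hWb, show B' 1 0 = 0 from hr' 0 (by simp), show B' (s1 n d) 0 = 0 from hcl' _ hd0']; simp)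
      (fun y => by rw [hWb, show B 1 d = 0 from hr d hd1, show B 1 0 = 0 from hr 0 (by simp)]; simp)
      (fun x y hx0 hx1 hy0 hy1 => by rw [hWb, show B' 1 y = 0 from hr' y hy1, show B x 0 = 0 from hcl x hx0]; simp)
      ha0 ha1
    rw [hWb, show B a 0 = 0 from hcl a ha0, zero_mul, smul_zero, add_zero, show B' 1 1 = B' 0 0 from h11'] at hc'
    exact ⟨c, by rw [← mul_one (B a d), ← hBB, ← mul_assoc, hc', Matrix.smul_mul, one_mul]⟩
  -- the blocks of the first row
  have hcor : ∀ d, d ≠ 0 → d ≠ 1 → (∃ c : F, B 0 d = c • B 0 0) ∧ ∃ c : F, B 0 0 * B' (s1 n d) 1 = c • 1 := by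
    intro d hd0 hd1
    obtain ⟨hd0', hd1'⟩ := s1_mid hd0 hd1
    have hA : ∀ a, ∃ c : F, (a ≠ 0 ∧ a ≠ 1 → B a d = c • B 0 0) ∧ ((a = 0 ∨ a = 1) → c = 0) := fun a => by
      by_cases ha : a ≠ 0 ∧ a ≠ 1
      · obtain ⟨c, hc⟩ := hmid a d ha.1 ha.2 hd0 hd1
        exact ⟨c, fun _ => hc, fun e => (e.elim ha.1 ha.2).elim⟩
      · exact ⟨0, fun e => absurd e ha, fun _ => rfl⟩
    choose v hv hv0 using hA
    have hv' : ∀ y, y ≠ 0 → y ≠ 1 →
        B' (s1 n d) y = (-e1 n F d * e1 n F y * v (s1 n y)) • B' 0 0 := fun y hy0 hy1 => by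
      rw [hadj, s1_inv, hv _ (s1_mid hy0 hy1), adj_smul, smul_smul, e1_s1, h00]
    have hiso : dual (e1 n F) (s1 n) v ⬝ᵥ v = 0 := iso1 v
    set N := vecMulVec v (dual (e1 n F) (s1 n) v) with hNdef
    set A := cj g (slot j (vecMulVec (Pi.single d 1) (dual (e1 n F) (s1 n) (Pi.single d (1 : F))))) with hA
    have hAb : ∀ x y, blk j x y A = (-e1 n F d) • (B x d * B' (s1 n d) y) := fun x y => by
      rw [hA, dual_single sg1, mul_one, e1_s1, vmv_single2, one_mul, slot_single_smul, cj_smul, blk_smul, blk_cj]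
    have hAA : A * A = 0 := by
      rw [hA, ← cj_mul, slot_mul, vmv_dual_sq (iso1 _), slot_zero, TensorPower.cj_zero]
    have hNN : (slot j N : Mat) * slot j N = 0 := by rw [slot_mul, hNdef, vmv_dual_sq hiso, slot_zero]
    have hNb : ∀ x y, blk j x y (slot j N : Mat) = (v x * (e1 n F y * v (s1 n y))) • 1 := fun x y => by
      rw [blk_slot, hNdef, vecMulVec_apply, dual]
    have hsum : ∑ e, e1 n F e * v (s1 n e) * v e = 0 := hiso
    have hAN : A * slot j N = 0 := ext_blk j fun x y => by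
      rw [blk_zero, ← sum_blk_mul]
      have e : ∀ e, blk j x e A * blk j e y (slot j N : Mat) =
          ((e1 n F e * v (s1 n e) * v e) * (e1 n F y * v (s1 n y))) • (B x d * B' 0 0) := fun e => by
        rw [hAb, hNb, Matrix.mul_smul, mul_one, smul_smul]
        by_cases he : e = 0 ∨ e = 1
        · rw [hv0 e he]; simp
        rw [not_or] at he
        rw [hv' e he.1 he.2, Matrix.mul_smul, smul_smul]
        congr 1
        linear_combination (v e * (e1 n F y * v (s1 n y)) * e1 n F e * v (s1 n e)) * (sg1 (F := F)).sq d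
      rw [Finset.sum_congr rfl fun e' _ => e e', ← Finset.sum_smul, ← Finset.sum_mul, hsum, zero_mul, zero_smul]
    have hNA : slot j N * A = 0 := ext_blk j fun x y => by
      rw [blk_zero, ← sum_blk_mul]
      have e : ∀ e, blk j x e (slot j N : Mat) * blk j e y A =
          ((e1 n F e * v (s1 n e) * v e) * (v x * -e1 n F d)) • (B 0 0 * B' (s1 n d) y) := fun e => by
        rw [hAb, hNb, Matrix.smul_mul, one_mul, smul_smul]
        by_cases he : e = 0 ∨ e = 1
        · rcases he with rfl | rfl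
          · rw [hv0 (s1 n 0) (Or.inr s1_zero)]; simp
          · rw [hv0 (s1 n 1) (Or.inl s1_one)]; simp
        rw [not_or] at he
        rw [hv e he, Matrix.smul_mul, smul_smul]
        congr 1
        ring
      rw [Finset.sum_congr rfl fun e' _ => e e', ← Finset.sum_smul, ← Finset.sum_mul, hsum, zero_mul, zero_smul]
    set W := A - slot j N with hW
    have hWb : ∀ x y, blk j x y W =
        (-e1 n F d) • (B x d * B' (s1 n d) y) - (v x * (e1 n F y * v (s1 n y))) • 1 := fun x y => by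
      rw [hW, blk_sub, hAb, hNb]
    have hTm : Mem1 M (slot j N : Mat) := ⟨sl j (utv v hiso 1), h.base.sl_mem j (utv_mem _ _ _), by
      rw [sl_coe, utv_coe, one_smul, slot_add, slot_one]⟩
    have hAm : Mem1 M A := ⟨g * sl j (utv (Pi.single d 1) (iso1 _) 1) * g⁻¹,
      hN j _ (utv_mem _ _ _), by
        rw [← cj_coe, sl_coe, utv_coe, one_smul, slot_add, slot_one, cj_add, cj_one]⟩
    obtain ⟨G, hGM, hGe⟩ : Mem1 M W := hAm.sub hTm hAN hNN
    have hWW : W * W = 0 := by rw [hW, sub_mul, mul_sub, mul_sub, hAA, hAN, hNA, hNN]; simp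
    obtain ⟨a, ha0, ha1, hva⟩ : ∃ a, a ≠ 0 ∧ a ≠ 1 ∧ v a ≠ 0 := by
      by_contra hall
      push Not at hall
      have e := sum_blk_mul j d d ((g⁻¹ : GL (Fin t → Ix n) F) : Mat) (g : Mat)
      rw [gl_inv_mul, blk_one, if_pos rfl, Finset.sum_eq_zero] at e
      · exact one_mat_ne e.symm
      intro e _
      show B' d e * B e d = 0
      by_cases he0 : e = 0
      · rw [he0, show B' d 0 = 0 from hcl' d hd0, zero_mul]
      by_cases he1 : e = 1
      · rw [he1, show B 1 d = 0 from hr d hd1, mul_zero]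
      rw [hv e ⟨he0, he1⟩, hall e he0 he1, zero_smul, mul_zero]
    obtain ⟨c, hc'⟩ := h.mid_scalar (j := j) (a := a) hGM hGe hWW
      (fun x => by rw [hWb, show B' (s1 n d) 0 = 0 from hcl' _ hd0', hv0 (s1 n 0) (Or.inr s1_zero)]; simp)
      (fun y => by rw [hWb, show B 1 d = 0 from hr d hd1, hv0 1 (Or.inr rfl)]; simp)
      (fun x y hx0 hx1 hy0 hy1 => by
        rw [hWb, hv x ⟨hx0, hx1⟩, hv' y hy0 hy1, Matrix.smul_mul, Matrix.mul_smul, hBB', smul_smul, smul_smul,
          sub_eq_zero]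
        congr 1
        linear_combination (v x * e1 n F y * v (s1 n y)) * (sg1 (F := F)).sq d)
      ha0 ha1
    rw [hWb, hv a ⟨ha0, ha1⟩, hv0 (s1 n 1) (Or.inl s1_one), mul_zero, mul_zero, zero_smul, sub_zero, Matrix.smul_mul,
      smul_smul] at hc'
    have hne : -e1 n F d * v a ≠ 0 := mul_ne_zero (neg_ne_zero.2 (e1_ne d)) hva
    have hU : B 0 0 * B' (s1 n d) 1 = ((-e1 n F d * v a)⁻¹ * c) • 1 := by
      rw [mul_smul, ← hc', smul_smul, inv_mul_cancel₀ hne, one_smul]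
    refine ⟨?_, _, hU⟩
    have h1' : B' (s1 n d) 1 = ((-e1 n F d * v a)⁻¹ * c) • B' 0 0 := by
      rw [← one_mul (B' (s1 n d) 1), ← hBB, mul_assoc, hU, Matrix.mul_smul, mul_one]
    rw [hadj, s1_one, s1_inv, e1_s1, e1_one, mul_neg_one, neg_neg, ← h00] at h1'
    have e := congrArg (adj (eT n t F) (sT n t)) h1'
    rw [adj_smul, adj_smul, adj_adj sgT, adj_adj sgT] at e
    refine ⟨e1 n F d * ((-e1 n F d * v a)⁻¹ * c), ?_⟩
    rw [mul_smul, ← e, smul_smul, sg1.sq, one_smul]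
  by_cases hx1 : x = 1
  · subst hx1
    by_cases hy : y = 1
    · subst hy; exact ⟨1, by rw [one_smul]; exact h11⟩
    · exact ⟨0, by rw [zero_smul]; exact hr y hy⟩
  by_cases hy0 : y = 0
  · subst hy0
    by_cases hx : x = 0
    · subst hx; exact ⟨1, (one_smul _ _).symm⟩
    · exact ⟨0, by rw [zero_smul]; exact hcl x hx⟩
  by_cases hx0 : x = 0
  · subst hx0
    exact (hcor y hy0 fun e => hxy ⟨rfl, e⟩).1
  by_cases hy1 : y = 1
  · subst hy1
    have hterm : ∀ e, ∃ c : F, e ≠ 1 → B x e * B' e 1 = c • 1 := by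
      intro e
      by_cases he1 : e = 1
      · exact ⟨0, fun h => absurd he1 h⟩
      by_cases he0 : e = 0
      · exact ⟨0, fun _ => by rw [he0, show B x 0 = 0 from hcl x hx0, zero_mul, zero_smul]⟩
      obtain ⟨α, hα⟩ := hmid x e hx0 hx1 he0 he1
      obtain ⟨β, hβ⟩ := (hcor (s1 n e) (s1_mid he0 he1).1 (s1_mid he0 he1).2).2
      rw [s1_inv] at hβ
      exact ⟨α * β, fun _ => by rw [hα, Matrix.smul_mul, hβ, smul_smul]⟩
    choose γ hγ using hterm
    have e := hmul x 1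
    rw [if_neg hx1, ← Finset.add_sum_erase _ _ (Finset.mem_univ 1),
      Finset.sum_congr rfl (fun e he => hγ e (Finset.ne_of_mem_erase he)), ← Finset.sum_smul,
      show B' 1 1 = B' 0 0 from h11', add_eq_zero_iff_eq_neg] at e
    refine ⟨-(∑ e ∈ Finset.univ.erase 1, γ e), ?_⟩
    show B x 1 = _
    rw [← mul_one (B x 1), ← hBB, ← mul_assoc, e, ← neg_smul, Matrix.smul_mul, one_mul]
  · exact hmid x y hx0 hx1 hy0 hy1

end CfsgLib.Perm.Trans.TensorPowerSp
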