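import Cfsg.Agent.Lib.Perm.Trans.TensorPowerSp.Roots
import Cfsg.Agent.Lib.Perm.Trans.TensorPower.TwoClass

/-!
# A conjugate of a root in the wreath subgroup is a root
-/

set_option autoImplicit false
set_option linter.all false

namespace CfsgLib.Perm.Trans.TensorPowerSp

open scoped Matrix
open Matrix Cfsg.Geo CfsgLib.Perm.Asch CfsgLib.Perm.Trans CfsgLib.Perm.Trans.TensorPower

variable {F : Type*} [Field F]

section Vectors

variable {m t : ℕ}

/-- a vector outside two lines -/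
theorem exists_off_lines (hm : 2 ≤ m) (h2 : (2 : F) ≠ 0) (p q : Fin m → F) :
    ∃ x : Fin m → F, x ∉ Submodule.span F ({p} : Set (Fin m → F)) ∧ x ∉ Submodule.span F ({q} : Set (Fin m → F)) := by
  have htop : ∀ r : Fin m → F, Submodule.span F ({r} : Set (Fin m → F)) ≠ ⊤ := fun r e => by
    have h1 : (Set.range fun _ : Unit => r).finrank F ≤ 1 := finrank_range_le_card _
    rw [Set.range_const, Set.finrank, e, finrank_top, Module.finrank_fintype_fun_eq_card, Fintype.card_fin] at h1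
    omega
  obtain ⟨x, h1, h3, -⟩ := three_cover h2 (htop p) (htop q) (htop q)
  exact ⟨x, h1, h3⟩

/-- three pure vectors in a linear relation differ in one factor only -/
theorem pure_rel (h2 : (2 : F) ≠ 0) {v w w' : Fin t → Fin m → F} (hv : ∀ l, v l ≠ 0) (hw : ∀ l, w l ≠ 0)
    (h : pv v + pv w' = (2 : F) • pv w) {b : Fin t} (hb : w b ∉ Submodule.span F ({v b} : Set (Fin m → F))) (l : Fin t)
    (hl : l ≠ b) : w l ∈ Submodule.span F ({v l} : Set (Fin m → F)) := by
  classical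
  by_contra hc
  have hb' : v b ∉ Submodule.span F ({w b} : Set (Fin m → F)) := fun hm' => by
    obtain ⟨k, hk⟩ := Submodule.mem_span_singleton.1 hm'
    have hk0 : k ≠ 0 := fun e => hv b (by rw [← hk, e, zero_smul])
    exact hb (Submodule.mem_span_singleton.2 ⟨k⁻¹, by rw [← hk, smul_smul, inv_mul_cancel₀ hk0, one_smul]⟩)
  obtain ⟨φ', hφ'w, hφ'v⟩ := exists_dual _ hb
  obtain ⟨φ, hφv, hφw⟩ := exists_dual _ hb'
  obtain ⟨χ, hχw, hχv⟩ := exists_dual _ hc
  have hφ'v0 := hφ'v _ (Submodule.mem_span_singleton_self _)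
  have hφw0 := hφw _ (Submodule.mem_span_singleton_self _)
  have hχv0 := hχv _ (Submodule.mem_span_singleton_self _)
  choose α hα using fun k => TensorMax.exists_dot_one (hw k)
  choose β hβ using fun k => TensorMax.exists_dot_one (hv k)
  have hd : ∀ ψ : Fin t → Fin m → F,
      (∏ k, ψ k ⬝ᵥ v k) + ∏ k, ψ k ⬝ᵥ w' k = 2 * ∏ k, ψ k ⬝ᵥ w k := fun ψ => by
    have := congrArg (pv ψ ⬝ᵥ ·) h
    simpa [dotProduct_add, dotProduct_smul, pv_dot] using this
  set r : (Fin t → Fin m → F) → (Fin t → Fin m → F) → F := fun ψ u => ∏ k ∈ Finset.univ.erase b, ψ k ⬝ᵥ u k with hr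
  have split : ∀ (ψ : Fin t → Fin m → F) (θ : Fin m → F) (u : Fin t → Fin m → F),
      ∏ k, Function.update ψ b θ k ⬝ᵥ u k = θ ⬝ᵥ u b * r ψ u := fun ψ θ u => by
    rw [← Finset.mul_prod_erase _ _ (Finset.mem_univ b), Function.update_self]
    congr 1
    exact Finset.prod_congr rfl fun k hk => by rw [Function.update_of_ne (Finset.ne_of_mem_erase hk)]
  set ψ₀ : Fin t → Fin m → F := Function.update α l χ with hψ₀
  have hlm : l ∈ Finset.univ.erase b := Finset.mem_erase.2 ⟨hl, Finset.mem_univ l⟩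
  have r0v : r ψ₀ v = 0 := Finset.prod_eq_zero hlm (by rw [hψ₀, Function.update_self, hχv0])
  have r0w : r ψ₀ w = 1 := Finset.prod_eq_one fun k _ => by
    rcases eq_or_ne k l with rfl | hk
    · rw [hψ₀, Function.update_self, hχw]
    · rw [hψ₀, Function.update_of_ne hk, hα]
  have e1 := hd (Function.update ψ₀ b φ')
  have e2 := hd (Function.update ψ₀ b φ)
  have e3 := hd (Function.update β b φ)
  rw [split, split, split] at e1 e2 e3
  rw [hφ'v0, hφ'w, r0w, zero_mul, zero_add, one_mul, mul_one] at e1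
  rw [hφv, hφw0, r0v, mul_zero, zero_mul, mul_zero, zero_add] at e2
  rw [hφv, hφw0, zero_mul, mul_zero, one_mul, show r β v = 1 from Finset.prod_eq_one fun k _ => hβ k] at e3
  have hne : r ψ₀ w' ≠ 0 := fun e => h2 (by rw [← e1, e, mul_zero])
  rw [(mul_eq_zero.1 e2).resolve_right hne, zero_mul, add_zero] at e3
  exact one_ne_zero e3

/-- a quadratic unipotent wreath element has one factor -/
theorem wreath_sq_single (hm : 2 ≤ m) (h2 : (2 : F) ≠ 0) (σ : Equiv.Perm (Fin t)) (A : Fin t → GL (Fin m) F)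
    (hsq : (((permGL σ * pureGL A : GL _ F) : Matrix (Fin t → Fin m) (Fin t → Fin m) F) - 1) *
      (((permGL σ * pureGL A : GL _ F) : Matrix (Fin t → Fin m) (Fin t → Fin m) F) - 1) = 0) :
    σ = 1 ∧ ∀ a b : Fin t, a ≠ b → (∃ c : F, (A a : Matrix (Fin m) (Fin m) F) = c • 1) ∨
      ∃ c : F, (A b : Matrix (Fin m) (Fin m) F) = c • 1 := by
  classical
  let e : Fin m → F := Pi.single ⟨0, by omega⟩ 1
  have he : e ≠ 0 := by simp [e]
  let W : (Fin t → Fin m → F) → Fin t → Fin m → F :=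
    fun v l => (A (σ.symm l) : Matrix (Fin m) (Fin m) F) *ᵥ v (σ.symm l)
  have hrel : ∀ v : Fin t → Fin m → F, pv v + pv (W (W v)) = (2 : F) • pv (W v) := fun v => by
    have h1 := congrArg (· *ᵥ pv v) hsq
    simp only [← mulVec_mulVec, sub_mulVec, one_mulVec, wreath_pv, zero_mulVec, mulVec_sub] at h1
    rw [← sub_eq_zero, ← h1, two_smul]
    show _ = pv (W (W v)) - pv (W v) - (pv (W v) - pv v)
    abel
  have hW0 : ∀ v : Fin t → Fin m → F, (∀ l, v l ≠ 0) → ∀ l, W v l ≠ 0 := fun v hv l e' =>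
    hv _ (gl_mulVec_eq_zero.1 e')
  have hσ : σ = 1 := by
    by_contra hne
    obtain ⟨a, ha⟩ : ∃ a, σ a ≠ a := by
      by_contra hcon
      push Not at hcon
      exact hne (Equiv.ext hcon)
    set b := σ a with hb
    set c := σ.symm a with hc
    have hca : c ≠ a := fun e => ha (by
      have := σ.apply_symm_apply a
      rw [← hc, e] at this
      exact this)
    obtain ⟨x, hx1, hx2⟩ := exists_off_lines hm h2 ((A c : Matrix (Fin m) (Fin m) F) *ᵥ e)
      ((((A a)⁻¹ : GL (Fin m) F) : Matrix (Fin m) (Fin m) F) *ᵥ e)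
    set v : Fin t → Fin m → F := Function.update (fun _ => e) a x with hvdef
    have hva : v a = x := Function.update_self ..
    have hvo : ∀ l, l ≠ a → v l = e := fun l hl => Function.update_of_ne hl ..
    have hx0 : x ≠ 0 := fun e0 => hx1 (by rw [e0]; exact Submodule.zero_mem _)
    have hv : ∀ l, v l ≠ 0 := fun l => by
      rcases eq_or_ne l a with rfl | hl
      · rw [hva]; exact hx0
      · rw [hvo l hl]; exact he
    have hwb : W v b = (A a : Matrix (Fin m) (Fin m) F) *ᵥ x := by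
      simp only [W, hb, Equiv.symm_apply_apply, hva]
    have hwa : W v a = (A c : Matrix (Fin m) (Fin m) F) *ᵥ e := by
      simp only [W]; rw [← hc, hvo c hca]
    have := pure_rel h2 hv (hW0 v hv) (hrel v) (b := b) (by
      rw [hwb, hvo b ha]
      intro hmem
      obtain ⟨k, hk⟩ := Submodule.mem_span_singleton.1 hmem
      refine hx2 (Submodule.mem_span_singleton.2 ⟨k, ?_⟩)
      rw [← mulVec_smul, hk, gl_inv_mulVec]) a (Ne.symm ha)
    rw [hwa, hva] at this
    obtain ⟨k, hk⟩ := Submodule.mem_span_singleton.1 this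
    have hk0 : k ≠ 0 := fun e0 => he (gl_mulVec_eq_zero.1 (by rw [← hk, e0, zero_smul]))
    exact hx1 (Submodule.mem_span_singleton.2 ⟨k⁻¹, by rw [← hk, smul_smul, inv_mul_cancel₀ hk0, one_smul]⟩)
  refine ⟨hσ, fun a b hab => ?_⟩
  subst hσ
  by_contra hcon
  rw [not_or] at hcon
  have heig : ∀ l, (¬ ∃ c : F, (A l : Matrix (Fin m) (Fin m) F) = c • 1) →
      ∃ f : Fin m → F, f ≠ 0 ∧ (A l : Matrix (Fin m) (Fin m) F) *ᵥ f ∉ Submodule.span F ({f} : Set (Fin m → F)) := by
    intro l hl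
    by_contra h0
    push Not at h0
    obtain ⟨c, hc⟩ := TensorMax.scalar_of_eigen (A := (A l : Matrix (Fin m) (Fin m) F)) (by omega) fun f => by
      by_cases hf : f = 0
      · exact ⟨0, by rw [hf, mulVec_zero, smul_zero]⟩
      · obtain ⟨k, hk⟩ := Submodule.mem_span_singleton.1 (h0 f hf); exact ⟨k, hk.symm⟩
    exact hl ⟨c, Matrix.ext_iff_mulVec.2 fun f => by rw [hc, Matrix.smul_mulVec, one_mulVec]⟩
  obtain ⟨fa, hfa0, hfa⟩ := heig a hcon.1
  obtain ⟨fb, hfb0, hfb⟩ := heig b hcon.2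
  set v : Fin t → Fin m → F := Function.update (Function.update (fun _ => e) a fa) b fb with hvdef
  have hva : v a = fa := by rw [hvdef, Function.update_of_ne hab, Function.update_self]
  have hvb : v b = fb := Function.update_self ..
  have hv : ∀ l, v l ≠ 0 := fun l => by
    rcases eq_or_ne l b with rfl | hlb
    · rwa [hvb]
    rcases eq_or_ne l a with rfl | hla
    · rwa [hva]
    rw [hvdef, Function.update_of_ne hlb, Function.update_of_ne hla]; exact he
  have h1 := pure_rel h2 hv (hW0 v hv) (hrel v) (b := a)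
    (by show (A a : Matrix (Fin m) (Fin m) F) *ᵥ v a ∉ _; rwa [hva]) b hab.symm
  have h3 : W v b = (A b : Matrix (Fin m) (Fin m) F) *ᵥ fb := by
    show (A b : Matrix (Fin m) (Fin m) F) *ᵥ v b = _; rw [hvb]
  rw [h3, hvb] at h1
  exact hfb h1

/-- a matrix of rank one -/
theorem vmv_of_rank_one {X : Matrix (Fin m) (Fin m) F} (hX : X.rank = 1) :
    ∃ u φ : Fin m → F, u ≠ 0 ∧ φ ≠ 0 ∧ X = vecMulVec u φ := by
  have hX0 : X ≠ 0 := fun e => by rw [e, Matrix.rank_zero] at hX; omega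
  obtain ⟨f, hf⟩ : ∃ f, X *ᵥ f ≠ 0 := by
    by_contra hcon
    push Not at hcon
    exact hX0 (Matrix.ext_iff_mulVec.2 fun v => by rw [zero_mulVec]; exact hcon v)
  have hspan : Submodule.span F {X *ᵥ f} = LinearMap.range X.mulVecLin := by
    refine Submodule.eq_of_le_of_finrank_le ((Submodule.span_singleton_le_iff_mem _ _).2 ⟨f, rfl⟩) ?_
    rw [finrank_span_singleton hf]
    exact hX.le
  obtain ⟨γ, hγ⟩ := TensorMax.exists_dot_one hf
  have e : X = vecMulVec (X *ᵥ f) (γ ᵥ* X) := Matrix.ext_iff_mulVec.2 fun y => by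
    have hy : X *ᵥ y ∈ Submodule.span F {X *ᵥ f} := hspan ▸ LinearMap.mem_range_self X.mulVecLin y
    obtain ⟨k, hk⟩ := Submodule.mem_span_singleton.1 hy
    rw [vecMulVec_mulVec, op_smul_eq_smul, ← dotProduct_mulVec, ← hk, dotProduct_smul, hγ, smul_eq_mul, mul_one]
  refine ⟨_, _, hf, fun e0 => ?_, e⟩
  have := hγ
  rw [dotProduct_mulVec, e0, zero_dotProduct] at this
  exact zero_ne_one this

end Vectors

variable {n s t : ℕ}

theorem IsSRoot.isRoot {r : GL (Fin t → Ix n) F} (hr : IsSRoot r) : IsRoot r := by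
  obtain ⟨i, u, hu, c, hu0, hc0, rfl⟩ := hr
  refine ⟨i, c • u, dual (e1 n F) (s1 n) u, smul_ne_zero hc0 hu0, fun e => hu0 (dual_eq_zero sg1 e),
    by rw [dotProduct_smul, hu, smul_zero], by rw [sl_coe, utv_coe, slot_add, slot_one, smul_vecMulVec]⟩

/-- an isometric root is a root of the base group -/
theorem sroot_of_root {r : GL (Fin t → Ix n) F} (hr : IsRoot r) (hrU : r ∈ uT n t F) : IsSRoot r := by
  obtain ⟨i, u, φ, hu0, hφ0, hφu, he⟩ := hr
  obtain ⟨w, rfl⟩ : ∃ w, φ = dual (e1 n F) (s1 n) w := ⟨-dual (e1 n F) (s1 n) φ, by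
    rw [dual_neg, dual_dual sg1, neg_one_smul, neg_neg]⟩
  haveI : Nonempty (Ix n) := ⟨0⟩
  have h1 := adj_of_one_add hrU he (by
    rw [slot_mul, vecMulVec_mul_vecMulVec, hφu, zero_smul, vmv_zero_right, slot_zero])
  rw [adj_slot, adj_vecMulVec sg1, ← slotHom_apply, ← slotHom_apply, ← map_neg, slotHom_apply, slotHom_apply,
    neg_one_smul] at h1
  have h2 := neg_injective (slot_injective i h1)
  obtain ⟨b, hb⟩ := Function.ne_iff.1 hφ0
  have hb' : dual (e1 n F) (s1 n) w b ≠ 0 := hb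
  set k := dual (e1 n F) (s1 n) u b / dual (e1 n F) (s1 n) w b with hk
  have huk : u = k • w := funext fun x => by
    have := congrFun (congrFun h2 x) b
    rw [vecMulVec_apply, vecMulVec_apply] at this
    rw [Pi.smul_apply, smul_eq_mul, hk, div_mul_eq_mul_div, eq_div_iff hb']
    linear_combination -this
  have hk0 : k ≠ 0 := fun e => hu0 (by rw [huk, e, zero_smul])
  have hw0 : w ≠ 0 := fun e => hu0 (by rw [huk, e, smul_zero])
  have hww : dual (e1 n F) (s1 n) w ⬝ᵥ w = 0 := by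
    rw [huk, dotProduct_smul, smul_eq_mul] at hφu
    exact (mul_eq_zero.1 hφu).resolve_left hk0
  exact ⟨i, w, hww, k, hw0, hk0, Units.ext (by rw [he, huk, sl_coe, utv_coe, slot_add, slot_one, smul_vecMulVec])⟩

variable [Fintype F] {M : Subgroup (GL (Fin (s + 1) → Ix n) F)}

local notation "BMat" => Matrix (Fin (s + 1) → Ix n) (Fin (s + 1) → Ix n) F

/-- a conjugate of a root lying in the wreath subgroup is a root -/
theorem SCtx.cls (h : SCtx M) {r g : GL (Fin (s + 1) → Ix n) F} (hr : IsSRoot r) (hg : g ∈ M)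
    (hw : g * r * g⁻¹ ∈ tensorWreathStandard (2 * n + 2) (s + 1) F) : IsSRoot (g * r * g⁻¹) := by
  classical
  have hgM : g * r * g⁻¹ ∈ M := M.mul_mem (M.mul_mem hg (hr.mem h.base)) (M.inv_mem hg)
  refine sroot_of_root ?_ (h.le hgM)
  rcases h.dich with h2 | ⟨h2, hn⟩
  swap
  · obtain ⟨π, A, hA⟩ := tw_shape hw
    rcases conj_root_cases (by omega) hr.isRoot hA with hR | ⟨-, hm3, -⟩
    · exact hR
    · omega
  obtain ⟨i, u, φ, hu, hφ, hφu, he⟩ := hr.isRoot
  obtain ⟨π, A, hA⟩ := tw_shape hw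
  have hN : (slot i (vecMulVec u φ) : BMat) * slot i (vecMulVec u φ) = 0 := by
    rw [slot_mul, vecMulVec_mul_vecMulVec, hφu, zero_smul, vmv_zero_right, slot_zero]
  have hW : ((permGL π * pureGL A : GL _ F) : BMat) - 1 = cj g (slot i (vecMulVec u φ)) := by
    rw [← hA, ← cj_coe, he, cj_add, cj_one, add_sub_cancel_left]
  have hsq : (((permGL π * pureGL A : GL _ F) : BMat) - 1) * (((permGL π * pureGL A : GL _ F) : BMat) - 1) = 0 := by
    rw [hW, ← cj_mul, hN, TensorPower.cj_zero]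
  obtain ⟨hπ, hone⟩ := wreath_sq_single (by omega) h2 π A hsq
  subst hπ
  rw [permGL_one, one_mul] at hA hW hsq
  obtain ⟨a, ha⟩ : ∃ a : Fin (s + 1), ∀ l, l ≠ a → ∃ c : F, (A l : Matrix (Ix n) (Ix n) F) = c • 1 := by
    by_cases hex : ∃ a, ¬ ∃ c : F, (A a : Matrix (Ix n) (Ix n) F) = c • 1
    · obtain ⟨a, ha⟩ := hex
      exact ⟨a, fun l hl => (hone a l hl.symm).resolve_left ha⟩
    · exact ⟨0, fun l _ => not_not.1 fun hn => hex ⟨l, hn⟩⟩
  choose! c hc using ha
  set X := (∏ l, Function.update c a 1 l) • (A a : Matrix (Ix n) (Ix n) F) - 1 with hX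
  have hWX : (pureGL A : BMat) - 1 = slot a X := by
    rw [hX, slot_sub, slot_one, TensorPower.slot_smul, pureGL_coe, slot, ← pure_smul]
    congr 2
    funext l
    rcases eq_or_ne l a with rfl | hl
    · simp
    · simpa [hl, Pi.mulSingle_eq_of_ne hl] using hc l hl
  haveI : Nonempty (Ix n) := ⟨0⟩
  have hXX : X * X = 0 := slot_injective a (by rw [← slot_mul, ← hWX, hsq, slot_zero])
  have hrk : X.rank = 1 := by
    have h1 : (slot a X : BMat).rank = (slot i (vecMulVec u φ) : BMat).rank := by rw [← hWX, hW, rank_cj]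
    rw [rank_slot (by omega), rank_slot (by omega), vmv_rank_one hu hφ] at h1
    exact Nat.eq_of_mul_eq_mul_right (by positivity) h1
  obtain ⟨u', φ', hu', hφ', hX'⟩ := vmv_of_rank_one hrk
  refine ⟨a, u', φ', hu', hφ', ?_, ?_⟩
  · rw [hX', vecMulVec_mul_vecMulVec, vecMulVec_smul] at hXX
    exact (smul_eq_zero.1 hXX).resolve_right (vmv_ne_zero hu' hφ')
  · rw [hA, ← hX', ← hWX, add_sub_cancel]

/-- a `p`-subgroup containing a root lies in the wreath subgroup -/
theorem SCtx.p_group_le (h : SCtx M) (hin : InnerS n s F)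
    {p : ℕ} [Fact p.Prime] {Q : Subgroup (GL (Fin (s + 1) → Ix n) F)} (hQ : IsPGroup p Q) (hQM : Q ≤ M)
    {r : GL (Fin (s + 1) → Ix n) F} (hr : IsSRoot r) (hrQ : r ∈ Q) :
    Q ≤ tensorWreathStandard (2 * n + 2) (s + 1) F := by
  haveI := hQ.isNilpotent
  set H : Subgroup Q := (tensorWreathStandard (2 * n + 2) (s + 1) F).subgroupOf Q with hH
  by_cases htop : H = ⊤
  · exact Subgroup.subgroupOf_eq_top.1 htop
  exfalso
  have hlt := Group.normalizerCondition_of_isNilpotent H (lt_top_iff_ne_top.2 htop)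
  obtain ⟨k, hk, hkH⟩ := SetLike.exists_of_lt hlt
  have h1 : k * ⟨r, hrQ⟩ * k⁻¹ ∈ H :=
    (Subgroup.mem_normalizer_iff.1 hk ⟨r, hrQ⟩).1 (show r ∈ tensorWreathStandard (2 * n + 2) (s + 1) F from hr.mem_tw)
  exact hkH (h.fusion hin hr (hQM k.2) (h.cls hr (hQM k.2) h1))

end CfsgLib.Perm.Trans.TensorPowerSp
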