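import Cfsg.Agent.Lib.Perm.Trans.TensorPowerSp.Seed

/-!
# One Eichler transformation generates `Ω` over the base group
-/

set_option autoImplicit false
set_option linter.all false

namespace CfsgLib.Perm.Trans.TensorPowerSp

open scoped Matrix
open Matrix Cfsg.Geo CfsgLib.Perm.Asch CfsgLib.Perm.Trans CfsgLib.Perm.Trans.TensorPower CfsgLib.Perm.Trans.Quad

variable {F : Type*} [Field F] [Fintype F] {n s : ℕ} {k : F} {R : ((Fin (s + 1) → Ix n) → F) → F}
  {M : Subgroup (GL (Fin (s + 1) → Ix n) F)}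

local notation "BV" => (Fin (s + 1) → Ix n) → F
local notation "BMat" => Matrix (Fin (s + 1) → Ix n) (Fin (s + 1) → Ix n) F

/-- a basis vector -/
def bv (x : Fin (s + 1) → Ix n) : BV := Pi.single x 1

theorem TQ.bv_zero (h : TQ n (s + 1) k R) (x : Fin (s + 1) → Ix n) : R (bv x) = 0 := h.base x

theorem TQ.pol_bv (h : TQ n (s + 1) k R) (x : Fin (s + 1) → Ix n) (a : BV) :
    QuadraticMap.polar R (bv x) a = k * (eT n (s + 1) F x * a (sT n (s + 1) x)) := by
  rw [h.pol, sform, bv, single_dotProduct, one_mul, dual]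

theorem TQ.pol_bv_eq (h : TQ n (s + 1) k R) {x y : Fin (s + 1) → Ix n} (hne : y ≠ sT n (s + 1) x) :
    QuadraticMap.polar R (bv x) (bv y) = 0 := by
  rw [h.pol_bv, bv, Pi.single_eq_of_ne hne.symm, mul_zero, mul_zero]

theorem TQ.ein_unscale (h : TQ n (s + 1) k R) {u a : BV} {c : F} (hg : EIn R M (c • u) a) : EIn R M u (c • a) := by
  obtain ⟨g, hg, hgE⟩ := hg
  refine ⟨g, hg, fun x => ?_⟩
  rw [hgE, qsmul h.nd, psmul_right h.nd, psmul_right h.nd]
  module

/-- the directions of the transformations at a basis vector that lie in `M` -/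
def gSub (h : TQ n (s + 1) k R) (M : Subgroup (GL (Fin (s + 1) → Ix n) F)) (x : Fin (s + 1) → Ix n) :
    Submodule F BV where
  carrier := {a | QuadraticMap.polar R (bv x) a = 0 ∧ ∀ r : F, EIn R M (bv x) (r • a)}
  zero_mem' := ⟨pzero_right h.nd _, fun r => by
    rw [smul_zero]
    have := EIn.smul_self h.nd M (h.bv_zero x) 0
    rwa [zero_smul] at this⟩
  add_mem' := fun {p q} hp hq => ⟨by rw [padd_right h.nd, hp.1, hq.1, add_zero], fun r => by
    rw [smul_add]
    exact EIn.add h.nd (h.bv_zero x) (by rw [psmul_right h.nd, hp.1, mul_zero])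
      (by rw [psmul_right h.nd, hq.1, mul_zero]) (hp.2 r) (hq.2 r)⟩
  smul_mem' := fun c p hp => ⟨by rw [psmul_right h.nd, hp.1, mul_zero], fun r => by rw [smul_smul]; exact hp.2 _⟩

theorem gSub_self (h : TQ n (s + 1) k R) (x : Fin (s + 1) → Ix n) (hs : 1 ≤ s + 1) : bv x ∈ gSub h M x :=
  ⟨by rw [pself h.nd, h.bv_zero, mul_zero], fun r => EIn.smul_self h.nd M (h.bv_zero x) r⟩

/-- carried over by an element of `M` -/
theorem gSub_map (h : TQ n (s + 1) k R) (hMi : M ≤ Cfsg.isometryGroup F R) {g : GL (Fin (s + 1) → Ix n) F} (hg : g ∈ M)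
    {x y : Fin (s + 1) → Ix n} {α : F} (hα : α ≠ 0) (hxy : (g : BMat) *ᵥ bv x = α • bv y) {a : BV}
    (ha : a ∈ gSub h M x) : (g : BMat) *ᵥ a ∈ gSub h M y := by
  refine ⟨?_, fun r => ?_⟩
  · have := iso_pol (hMi hg) (bv x) a
    rw [hxy, psmul_left h.nd, ha.1] at this
    exact (mul_eq_zero.1 this).resolve_left hα
  · have h1 := (ha.2 (r / α)).conj (hMi hg) hg
    rw [hxy, mulVec_smul] at h1
    have h3 := h.ein_unscale h1
    rwa [smul_smul, mul_div_cancel₀ r hα] at h3

/-- one factor of a basis vector varies -/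
def tvl (x : Fin (s + 1) → Ix n) (d : Fin (s + 1)) : (Ix n → F) →ₗ[F] BV where
  toFun w := TensorPower.pv (Function.update (fun l => Pi.single (x l) 1) d w)
  map_add' a b := by
    funext z
    simp only [Pi.add_apply, TensorPower.pv, ← Finset.mul_prod_erase Finset.univ _ (Finset.mem_univ d), Function.update_self]
    rw [add_mul]
    congr 1 <;> congr 1 <;> exact Finset.prod_congr rfl fun l hl => by
      simp [Function.update_of_ne (Finset.ne_of_mem_erase hl)]
  map_smul' c a := by
    funext z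
    simp only [RingHom.id_apply, Pi.smul_apply, TensorPower.pv, ← Finset.mul_prod_erase Finset.univ _ (Finset.mem_univ d),
      Function.update_self, smul_eq_mul]
    rw [mul_assoc]
    congr 2
    exact Finset.prod_congr rfl fun l hl => by simp [Function.update_of_ne (Finset.ne_of_mem_erase hl)]

theorem tvl_single (x : Fin (s + 1) → Ix n) (d : Fin (s + 1)) (p : Ix n) :
    tvl (F := F) x d (Pi.single p 1) = bv (Function.update x d p) := by
  show TensorPower.pv _ = _
  rw [bv, pi_single_pv]
  congr 1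
  funext l
  rcases eq_or_ne l d with rfl | hl
  · simp
  · simp [hl]

theorem pure_mulVec_tvl (A : Fin (s + 1) → GL (Ix n) F) (x y : Fin (s + 1) → Ix n) (d : Fin (s + 1))
    (hA : ∀ l, l ≠ d → (A l : Matrix (Ix n) (Ix n) F) *ᵥ Pi.single (x l) 1 = Pi.single (y l) 1) (w : Ix n → F) :
    (pureGL A : GL (Fin (s + 1) → Ix n) F).val *ᵥ tvl x d w = tvl y d ((A d : Matrix (Ix n) (Ix n) F) *ᵥ w) := by
  show _ *ᵥ TensorPower.pv _ = TensorPower.pv _
  rw [pureGL_coe, pure_pv]
  congr 1
  funext l
  rcases eq_or_ne l d with rfl | hl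
  · simp
  · simp [hl, hA l hl]

theorem pure_mulVec_bv (A : Fin (s + 1) → GL (Ix n) F) (x y : Fin (s + 1) → Ix n)
    (hA : ∀ l, (A l : Matrix (Ix n) (Ix n) F) *ᵥ Pi.single (x l) 1 = Pi.single (y l) 1) :
    (pureGL A : GL (Fin (s + 1) → Ix n) F).val *ᵥ bv x = (1 : F) • bv y := by
  rw [one_smul, bv, bv, pi_single_pv, pi_single_pv, pureGL_coe, pure_pv]
  congr 1
  exact funext hA

/-- the stabiliser of the first vector in one factor acts -/
theorem gSub_slot (h : TQ n (s + 1) k R) (hMi : M ≤ Cfsg.isometryGroup F R) (hB : HasSBase M) (l : Fin (s + 1))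
    {A : GL (Ix n) F} (hA : A ∈ u1 n F) (hA0 : (A : Matrix (Ix n) (Ix n) F) *ᵥ Pi.single 0 1 = Pi.single 0 1)
    {x : Fin (s + 1) → Ix n} (hx : bv x ∈ gSub h M fun _ => 0) :
    tvl x l ((A : Matrix (Ix n) (Ix n) F) *ᵥ Pi.single (x l) 1) ∈ gSub h M fun _ => 0 := by
  have h1 := gSub_map h hMi (hB.sl_mem l hA) one_ne_zero (x := fun _ => 0) (y := fun _ => 0) (by
    rw [sl_eq_pureGL]
    refine pure_mulVec_bv _ _ _ fun i => ?_
    rcases eq_or_ne i l with rfl | hi
    · rwa [Pi.mulSingle_eq_same]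
    · rw [Pi.mulSingle_eq_of_ne hi, Units.val_one, one_mulVec]) hx
  rw [← Function.update_eq_self l x, ← tvl_single, sl_eq_pureGL, pure_mulVec_tvl _ x x l (fun i hi => by
    rw [Pi.mulSingle_eq_of_ne hi, Units.val_one, one_mulVec]), Pi.mulSingle_eq_same] at h1
  exact h1

theorem eta_e0 {a : Ix n} (ha0 : a ≠ 0) (ha1 : a ≠ 1) :
    (eta a ha0 ha1 (1 : F) : Matrix (Ix n) (Ix n) F) *ᵥ Pi.single 0 1 = Pi.single 0 1 := by
  rw [eta_coe, add_mulVec, one_mulVec, etaN, add_mulVec, single_mulVec, single_mulVec,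
    Pi.single_eq_of_ne (show (1 : Ix n) ≠ 0 by simp), Pi.single_eq_of_ne (s1_mid ha0 ha1).1]
  simp

theorem eta_e1 {a : Ix n} (ha0 : a ≠ 0) (ha1 : a ≠ 1) :
    (eta a ha0 ha1 (1 : F) : Matrix (Ix n) (Ix n) F) *ᵥ Pi.single 1 1 = Pi.single 1 1 + Pi.single a 1 := by
  rw [eta_coe, add_mulVec, one_mulVec, etaN, add_mulVec, single_mulVec, single_mulVec, Pi.single_eq_same,
    Pi.single_eq_of_ne (s1_mid ha0 ha1).2, mul_one, mul_zero]
  congr 1
  funext z
  simp [Function.update_apply, Pi.single_apply]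

theorem eta_mid {a : Ix n} (ha0 : a ≠ 0) (ha1 : a ≠ 1) :
    (eta a ha0 ha1 (1 : F) : Matrix (Ix n) (Ix n) F) *ᵥ Pi.single (s1 n a) 1 =
      Pi.single (s1 n a) 1 + e1 n F a • Pi.single 0 1 := by
  rw [eta_coe, add_mulVec, one_mulVec, etaN, add_mulVec, single_mulVec, single_mulVec, Pi.single_eq_same,
    Pi.single_eq_of_ne (s1_mid ha0 ha1).2.symm, mul_zero]
  congr 1
  funext z
  simp [Function.update_apply, Pi.single_apply]

/-- lowering one factor -/
theorem gSub_down (h : TQ n (s + 1) k R) (hMi : M ≤ Cfsg.isometryGroup F R) (hB : HasSBase M) (l : Fin (s + 1))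
    {x : Fin (s + 1) → Ix n} (hx : bv x ∈ gSub h M fun _ => 0) {p : Ix n} (hp : x l = 1 ∨ p = 0 ∨ p = x l) :
    bv (Function.update x l p) ∈ gSub h M fun _ => 0 := by
  have hsub : ∀ {w : Ix n → F}, tvl x l (Pi.single (x l) 1 + w) ∈ gSub h M (fun _ => 0) →
      tvl x l w ∈ gSub h M (fun _ => 0) := fun {w} hw => by
    rw [map_add, tvl_single, Function.update_eq_self] at hw
    simpa using sub_mem hw hx
  rw [← tvl_single]
  by_cases h1 : x l = 1
  · by_cases hp1 : p = 1
    · rw [hp1, ← h1, tvl_single, Function.update_eq_self]; exact hx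
    by_cases hp0 : p = 0
    · subst hp0
      refine hsub ?_
      have := gSub_slot h hMi hB l (rt_mem 1) (rt_e0 1) hx
      rwa [h1, rt_e1, ← h1] at this
    · refine hsub ?_
      have := gSub_slot h hMi hB l (eta_mem hp0 hp1 1) (eta_e0 hp0 hp1) hx
      rwa [h1, eta_e1, ← h1] at this
  rcases hp.resolve_left h1 with rfl | rfl
  swap
  · rw [tvl_single, Function.update_eq_self]; exact hx
  by_cases h0 : x l = 0
  · rw [tvl_single, show Function.update x l 0 = x from funext fun i => by
      rcases eq_or_ne i l with rfl | hi <;> simp [*]]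
    exact hx
  obtain ⟨ha0, ha1⟩ := s1_mid h0 h1
  have h3 := gSub_slot h hMi hB l (eta_mem ha0 ha1 1) (eta_e0 ha0 ha1) hx
  have h6 := eta_mid (F := F) ha0 ha1
  rw [s1_inv] at h6
  rw [h6] at h3
  have h4 := hsub h3
  rw [map_smul] at h4
  have h5 := (gSub h M fun _ => 0).smul_mem (e1 n F (s1 n (x l))) h4
  rwa [smul_smul, sg1.sq, one_smul] at h5

/-- lowering all factors -/
theorem gSub_down_all (h : TQ n (s + 1) k R) (hMi : M ≤ Cfsg.isometryGroup F R) (hB : HasSBase M)
    {x y : Fin (s + 1) → Ix n} (hx : bv x ∈ gSub h M fun _ => 0) (hxy : ∀ l, x l = 1 ∨ y l = 0 ∨ y l = x l) :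
    bv y ∈ gSub h M fun _ => 0 := by
  classical
  suffices hS : ∀ S : Finset (Fin (s + 1)), bv (S.piecewise y x) ∈ gSub h M fun _ => 0 by
    simpa using hS Finset.univ
  intro S
  induction S using Finset.induction_on with
  | empty => simpa using hx
  | @insert a S ha ih =>
    rw [Finset.piecewise_insert]
    refine gSub_down h hMi hB a ih ?_
    rw [Finset.piecewise_eq_of_notMem _ _ _ ha]
    exact hxy a

/-- all directions in the chosen factor, at every basis vector -/
def Adj (h : TQ n (s + 1) k R) (M : Subgroup (GL (Fin (s + 1) → Ix n) F)) (d : Fin (s + 1)) : Prop :=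
  ∀ x p, bv (Function.update x d p) ∈ gSub h M x

theorem TQ.one_le (h : TQ n (s + 1) k R) : 1 ≤ s := by have := h.two; omega

/-- a step between directions -/
theorem gSub_move (h : TQ n (s + 1) k R) (hMi : M ≤ Cfsg.isometryGroup F R) {d : Fin (s + 1)} (hd : Adj h M d)
    {e x' : Fin (s + 1) → Ix n} (hx' : bv x' ∈ gSub h M e) (hne : x' ≠ e) {p : Ix n} (hp : p ≠ s1 n (x' d))
    (hy : Function.update (sT n (s + 1) x') d p ≠ sT n (s + 1) e) :
    bv (Function.update (sT n (s + 1) x') d p) ∈ gSub h M e := by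
  set u := sT n (s + 1) x' with hu
  set y := Function.update u d p with hydef
  have hadj := hd u p
  obtain ⟨g, hgM, hgE⟩ := hadj.2 1
  rw [one_smul] at hgE
  have hyu : y ≠ u := fun e' => hp (by
    have := congrFun e' d
    rwa [hydef, Function.update_self] at this)
  have hge : (g : BMat) *ᵥ bv e = bv e := by
    rw [hgE, h.pol_bv_eq (show u ≠ sT n (s + 1) e from fun e' => hne ((sgT (F := F) (n := n) (t := s + 1)).inv.injective e')), h.pol_bv_eq hy,
      h.bv_zero]
    simp
  set lam := QuadraticMap.polar R (bv x') (bv u) with hlam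
  have hlam0 : lam ≠ 0 := by
    rw [hlam, h.pol_bv, bv, hu, Pi.single_eq_same, mul_one]
    refine mul_ne_zero h.k0 fun e0 => ?_
    simpa [e0] using (sgT (F := F) (n := n) (t := s + 1)).sq x'
  have hgx : (g : BMat) *ᵥ bv x' = bv x' + lam • bv y := by
    rw [hgE, h.pol_bv_eq (x := x') (y := y) hyu, h.bv_zero, zero_mul, ← hlam]
    simp [hydef]
  have h1 := gSub_map h hMi hgM one_ne_zero (x := e) (y := e) (by rw [hge, one_smul]) hx'
  rw [hgx] at h1
  have h3 := (gSub h M e).smul_mem lam⁻¹ (sub_mem h1 hx')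
  rwa [add_sub_cancel_left, smul_smul, inv_mul_cancel₀ hlam0, one_smul] at h3

/-- the seed gives the directions in its factor -/
theorem adj_of_seed_single (h : TQ n (s + 1) k R) (hMi : M ≤ Cfsg.isometryGroup F R) (hB : HasSBase M)
    {d : Fin (s + 1)} (hw : bv (Function.update (fun _ => 0) d 1) ∈ gSub h M fun _ => 0) : Adj h M d := by
  classical
  have hall : ∀ p, bv (Function.update (fun _ => (0 : Ix n)) d p) ∈ gSub h M fun _ => 0 := fun p => by
    have := gSub_down h hMi hB d hw (p := p) (Or.inl (Function.update_self ..))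
    rwa [Function.update_idem] at this
  have hlin : ∀ w : Ix n → F, tvl (fun _ => (0 : Ix n)) d w ∈ gSub h M fun _ => 0 := fun w => by
    rw [pi_eq_sum_univ' w, map_sum]
    exact Submodule.sum_mem _ fun p _ => by
      rw [map_smul, tvl_single]
      exact Submodule.smul_mem _ _ (hall p)
  intro x p
  have hA : ∀ l, ∃ A ∈ u1 n F, (A : Matrix (Ix n) (Ix n) F) *ᵥ Pi.single 0 1 = Pi.single (x l) 1 := fun l => by
    obtain ⟨B, hB', hBx⟩ := exists_move (F := F) (u := Pi.single (x l) 1) (by simp)
    exact ⟨B⁻¹, inv_mem hB', by rw [← hBx, gl_inv_mulVec]⟩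
  choose A hAu hA0 using hA
  have h1 := gSub_map h hMi (hB.pure_mem A hAu) one_ne_zero (x := fun _ => 0) (y := x)
    (pure_mulVec_bv A _ _ hA0) (hlin (((A d)⁻¹ : GL (Ix n) F).val *ᵥ Pi.single p 1))
  rwa [pure_mulVec_tvl A _ x d (fun l _ => hA0 l), gl_mulVec_inv, tvl_single] at h1

/-- the seed as a direction -/
theorem seed_direction (h : TQ n (s + 1) k R) (hB : HasSBase M) (hseed : HasSeed M) :
    ∃ d, bv (Function.update (fun _ => 0) d 1) ∈ gSub h M fun _ => 0 := by
  classical
  obtain ⟨d, c, hc, g, hg, hge⟩ := hseed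
  refine ⟨d, ?_⟩
  set x0 : Fin (s + 1) → Ix n := fun _ => 0 with hx0
  set x1 : Fin (s + 1) → Ix n := fun _ => 1 with hx1
  set z := Function.update x1 d 0 with hz
  set w := Function.update x0 d 1 with hw
  have hsx : sT n (s + 1) x0 = x1 := funext fun _ => s1_zero
  have hsw : sT n (s + 1) w = z := by
    funext l
    show s1 n (w l) = z l
    rcases eq_or_ne l d with rfl | hl
    · simp [hw, hz, s1_one]
    · simp [hw, hz, hl, x0, x1, s1_zero]
  have hne : w ≠ x1 := fun e' => by
    obtain ⟨l, hl⟩ : ∃ l, l ≠ d := by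
      haveI : Nontrivial (Fin (s + 1)) := Fin.nontrivial_iff_two_le.2 (by have := h.one_le; omega)
      exact exists_ne d
    have := congrFun e' l
    simp [hw, hl, x0, x1] at this
  have hP : CfsgLib.Perm.Asch.pure (Function.update (fun _ : Fin (s + 1) => Matrix.single (0 : Ix n) 1 (1 : F)) d (dP 0)) =
      (Matrix.single x0 z 1 + Matrix.single w x1 1 : BMat) := by
    rw [dP, if_pos rfl, ← updL_apply, map_add, updL_apply, updL_apply]
    congr 1
    · rw [show Function.update (fun _ : Fin (s + 1) => Matrix.single (0 : Ix n) 1 (1 : F)) d (Matrix.single 0 0 1) =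
        fun l => Matrix.single (x0 l) (z l) 1 by
        funext l; rcases eq_or_ne l d with rfl | hl <;> simp [hz, x0, x1, *], pure_single]
    · rw [show Function.update (fun _ : Fin (s + 1) => Matrix.single (0 : Ix n) 1 (1 : F)) d (Matrix.single 1 1 1) =
        fun l => Matrix.single (w l) (x1 l) 1 by
        funext l; rcases eq_or_ne l d with rfl | hl <;> simp [hw, x0, x1, *], pure_single]
  have hε : (∏ l : Fin (s + 1), e1 n F (x1 l)) = 1 := by
    simp only [x1, e1_one, Finset.prod_const, Finset.card_univ, Fintype.card_fin]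
    exact h.sign
  have hεz : eT n (s + 1) F z = -1 := by
    have h0 : eT n (s + 1) F z = e1 n F 0 * ∏ l ∈ Finset.univ.erase d, e1 n F (x1 l) := by
      rw [eT, ← Finset.mul_prod_erase Finset.univ _ (Finset.mem_univ d), hz, Function.update_self]
      congr 1
      exact Finset.prod_congr rfl fun l hl => by rw [Function.update_of_ne (Finset.ne_of_mem_erase hl)]
    rw [← Finset.mul_prod_erase Finset.univ _ (Finset.mem_univ d), show x1 d = 1 from rfl, e1_one] at hε
    rw [h0, e1_zero, one_mul]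
    linear_combination -hε
  have hε1 : eT n (s + 1) F x1 = 1 := hε
  -- the transformation with the given scalar
  have hbase : EIn R M (bv x0) ((c / k) • bv w) := by
    refine ⟨g, hg, fun v => ?_⟩
    rw [qsmul h.nd, h.bv_zero, mul_zero, zero_mul, zero_smul, sub_zero, psmul_right h.nd, pcomm v (bv x0),
      pcomm v (bv w), h.pol_bv, h.pol_bv, hsx, hsw, hge, hP, add_mulVec, one_mulVec, smul_add, add_mulVec,
      Matrix.smul_mulVec, Matrix.smul_mulVec, single_mulVec, single_mulVec]
    rw [show Function.update (0 : BV) x0 (1 * v z) = v z • bv x0 by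
        funext y; simp [bv, Function.update_apply, Pi.single_apply],
      show Function.update (0 : BV) w (1 * v x1) = v x1 • bv w by
        funext y; simp [bv, Function.update_apply, Pi.single_apply]]
    rw [show eT n (s + 1) F x0 = eT n (s + 1) F x1 by
        rw [hε1]; exact Finset.prod_eq_one fun l _ => e1_zero, hε1,
      show eT n (s + 1) F w = -1 by
        have h5 := (sgT (F := F) (n := n) (t := s + 1)).pr w
        rw [hsw, hεz, h.sign] at h5
        linear_combination -h5]
    match_scalars <;> field_simp [h.k0]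
  refine ⟨h.pol_bv_eq (hsx.symm ▸ hne), fun r => ?_⟩
  have hsq : ∀ x : F, EIn R M (bv x0) ((x * x * (c / k)) • bv w) := by
    intro x
    rcases eq_or_ne x 0 with rfl | hx
    · rw [mul_zero, zero_mul, zero_smul]
      have := EIn.smul_self h.nd M (h.bv_zero x0) 0
      rwa [zero_smul] at this
    obtain ⟨l, hl⟩ : ∃ l, l ≠ d := by
      haveI : Nontrivial (Fin (s + 1)) := Fin.nontrivial_iff_two_le.2 (by have := h.one_le; omega)
      exact exists_ne d
    have hm := hB.sl_mem l (tor_mem (n := n) (Units.mk0 x hx))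
    have hiso : sl l (tor n (Units.mk0 x hx)) ∈ Cfsg.isometryGroup F R :=
      omegaGL_le_iso (h.sl_omega l (tor_mem _))
    have e : ∀ y : Fin (s + 1) → Ix n, y l = 0 →
        ((sl l (tor n (Units.mk0 x hx)) : GL (Fin (s + 1) → Ix n) F) : BMat) *ᵥ bv y = x • bv y := fun y hy => by
      funext v
      rw [sl_coe, bv, mulVec_single_one, Matrix.col_apply, slot_apply, Pi.smul_apply, Pi.single_apply, smul_eq_mul]
      by_cases hv : v = y
      · subst hv
        simp [tor, mono_coe, td, hy]
      rw [if_neg hv, mul_zero]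
      split_ifs with h'
      · rw [tor, mono_coe, Matrix.of_apply, if_neg]
        exact fun e' => hv (funext fun i => by
          rcases eq_or_ne i l with rfl | hi
          · rw [e', Equiv.Perm.one_apply]
          · exact h' i hi)
      · rfl
    have h1 := hbase.conj hiso hm
    rw [e x0 rfl, mulVec_smul, e w (by simp [hw, hl, x0])] at h1
    have h3 := h.ein_unscale h1
    rwa [smul_smul, smul_smul, show x * (c / k) * x = x * x * (c / k) by ring] at h3
  obtain ⟨a, b, hab⟩ := exists_two_squares (r / (c / k))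
  have hp : ∀ q : F, QuadraticMap.polar R (bv x0) (q • bv w) = 0 := fun q => by
    rw [psmul_right h.nd, h.pol_bv_eq (hsx.symm ▸ hne), mul_zero]
  have := EIn.add h.nd (h.bv_zero x0) (hp _) (hp _) (hsq a) (hsq b)
  rwa [← add_smul, ← add_mul, hab, div_mul_cancel₀ r (div_ne_zero hc h.k0)] at this

/-- all directions at the first vector, in dimension at least four -/
theorem all_directions_pos (h : TQ n (s + 1) k R) (hMi : M ≤ Cfsg.isometryGroup F R) (hB : HasSBase M) (hn : 1 ≤ n)
    {d : Fin (s + 1)} (hd : Adj h M d) {y : Fin (s + 1) → Ix n} (hy : y ≠ fun _ => 1) :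
    bv y ∈ gSub h M fun _ => 0 := by
  classical
  obtain ⟨l, hl⟩ : ∃ l, l ≠ d := by
    haveI : Nontrivial (Fin (s + 1)) := Fin.nontrivial_iff_two_le.2 (by have := h.one_le; omega)
    exact exists_ne d
  have hs0 : sT n (s + 1) (fun _ => (0 : Ix n)) = fun _ => 1 := funext fun _ => s1_zero
  have step1 : ∀ a : Ix n, a ≠ 0 → a ≠ 1 → bv (Function.update (fun _ => (1 : Ix n)) d a) ∈ gSub h M fun _ => 0 := by
    intro a ha0 ha1
    have h1 : sT n (s + 1) (Function.update (fun _ => (0 : Ix n)) d 1) = Function.update (fun _ => 1) d 0 := by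
      funext i
      show s1 n (Function.update (fun _ => (0 : Ix n)) d 1 i) = _
      rcases eq_or_ne i d with rfl | hi
      · simp [s1_one]
      · simp [hi, s1_zero]
    have := gSub_move h hMi hd (e := fun _ => 0) (hd (fun _ => 0) (1 : Ix n)) (fun e => by simpa using congrFun e d) (p := a)
      (by rw [Function.update_self, s1_one]; exact ha0) (by
        rw [hs0]
        exact fun e => ha1 (by simpa using congrFun e d))
    rwa [h1, Function.update_idem] at this
  set a0 : Ix n := ⟨2, by omega⟩ with ha0def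
  have ha00 : a0 ≠ 0 := fun e => by simpa [ha0def] using congrArg Fin.val e
  have ha01 : a0 ≠ 1 := fun e => by simpa [ha0def] using congrArg Fin.val e
  have step2 : ∀ z : Fin (s + 1) → Ix n, z d ≠ 1 → bv z ∈ gSub h M fun _ => 0 := by
    intro z hz
    by_cases hz0 : z d = 0
    · refine gSub_down_all h hMi hB (step1 a0 ha00 ha01) fun i => ?_
      rcases eq_or_ne i d with rfl | hi
      · exact Or.inr (Or.inl hz0)
      · exact Or.inl (Function.update_of_ne hi ..)
    · refine gSub_down_all h hMi hB (step1 _ hz0 hz) fun i => ?_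
      rcases eq_or_ne i d with rfl | hi
      · exact Or.inr (Or.inr (by rw [Function.update_self]))
      · exact Or.inl (Function.update_of_ne hi ..)
  by_cases hyd : y d = 1
  swap
  · exact step2 y hyd
  set x' := Function.update (sT n (s + 1) y) d a0 with hx'
  have := gSub_move h hMi hd (step2 x' (by rw [hx', Function.update_self]; exact ha01))
    (fun e => ha00 (by simpa [hx'] using congrFun e d)) (p := 1)
    (by rw [hx', Function.update_self]; exact (s1_mid ha00 ha01).2.symm) (by
      rw [hs0]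
      intro e
      refine hy (funext fun i => ?_)
      rcases eq_or_ne i d with rfl | hi
      · exact hyd
      · have := congrFun e i
        rw [Function.update_of_ne hi] at this
        change s1 n (x' i) = 1 at this
        rw [hx', Function.update_of_ne hi] at this
        change s1 n (s1 n (y i)) = 1 at this
        rwa [s1_inv] at this)
  convert this using 2
  funext i
  rcases eq_or_ne i d with rfl | hi
  · rw [Function.update_self, hyd]
  · rw [Function.update_of_ne hi]
    show y i = s1 n (x' i)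
    rw [hx', Function.update_of_ne hi]
    exact (s1_inv _).symm

/-- all directions at the first vector, in dimension two -/
theorem all_directions_zero {R : ((Fin (s + 1) → Ix 0) → F) → F} {M : Subgroup (GL (Fin (s + 1) → Ix 0) F)}
    (h : TQ 0 (s + 1) k R) (hMi : M ≤ Cfsg.isometryGroup F R) (hB : HasSBase M)
    (hs : 3 ≤ s) (hd : ∀ d, Adj h M d) {y : Fin (s + 1) → Ix 0} (hy : y ≠ fun _ => 1) :
    bv y ∈ gSub h M fun _ => 0 := by
  classical
  have h01 : ∀ a : Ix 0, a = 0 ∨ a = 1 := fun a => by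
    rcases a with ⟨v, hv⟩
    rcases (show v = 0 ∨ v = 1 by omega) with rfl | rfl <;> [exact Or.inl rfl; exact Or.inr rfl]
  have hs0 : sT 0 (s + 1) (fun _ => (0 : Ix 0)) = fun _ => 1 := funext fun _ => s1_zero
  have two : ∀ z : Fin (s + 1) → Ix 0, ∀ d d', d ≠ d' → z d = 0 → z d' = 0 → bv z ∈ gSub h M fun _ => 0 := by
    intro z d d' hdd hzd hzd'
    have h1 : sT 0 (s + 1) (Function.update (fun _ => (0 : Ix 0)) d 1) = Function.update (fun _ => 1) d 0 := by
      funext i
      show s1 0 (Function.update (fun _ => (0 : Ix 0)) d 1 i) = _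
      rcases eq_or_ne i d with rfl | hi
      · simp [s1_one]
      · simp [hi, s1_zero]
    have h3 := gSub_move h hMi (hd d') (e := fun _ => 0) ((hd d) (fun _ => 0) (1 : Ix 0)) (fun e => by simpa using congrFun e d) (p := 0)
      (by rw [Function.update_of_ne hdd.symm, s1_zero]; exact zero_ne_one') (by
        rw [hs0]
        exact fun e => zero_ne_one' (n := 0) (by simpa using congrFun e d'))
    rw [h1] at h3
    refine gSub_down_all h hMi hB h3 fun i => ?_
    rcases eq_or_ne i d' with rfl | hi'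
    · exact Or.inr (Or.inl hzd')
    rcases eq_or_ne i d with rfl | hi
    · exact Or.inr (Or.inl hzd)
    · exact Or.inl (by rw [Function.update_of_ne hi', Function.update_of_ne hi])
  obtain ⟨d, hd0⟩ : ∃ d, y d ≠ 1 := Function.ne_iff.1 hy
  have hyd : y d = 0 := (h01 _).resolve_right hd0
  by_cases hex : ∃ d', d' ≠ d ∧ y d' = 0
  · obtain ⟨d', h', h''⟩ := hex
    exact two y d d' h'.symm hyd h''
  push Not at hex
  have hy1 : ∀ i, i ≠ d → y i = 1 := fun i hi => (h01 _).resolve_left (hex i hi)
  haveI : Nontrivial (Fin (s + 1)) := Fin.nontrivial_iff_two_le.2 (by omega)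
  obtain ⟨d', hdd⟩ := exists_ne d
  set x' := sT 0 (s + 1) (Function.update y d' 0) with hx'
  obtain ⟨a, ha, b, hb, hab⟩ := Finset.one_lt_card.1 (show 1 < ((Finset.univ.erase d).erase d').card by
    rw [Finset.card_erase_of_mem (Finset.mem_erase.2 ⟨hdd, Finset.mem_univ _⟩),
      Finset.card_erase_of_mem (Finset.mem_univ _), Finset.card_univ, Fintype.card_fin]
    omega)
  simp only [Finset.mem_erase, Finset.mem_univ, and_true] at ha hb
  have hxv : ∀ i, i ≠ d' → i ≠ d → x' i = 0 := fun i h1 h2 => by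
    show s1 0 (Function.update y d' 0 i) = 0
    rw [Function.update_of_ne h1, hy1 i h2, s1_one]
  have hxd : x' d' = 1 := by
    show s1 0 (Function.update y d' 0 d') = 1
    rw [Function.update_self, s1_zero]
  have := gSub_move h hMi (hd d') (two x' a b hab (hxv a ha.1 ha.2) (hxv b hb.1 hb.2))
    (fun e => zero_ne_one' (by rw [← hxd]; exact (congrFun e d').symm)) (p := 1)
    (by rw [hxd, s1_one]; exact zero_ne_one'.symm) (by
      rw [hs0]
      intro e
      have h5 := congrFun e d
      rw [Function.update_of_ne hdd.symm, hx'] at h5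
      change s1 0 (s1 0 (Function.update y d' 0 d)) = 1 at h5
      rw [s1_inv, Function.update_of_ne hdd.symm, hyd] at h5
      exact zero_ne_one' h5)
  convert this using 2
  rw [hx', (sgT (F := F) (n := 0) (t := s + 1)).inv, Function.update_idem, ← hy1 d' hdd, Function.update_eq_self]

theorem perm_mulVec_bv (π : Equiv.Perm (Fin (s + 1))) (y : Fin (s + 1) → Ix n) :
    ((permGL (κ := Ix n) (F := F) π : GL (Fin (s + 1) → Ix n) F) : BMat) *ᵥ bv y = (1 : F) • bv (y ∘ π.symm) := by
  funext v
  rw [one_smul, bv, mulVec_single_one, Matrix.col_apply, permGL_coe, permMat, Matrix.of_apply, bv, Pi.single_apply]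
  refine if_congr ⟨fun e => ?_, fun e => ?_⟩ rfl rfl
  · funext l; simp [e]
  · funext l; simp [e]

/-- the seed generates `Ω` -/
theorem omega_le_of_seed (h : TQ n (s + 1) k R) (hMi : M ≤ Cfsg.isometryGroup F R) (hB : HasSBase M)
    (hP : 3 ≤ s + 1 → HasSPerms M) (hn : 1 ≤ n ∨ 3 ≤ s) (hseed : HasSeed M) : omegaGL R ≤ M := by
  classical
  obtain ⟨d, hw⟩ := seed_direction h hB hseed
  have hd := adj_of_seed_single h hMi hB hw
  have h0 : ∀ y : Fin (s + 1) → Ix n, y ≠ (fun _ => 1) → bv y ∈ gSub h M fun _ => 0 := by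
    rcases Nat.eq_zero_or_pos n with rfl | hn0
    · have hs : 3 ≤ s := hn.resolve_left (by omega)
      refine fun y => all_directions_zero h hMi hB hs (fun d' => adj_of_seed_single h hMi hB ?_)
      have h1 := gSub_map h hMi (hP (by omega) (Equiv.swap d d')) one_ne_zero (x := fun _ => 0) (y := fun _ => 0)
        (perm_mulVec_bv _ _) hw
      rw [perm_mulVec_bv, one_smul] at h1
      convert h1 using 2
      funext l
      rw [Function.comp_apply, Equiv.symm_swap]
      rcases eq_or_ne l d' with rfl | hl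
      · simp
      · rw [Function.update_of_ne hl, Function.update_of_ne]
        exact fun e => hl ((Equiv.swap d d').injective (e.trans (Equiv.swap_apply_right d d').symm))
    · exact fun y hy => all_directions_pos h hMi hB hn0 hd hy
  have hperp0 : ∀ a : BV, QuadraticMap.polar R (bv fun _ => 0) a = 0 → a ∈ gSub h M fun _ => 0 := by
    intro a ha
    have ha1 : a (fun _ => 1) = 0 := by
      rw [h.pol_bv, show sT n (s + 1) (fun _ => (0 : Ix n)) = fun _ => 1 from funext fun _ => s1_zero,
        show eT n (s + 1) F (fun _ => 0) = 1 from Finset.prod_eq_one fun l _ => e1_zero, one_mul] at ha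
      exact (mul_eq_zero.1 ha).resolve_left h.k0
    rw [pi_eq_sum_univ' a]
    refine Submodule.sum_mem _ fun y _ => ?_
    by_cases hy : y = fun _ => 1
    · rw [hy, ha1, zero_smul]; exact zero_mem _
    · exact Submodule.smul_mem _ _ (h0 y hy)
  have hperp : ∀ (x : Fin (s + 1) → Ix n) (a : BV), QuadraticMap.polar R (bv x) a = 0 → EIn R M (bv x) a := by
    intro x a ha
    have hA : ∀ l, ∃ A ∈ u1 n F, (A : Matrix (Ix n) (Ix n) F) *ᵥ Pi.single 0 1 = Pi.single (x l) 1 := fun l => by
      obtain ⟨B, hB', hBx⟩ := exists_move (F := F) (u := Pi.single (x l) 1) (by simp)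
      exact ⟨B⁻¹, inv_mem hB', by rw [← hBx, gl_inv_mulVec]⟩
    choose A hAu hA0 using hA
    set g := (pureGL A : GL (Fin (s + 1) → Ix n) F) with hg
    have hgx : (g : BMat) *ᵥ bv (fun _ => 0) = (1 : F) • bv x := pure_mulVec_bv A _ _ hA0
    have hga : QuadraticMap.polar R (bv fun _ => 0) (((g⁻¹ : GL _ F) : BMat) *ᵥ a) = 0 := by
      rw [← iso_pol (hMi (hB.pure_mem A hAu)), hgx, one_smul, gl_mulVec_inv, ha]
    have h1 := (gSub_map h hMi (hB.pure_mem A hAu) one_ne_zero hgx (hperp0 _ hga)).2 1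
    rwa [one_smul, gl_mulVec_inv] at h1
  have hall : ∀ u a : BV, R u = 0 → QuadraticMap.polar R u a = 0 → EIn R M u a := by
    intro u a hu hua
    rcases eq_or_ne u 0 with rfl | hu0
    · refine ⟨1, one_mem _, fun x => ?_⟩
      rw [Units.val_one, one_mulVec, pzero_right h.nd]
      simp
    obtain ⟨x, hx⟩ : ∃ x, u (sT n (s + 1) x) ≠ 0 := by
      obtain ⟨y, hy⟩ := Function.ne_iff.1 hu0
      exact ⟨sT n (s + 1) y, by rw [(sgT (F := F) (n := n) (t := s + 1)).inv]; exact hy⟩
    have hne : eT n (s + 1) F x ≠ 0 := fun e0 => by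
      simpa [e0] using (sgT (F := F) (n := n) (t := s + 1)).sq x
    set P := QuadraticMap.polar R (bv x) u with hP'
    have hP0 : P ≠ 0 := by rw [hP', h.pol_bv]; exact mul_ne_zero h.k0 (mul_ne_zero hne hx)
    set q := QuadraticMap.polar R (bv x) (bv (sT n (s + 1) x)) with hq
    have hq0 : q ≠ 0 := by
      rw [hq, h.pol_bv, bv, Pi.single_eq_same, mul_one]; exact mul_ne_zero h.k0 hne
    obtain ⟨b, g, hg, hgE, hb, hgx, hgf⟩ := exists_move_partner h.nd (h.bv_zero x)
      (f := q⁻¹ • bv (sT n (s + 1) x)) (f' := P⁻¹ • u)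
      (by rw [qsmul h.nd, h.bv_zero, mul_zero])
      (by rw [psmul_right h.nd, ← hq, inv_mul_cancel₀ hq0]) (by rw [qsmul h.nd, hu, mul_zero])
      (by rw [psmul_right h.nd, ← hP', inv_mul_cancel₀ hP0])
    have hgM : g ∈ M := by
      obtain ⟨g', hg', hg'E⟩ := hperp x b (by
        rw [hb, psub_right h.nd, psub_right h.nd, psmul_right h.nd, psmul_right h.nd, psmul_right h.nd, ← hP', ← hq,
          pself h.nd, h.bv_zero, inv_mul_cancel₀ hP0, inv_mul_cancel₀ hq0]
        ring)
      rwa [hgE.unique hg'E]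
    have hu' : u = (g : BMat) *ᵥ ((P / q) • bv (sT n (s + 1) x)) := by
      rw [div_eq_mul_inv, ← smul_smul, mulVec_smul, hgf, smul_smul, mul_inv_cancel₀ hP0, one_smul]
    set v := bv (F := F) (sT n (s + 1) x) with hv
    have hua' : QuadraticMap.polar R v ((P / q) • ((g⁻¹ : GL _ F) : BMat) *ᵥ a) = 0 := by
      rw [psmul_right h.nd, ← psmul_left h.nd, ← iso_pol (hMi hgM), ← hu', gl_mulVec_inv, hua]
    obtain ⟨g', hg', hg'E⟩ := hperp _ _ hua'
    have h1 : EIn R M ((P / q) • v) (((g⁻¹ : GL _ F) : BMat) *ᵥ a) := ⟨g', hg', hg'E.smul h.nd⟩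
    have h3 := h1.conj (hMi hgM) hgM
    rwa [← hu', gl_mulVec_inv] at h3
  rw [omegaGL_eq h.nd h.card]
  refine (Subgroup.closure_le _).2 ?_
  rintro g ⟨-, u, a, hu, hua, hgE⟩
  obtain ⟨g', hg', hg'E⟩ := hall u a hu hua
  rw [hgE.unique hg'E]
  exact hg'

end CfsgLib.Perm.Trans.TensorPowerSp
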