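import Cfsg.Agent.Lib.Perm.Trans.TensorPowerSp.Base
import Cfsg.Agent.Lib.Perm.Trans.TensorPower.Main

/-!
# Blocks, cofactors of roots and differences
-/

set_option autoImplicit false
set_option linter.all false

namespace CfsgLib.Perm.Trans.TensorPowerSp

open scoped Matrix
open Matrix Cfsg.Geo CfsgLib.Perm.Asch CfsgLib.Perm.Trans CfsgLib.Perm.Trans.TensorPower

variable {F : Type*} [Field F] {n s t : ℕ}

section Ops

variable {ι : Type} [Fintype ι] [DecidableEq ι]

/-- the difference under conjugation -/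
def df (g : GL ι F) : Matrix ι ι F →ₗ[F] Matrix ι ι F := (cjAlg g).toLinearMap - LinearMap.id

theorem df_apply (g : GL ι F) (X : Matrix ι ι F) : df g X = cj g X - X := rfl

/-- a product of differences -/
def dd (gs : List (GL ι F)) : Matrix ι ι F →ₗ[F] Matrix ι ι F := gs.foldr (fun g φ => df g ∘ₗ φ) LinearMap.id

theorem dd_cons (g : GL ι F) (gs : List (GL ι F)) (X : Matrix ι ι F) : dd (g :: gs) X = cj g (dd gs X) - dd gs X := rfl

theorem dd_nil (X : Matrix ι ι F) : dd ([] : List (GL ι F)) X = X := rfl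

theorem dd_mem {S : AddSubgroup (Matrix ι ι F)} {gs : List (GL ι F)} (hS : ∀ g ∈ gs, ∀ X ∈ S, cj g X ∈ S)
    {X : Matrix ι ι F} (hX : X ∈ S) : dd gs X ∈ S := by
  induction gs with
  | nil => exact hX
  | cons g gs ih =>
    have h := ih fun g hg => hS g (List.mem_cons_of_mem _ hg)
    exact S.sub_mem (hS g (List.mem_cons_self ..) _ h) h

theorem dd_one (g : GL ι F) (gs : List (GL ι F)) : dd (gs ++ [g]) (1 : Matrix ι ι F) = 0 := by
  induction gs with
  | nil => rw [List.nil_append, dd_cons, dd_nil, cj_one, sub_self]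
  | cons h gs ih => rw [List.cons_append, dd_cons, ih, TensorPower.cj_zero, sub_zero]

theorem comm_two_sided {ι : Type} [Fintype ι] [DecidableEq ι] {M : Subgroup (GL ι F)} {X Y : Matrix ι ι F}
    (hX : Mem1 M X) (hY : Mem1 M Y) (hXX : X * X = 0) (hYY : Y * Y = 0) (hXYX : X * Y * X = 0)
    (hYXY : Y * X * Y = 0) : Mem1 M (X * Y - Y * X) := by
  obtain ⟨g, hg, hgX⟩ := hX
  obtain ⟨h, hh, hhY⟩ := hY
  refine ⟨g * h * g⁻¹ * h⁻¹, M.mul_mem (M.mul_mem (M.mul_mem hg hh) (M.inv_mem hg)) (M.inv_mem hh), ?_⟩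
  rw [Units.val_mul, Units.val_mul, Units.val_mul, hgX, hhY, inv_one_add hgX hXX, inv_one_add hhY hYY]
  rw [mul_assoc] at hXYX hYXY
  have h1 : X * (Y * (X * Y)) = 0 := by rw [hYXY, mul_zero]
  have h2 : X * (Y * Y) = 0 := by rw [hYY, mul_zero]
  simp only [mul_sub, sub_mul, mul_add, add_mul, mul_one, one_mul, mul_assoc, hXX, hYY, hXYX, hYXY, h1, h2, mul_zero,
    sub_zero, add_zero, zero_add]
  abel

end Ops

theorem pure_update_apply (A : Fin t → Matrix (Ix n) (Ix n) F) (l : Fin t)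
    (X : Matrix (Ix n) (Ix n) F) (x y : Fin t → Ix n) :
    CfsgLib.Perm.Asch.pure (Function.update A l X) x y =
      X (x l) (y l) * ∏ k ∈ Finset.univ.erase l, A k (x k) (y k) := by
  rw [pure_apply, ← Finset.mul_prod_erase Finset.univ _ (Finset.mem_univ l), Function.update_self]
  congr 1
  exact Finset.prod_congr rfl fun k hk => by rw [Function.update_of_ne (Finset.ne_of_mem_erase hk)]

/-- one factor of a pure tensor varies -/
def updL (A : Fin t → Matrix (Ix n) (Ix n) F) (l : Fin t) :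
    Matrix (Ix n) (Ix n) F →ₗ[F] Matrix (Fin t → Ix n) (Fin t → Ix n) F where
  toFun X := CfsgLib.Perm.Asch.pure (Function.update A l X)
  map_add' X Y := by
    ext x y
    rw [Matrix.add_apply, pure_update_apply, pure_update_apply, pure_update_apply, Matrix.add_apply, add_mul]
  map_smul' c X := by
    ext x y
    rw [RingHom.id_apply, Matrix.smul_apply, pure_update_apply, pure_update_apply, Matrix.smul_apply, smul_eq_mul,
      smul_eq_mul, mul_assoc]

theorem updL_apply (A : Fin t → Matrix (Ix n) (Ix n) F) (l : Fin t)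
    (X : Matrix (Ix n) (Ix n) F) : updL A l X = CfsgLib.Perm.Asch.pure (Function.update A l X) := rfl

theorem cj_sl_pure (l : Fin t) (g : GL (Ix n) F) (A : Fin t → Matrix (Ix n) (Ix n) F) :
    cj (sl l g) (CfsgLib.Perm.Asch.pure A) = CfsgLib.Perm.Asch.pure (Function.update A l (cj g (A l))) := by
  rw [cj, ← sl_inv, sl_coe, sl_coe, slot_mul_pure, pure_mul_slot, Function.update_self, Function.update_idem]
  rfl

theorem dd_pure (l : Fin t) (gs : List (GL (Ix n) F)) (A : Fin t → Matrix (Ix n) (Ix n) F) :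
    dd (gs.map (sl l)) (CfsgLib.Perm.Asch.pure A) = CfsgLib.Perm.Asch.pure (Function.update A l (dd gs (A l))) := by
  induction gs with
  | nil => rw [List.map_nil, dd_nil, dd_nil, Function.update_eq_self]
  | cons g gs ih =>
    rw [List.map_cons, dd_cons, dd_cons, ih, cj_sl_pure, Function.update_self, Function.update_idem, ← updL_apply,
      ← updL_apply, ← map_sub, updL_apply]

local notation "Mat" => Matrix (Fin t → Ix n) (Fin t → Ix n) F

/-- `X` commutes with the factor `l` -/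
def Cm (l : Fin t) (X : Mat) : Prop := ∀ u v, sx l u v * X = X * sx l u v

theorem cm_blk (l : Fin t) (c a : Ix n) (X : Mat) : Cm l (blk l c a X) := fun u v => blk_comm l c a u v X

theorem blk_zero (j : Fin t) (c a : Ix n) : blk j c a (0 : Mat) = 0 := by simp [blk]

theorem blk_add (j : Fin t) (c a : Ix n) (X Y : Mat) : blk j c a (X + Y) = blk j c a X + blk j c a Y := by
  simp [blk, mul_add, add_mul, Finset.sum_add_distrib]

theorem blk_sub (j : Fin t) (c a : Ix n) (X Y : Mat) : blk j c a (X - Y) = blk j c a X - blk j c a Y := by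
  simp [blk, mul_sub, sub_mul, Finset.sum_sub_distrib]

theorem blk_smul (j : Fin t) (c a : Ix n) (r : F) (X : Mat) : blk j c a (r • X) = r • blk j c a X := by
  simp [blk, Finset.smul_sum]

theorem blk_sx_left (j : Fin t) (x y a b : Ix n) (X : Mat) :
    blk j x y (sx j a b * X) = if x = a then blk j b y X else 0 := by
  unfold blk
  split_ifs with h
  · subst h
    refine Finset.sum_congr rfl fun r _ => ?_
    rw [← mul_assoc (sx j r x), sx_mul, if_pos rfl]
  · refine Finset.sum_eq_zero fun r _ => ?_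
    rw [← mul_assoc (sx j r x), sx_mul, if_neg h, zero_mul, zero_mul]

theorem blk_sx_right (j : Fin t) (x y a b : Ix n) (X : Mat) :
    blk j x y (X * sx j a b) = if y = b then blk j x a X else 0 := by
  unfold blk
  split_ifs with h
  · subst h
    refine Finset.sum_congr rfl fun r _ => ?_
    rw [mul_assoc, mul_assoc X, sx_mul, if_pos rfl, ← mul_assoc]
  · refine Finset.sum_eq_zero fun r _ => ?_
    rw [mul_assoc, mul_assoc X, sx_mul, if_neg (Ne.symm h), mul_zero, mul_zero]

theorem blk_sx (j : Fin t) (x y a b : Ix n) :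
    blk j x y (sx j a b : Mat) = if x = a ∧ y = b then 1 else 0 := by
  have h := blk_sx_left j x y a b (1 : Mat)
  rw [mul_one, blk_one] at h
  rw [h]
  by_cases h1 : x = a <;> by_cases h2 : b = y <;> simp [h1, h2, Ne.symm]

theorem perm_pp (π : Equiv.Perm (Fin t)) (T : Finset (Fin t)) (a b : Fin t → Ix n) (c : F) :
    cj (permGL π) (pp T a b c) = pp (T.map π.toEmbedding) (a ∘ π.symm) (b ∘ π.symm) c := by
  unfold pp
  rw [cj_smul, cj_permGL_pure]
  congr 2
  funext l
  by_cases hl : π.symm l ∈ T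
  · have hl' : l ∈ T.map π.toEmbedding := by simpa [Finset.mem_map_equiv] using hl
    simp [hl, hl']
  · have hl' : l ∉ T.map π.toEmbedding := by simpa [Finset.mem_map_equiv] using hl
    simp [hl, hl']

theorem pp_cj_pure (W : Fin t → GL (Ix n) F) {T : Finset (Fin t)} {a b a' b' : Fin t → Ix n} (c : F)
    (hT : ∀ l ∈ T, cj (W l) (Matrix.single (a l) (b l) (1 : F)) = Matrix.single (a' l) (b' l) 1) :
    cj (pureGL W) (pp T a b c) = pp T a' b' c := by
  unfold pp
  rw [cj_smul, cj_pureGL]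
  congr 2
  funext l
  by_cases hl : l ∈ T
  · simp [hl, hT l hl]
  · simp [hl, cj_one]

theorem pp_left {T : Finset (Fin t)} {a b : Fin t → Ix n} (c : F) {l : Fin t} (hl : l ∈ T) :
    sx l (a l) (a l) * pp T a b c = pp T a b c := by
  unfold pp
  rw [Matrix.mul_smul, sx, slot_mul_pure, Finset.piecewise_eq_of_mem _ _ _ hl, Matrix.single_mul_single_same, one_mul]
  congr 2
  exact Function.update_eq_self_iff.2 (Finset.piecewise_eq_of_mem T (fun l => Matrix.single (a l) (b l) (1 : F)) 1 hl).symm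

theorem pp_right {T : Finset (Fin t)} {a b : Fin t → Ix n} (c : F) {l : Fin t} (hl : l ∈ T) :
    pp T a b c * sx l (b l) (b l) = pp T a b c := by
  unfold pp
  rw [Matrix.smul_mul, sx, pure_mul_slot, Finset.piecewise_eq_of_mem _ _ _ hl, Matrix.single_mul_single_same, mul_one]
  congr 2
  exact Function.update_eq_self_iff.2 (Finset.piecewise_eq_of_mem T (fun l => Matrix.single (a l) (b l) (1 : F)) 1 hl).symm

theorem dd_pp {T : Finset (Fin t)} {a b : Fin t → Ix n} (c : F) {l : Fin t} (hl : l ∈ T)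
    {gs : List (GL (Ix n) F)} {e : F} {p q : Ix n}
    (h : dd gs (Matrix.single (a l) (b l) (1 : F)) = e • Matrix.single p q 1) :
    dd (gs.map (sl l)) (pp T a b c) = pp T (Function.update a l p) (Function.update b l q) (c * e) := by
  unfold pp
  rw [map_smul, dd_pure, Finset.piecewise_eq_of_mem _ _ _ hl, h, ← updL_apply, map_smul, smul_smul, updL_apply]
  congr 2
  funext k
  rcases eq_or_ne k l with rfl | hk
  · simp [hl]
  · by_cases hkT : k ∈ T <;> simp [hk, hkT]

/-- `s1` commutes with the deletion of a factor -/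
theorem sT_succAbove (j : Fin (s + 1)) (x : Fin (s + 1) → Ix n) :
    (fun i => sT n (s + 1) x (j.succAbove i)) = sT n s fun i => x (j.succAbove i) := rfl

theorem adj_emb (j : Fin (s + 1)) (X : Matrix (Fin s → Ix n) (Fin s → Ix n) F) :
    adj (eT n (s + 1) F) (sT n (s + 1)) (emb j X) = emb j (adj (eT n s F) (sT n s) X) := by
  ext x y
  rw [adj_apply, emb_apply, emb_apply, sT_succAbove, sT_succAbove, adj_apply, mul_ite, mul_zero]
  by_cases hxy : x j = y j
  · rw [if_pos hxy, if_pos (show sT n (s + 1) y j = sT n (s + 1) x j by show s1 n (y j) = s1 n (x j); rw [hxy])]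
    rw [eT, eT, Fin.prod_univ_succAbove _ j, Fin.prod_univ_succAbove _ j, hxy]
    simp only [eT]
    linear_combination (((∏ i : Fin s, e1 n F (x (j.succAbove i))) * ∏ i : Fin s, e1 n F (y (j.succAbove i))) *
      X (sT n s fun i => y (j.succAbove i)) (sT n s fun i => x (j.succAbove i))) * (sg1 (F := F)).sq (y j)
  · rw [if_neg hxy, if_neg (show ¬ sT n (s + 1) y j = sT n (s + 1) x j from fun e => hxy (s1_inv.injective e).symm)]

theorem embGL_mem_iff (j : Fin (s + 1)) {g : GL (Fin s → Ix n) F} :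
    embGL j g ∈ uT n (s + 1) F ↔ g ∈ uT n s F := by
  rw [mem_uSub, mem_uSub, embGL_coe, adj_emb, ← map_mul]
  exact ⟨fun h => emb_injective j (h.trans (map_one (emb j)).symm), fun h => by rw [h, map_one]⟩

theorem cj_embGL (j : Fin (s + 1)) (g : GL (Fin s → Ix n) F)
    (X : Matrix (Fin s → Ix n) (Fin s → Ix n) F) :
    cj (embGL j g) (emb j X) = emb j (cj g X) := by
  rw [cj, cj, ← map_inv, embGL_coe, embGL_coe, map_mul, map_mul]

theorem cj_embGL_sx (j : Fin (s + 1)) (g : GL (Fin s → Ix n) F) (a b : Ix n) :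
    cj (embGL j g) (sx j a b) = sx (F := F) j a b :=
  cj_eq_self (by rw [embGL_coe]; exact (emb_comm_units j _ a b).symm)

theorem cj_sl_emb (j : Fin (s + 1)) (a : GL (Ix n) F)
    (X : Matrix (Fin s → Ix n) (Fin s → Ix n) F) : cj (sl j a) (emb j X) = emb j X :=
  cj_eq_self (by rw [sl_coe]; exact comm_slot_of_units (emb_comm_units j X) _)

theorem pure_split (j : Fin (s + 1)) (A : Fin (s + 1) → Matrix (Ix n) (Ix n) F) :
    CfsgLib.Perm.Asch.pure A = slot j (A j) * emb j (CfsgLib.Perm.Asch.pure fun i => A (j.succAbove i)) := by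
  rw [emb_pure, slot_mul_pure, Fin.insertNth_apply_same, mul_one, Fin.update_insertNth]
  exact congrArg _ (Fin.insertNth_self_removeNth j A).symm

/-- a root in one factor times a cofactor -/
def rx01 (j : Fin (s + 1)) : Matrix (Fin s → Ix n) (Fin s → Ix n) F →ₗ[F]
    Matrix (Fin (s + 1) → Ix n) (Fin (s + 1) → Ix n) F :=
  (LinearMap.mulLeft F (sx j 0 1)) ∘ₗ (emb j).toLinearMap

theorem rx01_apply (j : Fin (s + 1)) (Z : Matrix (Fin s → Ix n) (Fin s → Ix n) F) :
    rx01 j Z = sx j 0 1 * emb j Z := rfl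

theorem rx01_injective (j : Fin (s + 1)) : Function.Injective (rx01 (F := F) (n := n) j) := by
  intro Z Z' h
  ext x y
  have e := congrFun (congrFun h (j.insertNth 0 x)) (j.insertNth 1 y)
  simpa [rx01_apply, sx_mul_apply, emb_apply] using e

theorem adj_rx01 (j : Fin (s + 1)) (Z : Matrix (Fin s → Ix n) (Fin s → Ix n) F) :
    adj (eT n (s + 1) F) (sT n (s + 1)) (rx01 j Z) = -rx01 j (adj (eT n s F) (sT n s) Z) := by
  rw [rx01_apply, rx01_apply, adj_mul sgT, adj_emb, adj_sx01, mul_neg, emb_comm_units]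

section Sets

variable {M : Subgroup (GL (Fin t → Ix n) F)}

theorem zero_one_mul (j : Fin t) {P Q : Matrix (Fin t → Ix n) (Fin t → Ix n) F}
    (hP : P * sx j 1 1 = P) (hQ : sx j 0 0 * Q = Q) : P * Q = 0 := by
  rw [← hP, ← hQ, mul_assoc, ← mul_assoc (sx j 1 1), sx_mul, if_neg (by simp), zero_mul, mul_zero]

/-- the elements of `M` supported on the root of one factor -/
def blkG (M : Subgroup (GL (Fin t → Ix n) F)) (j : Fin t) :
    AddSubgroup (Matrix (Fin t → Ix n) (Fin t → Ix n) F) where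
  carrier := {X | Mem1 M X ∧ sx j 0 0 * X = X ∧ X * sx j 1 1 = X}
  zero_mem' := ⟨Mem1.zero, mul_zero _, zero_mul _⟩
  add_mem' := by
    rintro X Y ⟨hX, hX0, hX1⟩ ⟨hY, hY0, hY1⟩
    refine ⟨?_, by rw [mul_add, hX0, hY0], by rw [add_mul, hX1, hY1]⟩
    have hn := hY.neg (zero_one_mul j hY1 hY0)
    simpa using hX.sub hn (by rw [mul_neg, zero_one_mul j hX1 hY0, neg_zero])
      (by rw [neg_mul_neg, zero_one_mul j hY1 hY0])
  neg_mem' := by
    rintro X ⟨hX, hX0, hX1⟩
    exact ⟨hX.neg (zero_one_mul j hX1 hX0),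
      by rw [mul_neg, hX0], by rw [neg_mul, hX1]⟩

theorem mem_blkG {j : Fin t} {X : Matrix (Fin t → Ix n) (Fin t → Ix n) F} :
    X ∈ blkG M j ↔ Mem1 M X ∧ sx j 0 0 * X = X ∧ X * sx j 1 1 = X := Iff.rfl

theorem cj_mem_blkG {j l : Fin t} (hlj : l ≠ j) {a : GL (Ix n) F} (ha : sl l a ∈ M)
    {X : Matrix (Fin t → Ix n) (Fin t → Ix n) F} (hX : X ∈ blkG M j) : cj (sl l a) X ∈ blkG M j := by
  have e : ∀ p q, cj (sl l a) (sx (F := F) j p q) = sx j p q := fun p q => cj_sl_slot_ne hlj a _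
  exact ⟨hX.1.conj ha, by rw [← e, ← cj_mul, hX.2.1], by rw [← e, ← cj_mul, hX.2.2]⟩

theorem dd_mem_blkG {j l : Fin t} (hlj : l ≠ j) {gs : List (GL (Ix n) F)} (hgs : ∀ g ∈ gs, sl l g ∈ M)
    {X : Matrix (Fin t → Ix n) (Fin t → Ix n) F} (hX : X ∈ blkG M j) :
    dd (gs.map (sl l)) X ∈ blkG M j :=
  dd_mem (fun g hg Y hY => by
    obtain ⟨a, ha, rfl⟩ := List.mem_map.1 hg
    exact cj_mem_blkG hlj (hgs a ha) hY) hX

end Sets

section Small

variable {M : Subgroup (GL (Fin (s + 1) → Ix n) F)}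

/-- the cofactors of the root of one factor -/
def smallS (M : Subgroup (GL (Fin (s + 1) → Ix n) F)) (j : Fin (s + 1)) :
    AddSubgroup (Matrix (Fin s → Ix n) (Fin s → Ix n) F) :=
  (blkG M j).comap (rx01 j).toAddMonoidHom

theorem mem_smallS {j : Fin (s + 1)} {Z : Matrix (Fin s → Ix n) (Fin s → Ix n) F} :
    Z ∈ smallS M j ↔ Mem1 M (sx j 0 1 * emb j Z) := by
  refine ⟨fun h => h.1, fun h => ⟨h, ?_, ?_⟩⟩
  · show sx j 0 0 * (sx j 0 1 * emb j Z) = _
    rw [← mul_assoc, sx_mul, if_pos rfl]; rfl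
  · show sx j 0 1 * emb j Z * sx j 1 1 = _
    rw [mul_assoc, ← emb_comm_units, ← mul_assoc, sx_mul, if_pos rfl]; rfl

theorem cj_mem_smallS {j : Fin (s + 1)} {g : GL (Fin s → Ix n) F} (hg : embGL j g ∈ M)
    {Z : Matrix (Fin s → Ix n) (Fin s → Ix n) F} (hZ : Z ∈ smallS M j) : cj g Z ∈ smallS M j := by
  rw [mem_smallS] at hZ ⊢
  have := hZ.conj hg
  rwa [cj_mul, cj_embGL_sx, cj_embGL] at this

theorem HasSBase.cj_sl_mem (hB : HasSBase M) {j : Fin (s + 1)} (l : Fin s) {a : GL (Ix n) F}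
    (ha : a ∈ u1 n F)
    {Z : Matrix (Fin s → Ix n) (Fin s → Ix n) F} (hZ : Z ∈ smallS M j) :
    cj (sl l a) Z ∈ smallS M j :=
  cj_mem_smallS (by rw [embGL_sl]; exact hB.sl_mem _ ha) hZ

/-- the cofactors are self-adjoint -/
theorem sym_of_mem (hM : M ≤ uT n (s + 1) F) {j : Fin (s + 1)}
    {Z : Matrix (Fin s → Ix n) (Fin s → Ix n) F} (hZ : Z ∈ smallS M j) :
    adj (eT n s F) (sT n s) Z = Z := by
  obtain ⟨g, hg, he⟩ := hZ.1
  have h0 : rx01 j Z * rx01 j Z = 0 := by
    rw [rx01_apply, mul_assoc, ← mul_assoc (emb j Z), ← emb_comm_units, mul_assoc, ← mul_assoc (sx j 0 1), sx_mul,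
      if_neg (by simp), zero_mul]
  refine rx01_injective j (neg_injective ?_)
  rw [← adj_rx01]
  exact adj_of_one_add (hM hg) he h0

/-- the cofactors of roots are closed under the scalars -/
theorem smul_mem_smallS [Fintype F] (hB : HasSBase M) {j : Fin (s + 1)} (d : F)
    {Z : Matrix (Fin s → Ix n) (Fin s → Ix n) F} (hZ : Z ∈ smallS M j) : d • Z ∈ smallS M j := by
  have hsq : ∀ x : F, (x * x) • Z ∈ smallS M j := by
    intro x
    rcases eq_or_ne x 0 with rfl | hx0
    · rw [mul_zero, zero_smul]; exact zero_mem _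
    have hmem := hB.sl_mem j (tor_mem (n := n) (Units.mk0 x hx0))
    rw [mem_smallS] at hZ ⊢
    have := hZ.conj hmem
    rw [cj_mul, cj_sl_emb, sx, cj_sl_slot, cj_tor01, ← slotHom_apply, map_smul, Matrix.smul_mul, Units.val_mk0] at this
    rwa [map_smul, Matrix.mul_smul]
  obtain ⟨a, b, hab⟩ := exists_two_squares d
  rw [← hab, add_smul]
  exact add_mem (hsq a) (hsq b)

end Small

end CfsgLib.Perm.Trans.TensorPowerSp
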