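import Cfsg.Agent.Lib.Perm.Trans.TensorPowerSp.Emb

/-!
# The unipotent radical of the stabiliser of the first vector, and its fixed cofactors
-/

set_option autoImplicit false
set_option linter.all false

namespace CfsgLib.Perm.Trans.TensorPowerSp

open scoped Matrix
open Matrix Cfsg.Geo CfsgLib.Perm.Asch CfsgLib.Perm.Trans CfsgLib.Perm.Trans.TensorPower

variable {F : Type*} [Field F] {n s t : ℕ}

/-- strictly above the first vector and below the second -/
def Sh (N : Matrix (Ix n) (Ix n) F) : Prop :=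
  ∀ x y, (x ≠ 0 → y ≠ 1 → N x y = 0) ∧ N x 0 = 0 ∧ N 1 y = 0

theorem Sh.mul_eq {N N' : Matrix (Ix n) (Ix n) F} (h : Sh N) (h' : Sh N') (x y : Ix n)
    (hxy : x ≠ 0 ∨ y ≠ 1) : (N * N') x y = 0 := by
  rw [Matrix.mul_apply]
  refine Finset.sum_eq_zero fun z _ => ?_
  by_cases hz0 : z = 0
  · rw [hz0, (h x 0).2.1, zero_mul]
  by_cases hz1 : z = 1
  · rw [hz1, (h' 1 y).2.2, mul_zero]
  rcases hxy with hx | hy
  · rw [(h x z).1 hx hz1, zero_mul]
  · rw [(h' z y).1 hz0 hy, mul_zero]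

theorem Sh.mul {N N' : Matrix (Ix n) (Ix n) F} (h : Sh N) (h' : Sh N') : Sh (N * N') := fun x y =>
  ⟨fun hx _ => h.mul_eq h' x y (Or.inl hx), h.mul_eq h' x 0 (Or.inr (by simp)), h.mul_eq h' 1 y (Or.inl (by simp))⟩

theorem Sh.add {N N' : Matrix (Ix n) (Ix n) F} (h : Sh N) (h' : Sh N') : Sh (N + N') := fun x y =>
  ⟨fun hx hy => by rw [Matrix.add_apply, (h x y).1 hx hy, (h' x y).1 hx hy, add_zero],
    by rw [Matrix.add_apply, (h x y).2.1, (h' x y).2.1, add_zero],
    by rw [Matrix.add_apply, (h x y).2.2, (h' x y).2.2, add_zero]⟩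

theorem Sh.neg {N : Matrix (Ix n) (Ix n) F} (h : Sh N) : Sh (-N) := fun x y =>
  ⟨fun hx hy => by rw [Matrix.neg_apply, (h x y).1 hx hy, neg_zero],
    by rw [Matrix.neg_apply, (h x y).2.1, neg_zero], by rw [Matrix.neg_apply, (h x y).2.2, neg_zero]⟩

theorem Sh.cube {N : Matrix (Ix n) (Ix n) F} (h : Sh N) : N * N * N = 0 := by
  ext x y
  rw [Matrix.mul_apply, Matrix.zero_apply]
  refine Finset.sum_eq_zero fun z _ => ?_
  by_cases hz : z = 1
  · rw [hz, (h 1 y).2.2, mul_zero]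
  · rw [h.mul_eq h x z (Or.inr hz), zero_mul]

theorem sh_zero : Sh (0 : Matrix (Ix n) (Ix n) F) := fun _ _ => ⟨fun _ _ => rfl, rfl, rfl⟩

/-- the unipotent radical -/
def uQ (n : ℕ) (F : Type*) [Field F] : Subgroup (GL (Ix n) F) where
  carrier := {g | g ∈ u1 n F ∧ ∃ N, Sh N ∧ (g : Matrix (Ix n) (Ix n) F) = 1 + N}
  one_mem' := ⟨one_mem _, 0, sh_zero, by rw [Units.val_one, add_zero]⟩
  mul_mem' := by
    rintro a b ⟨ha, N, hN, hae⟩ ⟨hb, N', hN', hbe⟩
    exact ⟨mul_mem ha hb, N + N' + N * N', (hN.add hN').add (hN.mul hN'), by rw [Units.val_mul, hae, hbe]; noncomm_ring⟩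
  inv_mem' := by
    rintro a ⟨ha, N, hN, hae⟩
    refine ⟨inv_mem ha, -N + N * N, hN.neg.add (hN.mul hN), ?_⟩
    have h1 : (a : Matrix (Ix n) (Ix n) F) * (1 + (-N + N * N)) = 1 := by
      rw [hae]
      have := hN.cube
      rw [mul_assoc] at this
      noncomm_ring [this]
    calc ((a⁻¹ : GL (Ix n) F) : Matrix (Ix n) (Ix n) F)
        = ((a⁻¹ : GL (Ix n) F) : Matrix (Ix n) (Ix n) F) *
            ((a : Matrix (Ix n) (Ix n) F) * (1 + (-N + N * N))) := by rw [h1, mul_one]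
      _ = _ := by rw [← mul_assoc, gl_inv_mul, one_mul]

theorem rt_mem_uQ (c : F) : rt n c ∈ uQ n F :=
  ⟨rt_mem c, _, fun x y => by
    simp only [Matrix.smul_apply, Matrix.single_apply]
    refine ⟨fun hx _ => by simp [Ne.symm hx], by simp, by simp⟩, rt_coe c⟩

theorem eta_mem_uQ {a : Ix n} (ha0 : a ≠ 0) (ha1 : a ≠ 1) (l : F) : eta a ha0 ha1 l ∈ uQ n F :=
  ⟨eta_mem ha0 ha1 l, _, fun x y => by
    simp only [etaN, Matrix.add_apply, Matrix.single_apply]
    refine ⟨fun hx hy => by simp [Ne.symm hx, Ne.symm hy], by simp [(s1_mid ha0 ha1).1], by simp [ha1]⟩,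
    eta_coe ha0 ha1 l⟩

theorem uQ_pow [Fintype F] {p : ℕ} [Fact p.Prime] [CharP F p] {g : GL (Ix n) F} (hg : g ∈ uQ n F) :
    g ^ p ^ 2 = 1 := by
  obtain ⟨-, N, hN, he⟩ := hg
  refine Units.ext ?_
  rw [Units.val_pow_eq_pow_val, he, add_pow_char_pow_of_commute p 2 (Commute.one_left N), one_pow, Units.val_one]
  have h3 : 3 ≤ p ^ 2 := by
    have := (Fact.out : p.Prime).two_le
    nlinarith
  obtain ⟨k, hk⟩ := Nat.exists_eq_add_of_le h3
  rw [hk, pow_add, pow_succ, pow_two, hN.cube, zero_mul, add_zero]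

/-- the linear map forgetting scalars -/
def noScal (s n : ℕ) : Matrix (Fin s → Ix n) (Fin s → Ix n) F →ₗ[F]
    Matrix (Fin s → Ix n) (Fin s → Ix n) F where
  toFun Z := Z - Z (fun _ => 0) (fun _ => 0) • 1
  map_add' Z W := by rw [Matrix.add_apply, add_smul]; abel
  map_smul' c Z := by simp [smul_sub, smul_smul]

theorem noScal_apply (Z : Matrix (Fin s → Ix n) (Fin s → Ix n) F) :
    noScal s n Z = Z - Z (fun _ => 0) (fun _ => 0) • 1 := rfl

theorem noScal_one (c : F) : noScal (F := F) s n (c • 1) = 0 := by simp [noScal_apply]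

theorem noScal_cj (g : GL (Fin s → Ix n) F) (Z : Matrix (Fin s → Ix n) (Fin s → Ix n) F) :
    noScal s n (cj g (noScal s n Z)) = noScal s n (cj g Z) := by
  rw [noScal_apply Z, cj_sub, cj_smul, cj_one, map_sub, noScal_one, sub_zero]

/-- a group of `p`-power exponent fixes a non-scalar element of an invariant additive group, modulo scalars -/
theorem exists_fixed_mod_scalars [Fintype F] (S : AddSubgroup (Matrix (Fin s → Ix n) (Fin s → Ix n) F))
    (hS : ∀ B : Fin s → GL (Ix n) F, (∀ l, B l ∈ uQ n F) → ∀ Z ∈ S, cj (pureGL B) Z ∈ S)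
    {Z : Matrix (Fin s → Ix n) (Fin s → Ix n) F} (hZ : Z ∈ S) (hne : ∀ c : F, Z ≠ c • 1) :
    ∃ W ∈ S, (∀ c : F, W ≠ c • 1) ∧ ∀ (l : Fin s) (g : GL (Ix n) F), g ∈ uQ n F →
      ∃ c : F, cj (sl l g) W = W + c • 1 := by
  classical
  obtain ⟨p, hp⟩ := CharP.exists F
  haveI : Fact p.Prime := ⟨CharP.char_is_prime F p⟩
  let U : Subgroup (GL (Fin s → Ix n) F) :=
    { carrier := {g | ∃ B : Fin s → GL (Ix n) F, (∀ l, B l ∈ uQ n F) ∧ g = pureGL B}
      one_mem' := ⟨1, fun l => one_mem _, pureGL_one.symm⟩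
      mul_mem' := by
        rintro a b ⟨A, hA, rfl⟩ ⟨B, hB, rfl⟩
        exact ⟨A * B, fun l => mul_mem (hA l) (hB l), pureGL_mul A B⟩
      inv_mem' := by
        rintro a ⟨A, hA, rfl⟩
        exact ⟨A⁻¹, fun l => inv_mem (hA l), inv_eq_of_mul_eq_one_right (by rw [pureGL_mul, mul_inv_cancel, pureGL_one])⟩ }
  have hU : IsPGroup p U := by
    rintro ⟨g, B, hB, rfl⟩
    refine ⟨2, Subtype.ext ?_⟩
    show pureGL B ^ p ^ 2 = 1
    have hpow : ∀ k : ℕ, pureGL B ^ k = pureGL (B ^ k) := fun k => by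
      induction k with
      | zero => rw [pow_zero, pow_zero, pureGL_one]
      | succ k ih => rw [pow_succ, pow_succ, ih, pureGL_mul]
    rw [hpow, show B ^ p ^ 2 = 1 from funext fun l => uQ_pow (hB l), pureGL_one]
  let P : AddSubgroup (Matrix (Fin s → Ix n) (Fin s → Ix n) F) := S.map (noScal s n).toAddMonoidHom
  have hP : ∀ (g : U) (x : P), noScal s n (cj g.1 x.1) ∈ P := by
    rintro ⟨g, B, hB, rfl⟩ ⟨x, W, hW, rfl⟩
    exact ⟨_, hS B hB W hW, (noScal_cj _ W).symm⟩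
  letI : SMul U P := ⟨fun g x => ⟨_, hP g x⟩⟩
  letI : MulAction U P :=
    { one_smul := fun x => Subtype.ext (by
        obtain ⟨W, -, hW⟩ := x.2
        show noScal s n (cj ((1 : U) : GL (Fin s → Ix n) F) x.1) = x.1
        rw [← hW]
        show noScal s n (cj ((1 : U) : GL (Fin s → Ix n) F) (noScal s n W)) = noScal s n W
        rw [noScal_cj]; simp [cj])
      mul_smul := fun g h x => Subtype.ext (by
        show noScal s n (cj ((g * h : U) : GL (Fin s → Ix n) F) x.1) = noScal s n (cj g.1 (noScal s n (cj h.1 x.1)))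
        rw [noScal_cj, cj_cj]; rfl) }
  have h0 : (0 : P) ∈ MulAction.fixedPoints U P := fun g => Subtype.ext (by
    show noScal s n (cj g.1 0) = 0
    rw [TensorPower.cj_zero, map_zero])
  have hx : noScal s n Z ≠ 0 := fun e => hne _ (sub_eq_zero.1 e)
  have hdvd : p ∣ Nat.card P := by
    have h1 : addOrderOf (⟨_, Z, hZ, rfl⟩ : P) = p := addOrderOf_eq_prime (Subtype.ext (by
        show p • noScal s n Z = 0
        rw [← Nat.cast_smul_eq_nsmul F, CharP.cast_eq_zero, zero_smul]))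
      fun e => hx (congrArg Subtype.val e)
    exact h1 ▸ addOrderOf_dvd_natCard _
  obtain ⟨⟨w, W, hW, rfl⟩, hfix, hw⟩ := hU.exists_fixed_point_of_prime_dvd_card_of_fixed_point P hdvd h0
  refine ⟨W, hW, fun c hc => hw (Subtype.ext ?_), fun l g hg => ?_⟩
  · show (0 : Matrix (Fin s → Ix n) (Fin s → Ix n) F) = noScal s n W
    rw [hc, noScal_one]
  · have hmem : sl l g ∈ U := ⟨Pi.mulSingle l g, fun k => by
      rcases eq_or_ne k l with rfl | hk
      · simpa using hg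
      · rw [Pi.mulSingle_eq_of_ne hk]; exact one_mem _, rfl⟩
    have e : noScal s n (cj (sl l g) (noScal s n W)) = noScal s n W := congrArg Subtype.val (hfix ⟨_, hmem⟩)
    rw [noScal_cj, noScal_apply, noScal_apply, sub_eq_sub_iff_add_eq_add] at e
    refine ⟨cj (sl l g) W (fun _ => 0) (fun _ => 0) - W (fun _ => 0) (fun _ => 0), ?_⟩
    rw [sub_smul, add_sub, eq_sub_iff_add_eq, e]

end CfsgLib.Perm.Trans.TensorPowerSp
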