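import Cfsg.Agent.Lib.Perm.Trans.TensorPowerSp.Emb
import Cfsg.Agent.Lib.Perm.Trans.TensorPowerSp.Unip

/-!
# Patterns of one factor and the vectors fixed by the unipotent radical
-/

set_option autoImplicit false
set_option linter.all false

namespace CfsgLib.Perm.Trans.TensorPowerSp

open scoped Matrix
open Matrix Cfsg.Geo CfsgLib.Perm.Asch CfsgLib.Perm.Trans CfsgLib.Perm.Trans.TensorPower

variable {F : Type*} [Field F] {n s t : ℕ}

local notation "Mat" => Matrix (Fin t → Ix n) (Fin t → Ix n) F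

theorem single_smul_one {ι : Type} [DecidableEq ι] {p q : ι} (c : F) :
    Matrix.single p q c = c • Matrix.single p q (1 : F) := by
  rw [Matrix.smul_single, smul_eq_mul, mul_one]

theorem ext_blk (j : Fin t) {X Y : Mat} (h : ∀ x y, blk j x y X = blk j x y Y) : X = Y := by
  rw [← blk_sum j X, ← blk_sum j Y]
  simp only [h]

theorem slot_single_smul (j : Fin t) (a b : Ix n) (r : F) : (slot j (Matrix.single a b r) : Mat) = r • sx j a b := by
  rw [single_smul_one r, ← slotHom_apply, map_smul]; rfl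

theorem blk_slot (j : Fin t) (x y : Ix n) (A : Matrix (Ix n) (Ix n) F) :
    blk j x y (slot j A : Mat) = A x y • 1 := by
  have e : ∀ r, sx j r x * slot j A * sx j y r = (A x y) • (sx j r r : Mat) := fun r => by
    rw [← slot_single_smul, sx, sx, slot_mul, slot_mul]
    congr 1
    ext p q
    rw [Matrix.mul_apply, Finset.sum_eq_single y (fun z _ hz => by simp [Ne.symm hz]) (by simp), Matrix.mul_apply,
      Finset.sum_eq_single x (fun z _ hz => by simp [Ne.symm hz]) (by simp)]
    by_cases h1 : r = p <;> by_cases h2 : r = q <;> simp [h1, h2, Matrix.single_apply]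
  rw [blk, Finset.sum_congr rfl fun r _ => e r, ← Finset.smul_sum, sx_sum]

theorem one_mat_ne : (1 : Mat) ≠ 0 := fun e => by
  have := congrFun (congrFun e fun _ => 0) fun _ => 0
  simp at this

/-- the equation of a fixed point -/
theorem fixed_eq {l : Fin t} {g : GL (Ix n) F} {N : Matrix (Ix n) (Ix n) F} {Z : Mat} {c : F}
    (he : (g : Matrix (Ix n) (Ix n) F) = 1 + N) (h : cj (sl l g) Z = Z + c • 1) :
    slot l N * Z - Z * slot l N = c • (1 + slot l N) := by
  have h1 : (sl l g : Mat) * Z = (Z + c • 1) * (sl l g : Mat) := by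
    rw [← h, cj, mul_assoc, gl_inv_mul, mul_one]
  rw [sl_coe, he, slot_add, slot_one, add_mul, one_mul, add_mul, mul_add, mul_one, Matrix.smul_mul, one_mul] at h1
  rw [← sub_eq_zero]
  rw [← sub_eq_zero] at h1
  rw [← h1]
  abel

/-- the middle indices -/
def midS (n : ℕ) : Finset (Ix n) := (Finset.univ.erase 0).erase 1

theorem mem_midS {a : Ix n} : a ∈ midS n ↔ a ≠ 0 ∧ a ≠ 1 := by simp [midS]; tauto

/-- a self-adjoint element fixed by the unipotent radical -/
def za (a : Ix n) : Matrix (Ix n) (Ix n) F := Matrix.single a 1 1 - Matrix.single 0 (s1 n a) (e1 n F a)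

/-- the self-adjoint element of two vectors -/
def wed (u w : Ix n → F) : Matrix (Ix n) (Ix n) F :=
  vecMulVec u (dual (e1 n F) (s1 n) w) - vecMulVec w (dual (e1 n F) (s1 n) u)

theorem wed_e0 (a : Ix n) : wed (Pi.single 0 1) (Pi.single a (1 : F)) = za a := by
  rw [wed, za, dual_e0, dual_single sg1, mul_one, e1_s1, vecMulVec_neg, vmv_single2, vmv_single2, sub_neg_eq_add,
    one_mul, mul_one, ← Matrix.singleAddMonoidHom_apply, map_neg, Matrix.singleAddMonoidHom_apply]
  abel

theorem cj_wed {g : GL (Ix n) F} (hg : g ∈ u1 n F) (u w : Ix n → F) :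
    cj g (wed u w) = wed ((g : Matrix (Ix n) (Ix n) F) *ᵥ u) ((g : Matrix (Ix n) (Ix n) F) *ᵥ w) := by
  rw [wed, wed, TensorPower.cj_sub, cj_vmv_dual hg, cj_vmv_dual hg]

theorem wed_smul_right (u w : Ix n → F) (c : F) : wed u (c • w) = c • wed u w := by
  rw [wed, wed, dual_smul, vecMulVec_smul, smul_vecMulVec, smul_sub]

theorem wed_add_right (u w w' : Ix n → F) : wed u (w + w') = wed u w + wed u w' := by
  rw [wed, wed, wed, dual_add, vecMulVec_add, add_vecMulVec]
  abel

theorem adj_za (a : Ix n) : adj (e1 n F) (s1 n) (za (F := F) a) = za a := by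
  rw [← wed_e0, wed, adj_sub, adj_vecMulVec sg1, adj_vecMulVec sg1, neg_one_smul, neg_one_smul]
  abel

/-- the factor of a pattern: the root, or a self-adjoint element -/
def pt (a : Ix n) : Matrix (Ix n) (Ix n) F := if a = 0 then Matrix.single 0 1 1 else za a

theorem pt_ne_zero {a : Ix n} (ha : a ≠ 1) : ∃ x y, pt (F := F) a x y ≠ 0 := by
  unfold pt
  split_ifs with h0
  · exact ⟨0, 1, by simp⟩
  · exact ⟨a, 1, by simp [za, Matrix.single_apply, Ne.symm h0]⟩

/-- in one factor: a scalar, the root and the self-adjoint fixed elements -/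
def Fix3 (l : Fin t) (Z : Mat) : Prop :=
  ∃ (B C : Mat) (D : Ix n → Mat), Cm l B ∧ Cm l C ∧ (∀ a, Cm l (D a)) ∧
    Z = B + sx l 0 1 * C + ∑ a ∈ midS n, slot l (za a) * D a

theorem fix3_of_fixed (hd : (2 : F) ≠ 0 ∨ ((2 : F) = 0 ∧ 2 ≤ n)) {l : Fin t} {Z : Mat}
    (h : ∀ g : GL (Ix n) F, g ∈ uQ n F → ∃ c : F, cj (sl l g) Z = Z + c • 1) : Fix3 l Z := by
  set B := fun x y => blk l x y Z with hB
  have h10 : (1 : Ix n) ≠ 0 := by simp
  -- the long root
  obtain ⟨c, hc⟩ := h _ (rt_mem_uQ 1)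
  have e1' := fixed_eq (rt_coe (1 : F)) hc
  rw [one_smul, slot_single_smul, one_smul] at e1'
  have E1 : ∀ x y, ((if x = 0 then B 1 y else 0) - if y = 1 then B x 0 else 0) =
      c • ((if x = y then 1 else 0) + if x = 0 ∧ y = 1 then (1 : Mat) else 0) := by
    intro x y
    have := congrArg (blk l x y) e1'
    simpa only [blk_sub, blk_add, blk_smul, Matrix.smul_mul, Matrix.mul_smul, blk_sx_left, blk_sx_right, blk_one,
      blk_sx, smul_sub] using this
  have hc0 : c = 0 := by
    rcases hd with h2 | ⟨-, hn⟩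
    swap
    · have hu : ((⟨2, by omega⟩ : Ix n)) ≠ 0 ∧ ((⟨2, by omega⟩ : Ix n)) ≠ 1 :=
        ⟨fun e => by simpa using congrArg Fin.val e, fun e => by simpa using congrArg Fin.val e⟩
      have a := E1 ⟨2, by omega⟩ ⟨2, by omega⟩
      simp [hu.1, hu.2] at a
      exact (smul_eq_zero.1 a.symm).resolve_right one_mat_ne
    have a := E1 1 1
    have b := E1 0 0
    simp at a b
    have e : (2 : F) • (c • (1 : Mat)) = 0 := by
      rw [two_smul]; nth_rewrite 1 [← a]; rw [← b]; abel
    rw [smul_smul, smul_eq_zero] at e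
    exact (mul_eq_zero.1 (e.resolve_right one_mat_ne)).resolve_left h2
  subst hc0
  have E1' : ∀ x y, (if x = 0 then B 1 y else 0) = if y = 1 then B x 0 else 0 := fun x y => by
    have := E1 x y
    rw [zero_smul] at this
    exact sub_eq_zero.1 this
  have h1y : ∀ y, y ≠ 1 → B 1 y = 0 := fun y hy => by simpa [hy] using E1' 0 y
  have hx0 : ∀ x, x ≠ 0 → B x 0 = 0 := fun x hx => by simpa [hx] using (E1' x 1).symm
  have h00 : B 1 1 = B 0 0 := by simpa using E1' 0 1
  -- the short roots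
  have E2 : ∀ a : Ix n, a ≠ 0 → a ≠ 1 →
      B a a = B 1 1 ∧ (∀ b, b ≠ 0 → b ≠ 1 → b ≠ a → B b a = 0) ∧ B 0 a = e1 n F a • B (s1 n a) 1 := by
    intro a ha0 ha1
    obtain ⟨c, hc⟩ := h _ (eta_mem_uQ ha0 ha1 1)
    have e2 := fixed_eq (eta_coe ha0 ha1 1) hc
    rw [etaN, slot_add, slot_single_smul, slot_single_smul, one_smul, mul_one] at e2
    have hb0 := (s1_mid ha0 ha1).1
    have hb1 := (s1_mid ha0 ha1).2
    have E : ∀ x y, (((if x = a then B 1 y else 0) + e1 n F a • if x = 0 then B (s1 n a) y else 0)) -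
        ((if y = 1 then B x a else 0) + e1 n F a • if y = s1 n a then B x 0 else 0) =
        c • ((if x = y then 1 else 0) + ((if x = a ∧ y = 1 then (1 : Mat) else 0) +
          e1 n F a • if x = 0 ∧ y = s1 n a then 1 else 0)) := by
      intro x y
      have := congrArg (blk l x y) e2
      simpa only [blk_sub, blk_add, blk_smul, add_mul, mul_add, Matrix.smul_mul, Matrix.mul_smul, blk_sx_left,
        blk_sx_right, blk_one, blk_sx] using this
    have hc0 : c = 0 := by
      have := E 1 1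
      simp [ha1.symm, h1y a ha1, hb1.symm] at this
      exact (smul_eq_zero.1 this.symm).resolve_right one_mat_ne
    subst hc0
    refine ⟨?_, fun b hb0' hb1' hba => ?_, ?_⟩
    · have := E a 1
      simp [ha0, hb1.symm, sub_eq_zero] at this
      exact this.symm
    · have := E b 1
      simpa [hb0', hb1.symm, hba] using this
    · have := E 0 1
      simp [ha0.symm, hb1.symm, sub_eq_zero] at this
      exact this.symm
  refine ⟨B 1 1, B 0 1, fun a => B a 1, cm_blk _ _ _ _, cm_blk _ _ _ _, fun a => cm_blk _ _ _ _, ext_blk l fun x y => ?_⟩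
  have hsum : ∀ D : Ix n → Mat, blk l x y (∑ a ∈ midS n, D a) = ∑ a ∈ midS n, blk l x y (D a) := fun D => by
    simp only [blk, Finset.mul_sum, Finset.sum_mul]
    exact Finset.sum_comm
  rw [blk_add, blk_add, blk_right (cm_blk l 0 1 Z), blk_sx, hsum,
    show blk l x y (B 1 1) = blk l x y ((1 : Mat) * B 1 1) by rw [one_mul], blk_right (cm_blk l 1 1 Z), blk_one,
    Finset.sum_congr rfl fun a _ => show blk l x y (slot l (za a) * B a 1) = za a x y • B a 1 by
      rw [blk_right (cm_blk l a 1 Z), blk_slot, Matrix.smul_mul, one_mul]]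
  show B x y = _
  rw [show blk l 0 1 Z = B 0 1 from rfl, show blk l 1 1 Z = B 1 1 from rfl]
  rw [Finset.sum_congr rfl fun a _ => show za a x y • B a 1 = (if x = a ∧ y = 1 then B a 1 else 0) -
      if x = 0 ∧ y = s1 n a then e1 n F a • B a 1 else 0 by
    simp only [za, Matrix.sub_apply, Matrix.single_apply, sub_smul, ite_smul, one_smul, zero_smul]
    congr 1 <;> exact if_congr ⟨fun e => ⟨e.1.symm, e.2.symm⟩, fun e => ⟨e.1.symm, e.2.symm⟩⟩ rfl rfl,
    Finset.sum_sub_distrib]
  have hA : ∑ a ∈ midS n, (if x = a ∧ y = 1 then B a 1 else 0) =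
      if (x ≠ 0 ∧ x ≠ 1) ∧ y = 1 then B x 1 else 0 := by
    by_cases hy : y = 1
    · simp only [hy, and_true, Finset.sum_ite_eq, mem_midS]
    · simp [hy]
  have hC : ∑ a ∈ midS n, (if x = 0 ∧ y = s1 n a then e1 n F a • B a 1 else 0) =
      if x = 0 ∧ (y ≠ 0 ∧ y ≠ 1) then -(B 0 y) else 0 := by
    by_cases hx : x = 0
    · subst hx
      by_cases hy : y ≠ 0 ∧ y ≠ 1
      · rw [Finset.sum_eq_single (s1 n y) (fun a _ ha => if_neg fun e => ha (by rw [e.2, s1_inv])) fun hn =>
          absurd (mem_midS.2 (s1_mid hy.1 hy.2)) hn, if_pos ⟨rfl, (s1_inv y).symm⟩, if_pos ⟨rfl, hy⟩,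
          (E2 y hy.1 hy.2).2.2, e1_s1, neg_smul]
      · rw [if_neg fun e => hy e.2]
        refine Finset.sum_eq_zero fun a ha => if_neg fun e => hy ?_
        rw [e.2]; exact s1_mid (mem_midS.1 ha).1 (mem_midS.1 ha).2
    · simp [hx]
  rw [hA, hC, ite_mul, one_mul, zero_mul, ite_mul, one_mul, zero_mul]
  by_cases hxy : x = y
  · subst hxy
    by_cases h0 : x = 0
    · subst h0; simp [h00]
    by_cases h1 : x = 1
    · subst h1; simp
    simp [h0, h1, (E2 x h0 h1).1]
  by_cases hx1 : x = 1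
  · subst hx1
    simp [hxy, h1y y (Ne.symm hxy)]
  by_cases hx : x = 0
  · subst hx
    by_cases hy : y = 1
    · subst hy; simp
    · simp [hy, Ne.symm hxy, hxy]
  by_cases hy : y = 1
  · subst hy; simp [hx, hx1]
  by_cases hy0 : y = 0
  · subst hy0; simp [hx, hx1, hx0 x hx]
  · simp [hxy, hx, hy, (E2 y hy0 hy).2.1 x hx hx1 hxy]

end CfsgLib.Perm.Trans.TensorPowerSp
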