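import Cfsg.Agent.Lib.Perm.Trans.TensorPowerSp.Grow
import Cfsg.Agent.Lib.Perm.Trans.SympGen

/-!
# A non-scalar cofactor of a root gives the symplectic group of an odd power
-/

set_option autoImplicit false
set_option linter.all false

namespace CfsgLib.Perm.Trans.TensorPowerSp

open scoped Matrix
open Matrix Cfsg.Geo CfsgLib.Perm.Asch CfsgLib.Perm.Trans CfsgLib.Perm.Trans.TensorPower

variable {F : Type*} [Field F] {n s t : ℕ} {M : Subgroup (GL (Fin t → Ix n) F)}

local notation "Mat" => Matrix (Fin t → Ix n) (Fin t → Ix n) F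

theorem pat_zero_apply (T : Finset (Fin t)) (c : F) :
    (pat T (fun _ => 0) c : Mat) (fun _ => 0) (T.piecewise (fun _ => 1) fun _ => 0) = c := by
  rw [pat, Matrix.smul_apply, pure_apply, Finset.prod_eq_one, smul_eq_mul, mul_one]
  intro l _
  by_cases hl : l ∈ T <;> simp [hl, pt, Finset.piecewise, Matrix.one_apply]

/-- a pattern of roots has an odd number of factors -/
theorem odd_of_roots (h2 : (2 : F) ≠ 0) (hM : M ≤ uT n t F) {T : Finset (Fin t)} (hT : T.Nonempty) {c : F}
    (hc : c ≠ 0) (hm : Mem1 M (pat T (fun _ => 0) c)) : Odd T.card := by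
  classical
  obtain ⟨g, hg, he⟩ := hm
  obtain ⟨l, hl⟩ := hT
  set A : Fin t → Matrix (Ix n) (Ix n) F := T.piecewise (fun _ => pt 0) 1 with hA
  have h10 : (1 : Ix n) ≠ 0 := by simp
  have hsq : (pat T (fun _ => 0) c : Mat) * pat T (fun _ => 0) c = 0 := by
    rw [pat, ← hA, Matrix.smul_mul, Matrix.mul_smul, pure_mul, pure_eq_zero (l := l) (by
      rw [Pi.mul_apply, hA, Finset.piecewise_eq_of_mem _ _ _ hl, pt_sq (by simp)]), smul_zero, smul_zero]
  have h := adj_of_one_add (hM hg) he hsq
  have hadj : adj (eT n t F) (sT n t) (CfsgLib.Perm.Asch.pure A) =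
      ((-1 : F) ^ T.card) • (CfsgLib.Perm.Asch.pure A : Mat) := by
    have e : ∀ k, adj (e1 n F) (s1 n) (A k) = (if k ∈ T then (-1 : F) else 1) • A k := fun k => by
      by_cases hk : k ∈ T
      · simp [hA, hk, pt, adj_single sg1, s1_zero, s1_one, e1_zero, e1_one, Matrix.smul_single, ← Matrix.single_neg]
      · simp [hA, hk, adj_one sg1]
    rw [adj_pure, funext e, pure_smul, Finset.prod_ite_mem, Finset.univ_inter, Finset.prod_const]
  rw [pat, ← hA, adj_smul, hadj, smul_comm, ← neg_one_smul F (c • CfsgLib.Perm.Asch.pure A)] at h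
  rcases Nat.even_or_odd T.card with he' | ho
  · rw [he'.neg_one_pow, one_smul] at h
    have h0 := congrFun (congrFun h fun _ => 0) (T.piecewise (fun _ => 1) fun _ => 0)
    have hp := pat_zero_apply (n := n) T c
    rw [pat, ← hA] at hp
    rw [hp, Matrix.smul_apply, hp, smul_eq_mul, neg_one_mul, eq_neg_iff_add_eq_zero, ← two_mul] at h0
    exact absurd ((mul_eq_zero.1 h0).resolve_left h2) hc
  · exact ho

theorem pat_congr {T : Finset (Fin t)} {κ κ' : Fin t → Ix n} (h : ∀ l ∈ T, κ l = κ' l) (c : F) :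
    (pat T κ c : Mat) = pat T κ' c := by
  rw [pat, pat]
  congr 2
  funext l
  by_cases hl : l ∈ T <;> simp [hl, h]

variable (h2 : (2 : F) ≠ 0) (hB : HasSBase M) (hP : HasSPerms M) (hM : M ≤ uT n t F)
include h2 hB hP hM

/-- a pattern with self-adjoint factors gives a pattern of roots -/
theorem roots_of_pattern {T : Finset (Fin t)} {κ : Fin t → Ix n} {c : F} (hT : 2 ≤ T.card)
    (hT' : T ≠ Finset.univ ∨ Odd t) (hc : c ≠ 0)
    (hκ : ∀ l, κ l ≠ 1) (hm : Mem1 M (pat T κ c)) :
    ∃ (T' : Finset (Fin t)) (c' : F), c' ≠ 0 ∧ 3 ≤ T'.card ∧ Odd T'.card ∧ Mem1 M (pat T' (fun _ => 0) c') := by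
  classical
  by_cases hall : ∀ l ∈ T, κ l = 0
  · rw [pat_congr (κ' := fun _ => 0) hall] at hm
    have hodd := odd_of_roots h2 hM (Finset.card_pos.1 (by omega)) hc hm
    obtain ⟨k, hk⟩ := hodd
    exact ⟨T, c, hc, by omega, ⟨k, hk⟩, hm⟩
  push Not at hall
  obtain ⟨l0, hl0, hk0⟩ := hall
  have same : ∀ {T : Finset (Fin t)} {κ : Fin t → Ix n} {c : F}, c ≠ 0 → (∀ l, κ l ≠ 1) → Odd T.card → l0 ∈ T →
      κ l0 ≠ 0 → Mem1 M (pat T κ c) → ∃ c' : F, c' ≠ 0 ∧ Mem1 M (pat T (fun _ => 0) c') := by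
    intro T κ c hc hκ hodd hl hk hm
    obtain ⟨c', hc', h'⟩ := step_pattern h2 hB hP hc hκ hm 1 (fun _ _ _ => rfl) (by simpa using hodd)
      ⟨l0, hl, Or.inr hk⟩
    refine ⟨c', hc', ?_⟩
    rw [show T ∪ T.map (1 : Equiv.Perm (Fin t)).toEmbedding = T by
      ext x; simp only [Finset.mem_union, Finset.mem_map_equiv]; exact ⟨fun h => h.elim id id, Or.inl⟩] at h'
    rwa [pat_congr (κ' := fun _ => 0) fun l hl => by simp [hl]] at h'
  rcases Nat.even_or_odd T.card with hev | hodd
  · obtain ⟨b, hb⟩ : ∃ b, b ∉ T := by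
      by_contra hcon
      push Not at hcon
      have : T = Finset.univ := Finset.eq_univ_of_forall hcon
      rw [this, Finset.card_univ, Fintype.card_fin] at hev
      exact (Nat.not_even_iff_odd.2 (hT'.resolve_left (not_not.2 this))) hev
    set π := Equiv.swap l0 b with hπ
    have hfix : T.filter (fun l => π l = l) = T.erase l0 := by
      ext x
      simp only [Finset.mem_filter, Finset.mem_erase, hπ]
      constructor
      · rintro ⟨hx, e⟩
        refine ⟨fun h => ?_, hx⟩
        subst h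
        rw [Equiv.swap_apply_left] at e
        exact hb (e ▸ hx)
      · rintro ⟨hx0, hx⟩
        exact ⟨hx, Equiv.swap_apply_of_ne_of_ne hx0 fun h => hb (h ▸ hx)⟩
    have hπl : π l0 = b := Equiv.swap_apply_left _ _
    obtain ⟨c', hc', h'⟩ := step_pattern h2 hB hP hc hκ hm π (fun l hl hl' => by
        rcases eq_or_ne l l0 with rfl | hne
        · exact absurd (hπl ▸ hl') hb
        · exact Equiv.swap_apply_of_ne_of_ne hne fun h => hb (h ▸ hl))
      (by rw [hfix, Finset.card_erase_of_mem hl0]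
          obtain ⟨k, hk⟩ := hev
          exact ⟨k - 1, by omega⟩)
      ⟨l0, hl0, Or.inl (by rw [hπl]; exact fun h => hb (h ▸ hl0))⟩
    have hU : T ∪ T.map π.toEmbedding = insert b T := by
      ext x
      rw [Finset.mem_union, Finset.mem_map_equiv, Finset.mem_insert, hπ, Equiv.symm_swap]
      constructor
      · rintro (hx | hx)
        · exact Or.inr hx
        · by_cases hxb : x = b
          · exact Or.inl hxb
          refine Or.inr ?_
          by_cases hxl : x = l0
          · exact hxl ▸ hl0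
          rwa [Equiv.swap_apply_of_ne_of_ne hxl hxb] at hx
      · rintro (rfl | hx)
        · exact Or.inr (by rwa [Equiv.swap_apply_right])
        · exact Or.inl hx
    rw [hU] at h'
    obtain ⟨c'', hc'', h''⟩ := same hc' (fun l => by split_ifs <;> [simp; exact hκ _; exact hκ _]) (by
        rw [Finset.card_insert_of_notMem hb]; exact hev.add_one)
      (Finset.mem_insert_of_mem hl0) (by
        rw [if_pos hl0, if_neg (by rw [hπl]; exact fun h => hb (h ▸ hl0))]; exact hk0) h'
    exact ⟨_, c'', hc'', by rw [Finset.card_insert_of_notMem hb]; omega,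
      by rw [Finset.card_insert_of_notMem hb]; exact hev.add_one, h''⟩
  · obtain ⟨c', hc', h'⟩ := same hc hκ hodd hl0 hk0 hm
    obtain ⟨k, hk⟩ := hodd
    exact ⟨T, c', hc', by omega, ⟨k, hk⟩, h'⟩

/-- the roots spread to all factors but at most one -/
theorem grow_roots {T : Finset (Fin t)} {c : F} (hT : 3 ≤ T.card) (hodd : Odd T.card) (hc : c ≠ 0)
    (hm : Mem1 M (pat T (fun _ => 0) c)) :
    ∃ (T' : Finset (Fin t)) (c' : F), c' ≠ 0 ∧ t ≤ T'.card + 1 ∧ Odd T'.card ∧ Mem1 M (pat T' (fun _ => 0) c') := by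
  classical
  by_cases hfull : t ≤ T.card + 1
  · exact ⟨T, c, hc, hfull, hodd, hm⟩
  · have h2' : 1 < (Finset.univ \ T).card := by
      rw [Finset.card_sdiff_of_subset (Finset.subset_univ T), Finset.card_univ, Fintype.card_fin]
      omega
    obtain ⟨b, hb, b', hb', hbb⟩ := Finset.one_lt_card.1 h2'
    simp only [Finset.mem_sdiff, Finset.mem_univ, true_and] at hb hb'
    obtain ⟨x, hx, x', hx', hxx⟩ := Finset.one_lt_card.1 (show 1 < T.card by omega)
    have nb : ∀ {y z}, y ∈ T → z ∉ T → y ≠ z := fun hy hz h => hz (h ▸ hy)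
    set π := Equiv.swap x b * Equiv.swap x' b' with hπ
    have hπx : π x = b := by
      rw [hπ, Equiv.Perm.mul_apply, Equiv.swap_apply_of_ne_of_ne hxx (nb hx hb'), Equiv.swap_apply_left]
    have hπx' : π x' = b' := by
      rw [hπ, Equiv.Perm.mul_apply, Equiv.swap_apply_left, Equiv.swap_apply_of_ne_of_ne (nb hx hb').symm hbb.symm]
    have hπo : ∀ l, l ∈ T → l ≠ x → l ≠ x' → π l = l := fun l hl h1 h2 => by
      rw [hπ, Equiv.Perm.mul_apply, Equiv.swap_apply_of_ne_of_ne h2 (nb hl hb'),
        Equiv.swap_apply_of_ne_of_ne h1 (nb hl hb)]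
    have hπb : π.symm b = x ∧ π.symm b' = x' :=
      ⟨π.symm_apply_eq.2 hπx.symm, π.symm_apply_eq.2 hπx'.symm⟩
    have hfix : T.filter (fun l => π l = l) = (T.erase x).erase x' := by
      ext l
      simp only [Finset.mem_filter, Finset.mem_erase]
      constructor
      · rintro ⟨hl, e⟩
        refine ⟨fun h => ?_, fun h => ?_, hl⟩
        · subst h; rw [hπx'] at e; exact hb' (e ▸ hl)
        · subst h; rw [hπx] at e; exact hb (e ▸ hl)
      · rintro ⟨h1, h2, hl⟩
        exact ⟨hl, hπo l hl h2 h1⟩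
    obtain ⟨c', hc', h'⟩ := step_pattern h2 hB hP hc (fun _ => by simp) hm π (fun l hl hl' => by
        by_cases h1 : l = x
        · subst h1; exact absurd (hπx ▸ hl') hb
        by_cases h3 : l = x'
        · subst h3; exact absurd (hπx' ▸ hl') hb'
        exact hπo l hl h1 h3)
      (by rw [hfix, Finset.card_erase_of_mem (Finset.mem_erase.2 ⟨hxx.symm, hx'⟩), Finset.card_erase_of_mem hx]
          obtain ⟨k, hk⟩ := hodd
          exact ⟨k - 1, by omega⟩)
      ⟨x, hx, Or.inl (by rw [hπx]; exact (nb hx hb).symm)⟩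
    have hsub : insert b (insert b' T) ⊆ T ∪ T.map π.toEmbedding := by
      intro l hl
      rw [Finset.mem_union, Finset.mem_map_equiv]
      rcases Finset.mem_insert.1 hl with rfl | hl
      · exact Or.inr (hπb.1 ▸ hx)
      rcases Finset.mem_insert.1 hl with rfl | hl
      · exact Or.inr (hπb.2 ▸ hx')
      exact Or.inl hl
    have heq : T ∪ T.map π.toEmbedding = insert b (insert b' T) := by
      refine le_antisymm ?_ hsub
      intro l hl
      rw [Finset.mem_union, Finset.mem_map_equiv] at hl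
      simp only [Finset.mem_insert]
      rcases hl with hl | hl
      · exact Or.inr (Or.inr hl)
      · set y := π.symm l with hy
        have hly : l = π y := by rw [hy, Equiv.apply_symm_apply]
        by_cases h1 : y = x
        · exact Or.inl (by rw [hly, h1, hπx])
        by_cases h3 : y = x'
        · exact Or.inr (Or.inl (by rw [hly, h3, hπx']))
        exact Or.inr (Or.inr (by rw [hly, hπo y hl h1 h3]; exact hl))
    rw [pat_congr (κ' := fun _ => 0) (fun l _ => by split_ifs <;> rfl), heq] at h'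
    have hcard : (insert b (insert b' T)).card = T.card + 2 := by
      rw [Finset.card_insert_of_notMem (by simp [hbb, hb]), Finset.card_insert_of_notMem hb']
    exact grow_roots (T := insert b (insert b' T)) (by omega) (by rw [hcard]; exact hodd.add_even even_two) hc' h'
termination_by t - T.card
decreasing_by
  have h1 := (insert b (insert b' T)).card_le_univ
  rw [Fintype.card_fin] at h1
  omega

/-- the roots spread to all factors -/
theorem full_pattern (ht : Odd t) {T : Finset (Fin t)} {c : F} (hT : 3 ≤ T.card) (hodd : Odd T.card) (hc : c ≠ 0)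
    (hm : Mem1 M (pat T (fun _ => 0) c)) :
    ∃ c' : F, c' ≠ 0 ∧ Mem1 M (Matrix.single (fun _ : Fin t => (0 : Ix n)) (fun _ => 1) c') := by
  classical
  obtain ⟨T', c', hc', hT', hodd', h'⟩ := grow_roots h2 hB hP hM hT hodd hc hm
  obtain rfl : T' = Finset.univ := by
    refine Finset.eq_univ_of_card _ ?_
    have := T'.card_le_univ
    rw [Fintype.card_fin] at this ⊢
    obtain ⟨k, hk⟩ := hodd'
    obtain ⟨k', hk'⟩ := ht
    omega
  refine ⟨c', hc', ?_⟩
  convert h' using 1
  rw [pat, Finset.piecewise_univ, show (fun l : Fin t => pt (0 : Ix n)) = fun _ => Matrix.single (0 : Ix n) 1 (1 : F)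
    from funext fun _ => if_pos rfl, pure_single, Matrix.smul_single, smul_eq_mul, mul_one]

omit h2 hB hP hM

/-! ### pure vectors avoiding three hyperplanes -/

theorem three_cover {V : Type*} [AddCommGroup V] [Module F V] (h2 : (2 : F) ≠ 0) {W₁ W₂ W₃ : Submodule F V}
    (h₁ : W₁ ≠ ⊤) (h₂ : W₂ ≠ ⊤) (h₃ : W₃ ≠ ⊤) : ∃ x, x ∉ W₁ ∧ x ∉ W₂ ∧ x ∉ W₃ := by
  have two : ∀ {U U' : Submodule F V}, U ≠ ⊤ → U' ≠ ⊤ → ∃ x, x ∉ U ∧ x ∉ U' := by
    intro U U' hU hU'
    obtain ⟨x, hx⟩ := SetLike.exists_not_mem_of_ne_top U hU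
    by_cases hx' : x ∈ U'
    swap
    · exact ⟨x, hx, hx'⟩
    obtain ⟨y, hy⟩ := SetLike.exists_not_mem_of_ne_top U' hU'
    by_cases hy' : y ∈ U
    swap
    · exact ⟨y, hy', hy⟩
    exact ⟨x + y, fun h => hx (by simpa using U.sub_mem h hy'), fun h => hy (by simpa using U'.sub_mem h hx')⟩
  obtain ⟨x, hx1, hx2⟩ := two h₁ h₂
  by_cases hx3 : x ∈ W₃
  swap
  · exact ⟨x, hx1, hx2, hx3⟩
  obtain ⟨y, hy⟩ := SetLike.exists_not_mem_of_ne_top W₃ h₃
  have once : ∀ {U : Submodule F V}, x ∉ U → ∀ a b : F, a • x + y ∈ U → b • x + y ∈ U → a = b := by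
    intro U hU a b ha hb
    by_contra hab
    refine hU ?_
    have := U.smul_mem (a - b)⁻¹ (U.sub_mem ha hb)
    rwa [add_sub_add_right_eq_sub, ← sub_smul, smul_smul, inv_mul_cancel₀ (sub_ne_zero.2 hab), one_smul] at this
  have hW3 : ∀ a : F, a • x + y ∉ W₃ := fun a h => hy (by simpa using W₃.sub_mem h (W₃.smul_mem a hx3))
  by_contra hcon
  push Not at hcon
  have hor : ∀ a : F, a • x + y ∈ W₁ ∨ a • x + y ∈ W₂ := fun a => by
    by_contra h
    push Not at h
    exact hW3 a (hcon _ h.1 h.2)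
  have h10 : (1 : F) ≠ 0 := one_ne_zero
  have h11 : (1 : F) ≠ -1 := fun e => h2 (by linear_combination e)
  have h01 : (0 : F) ≠ -1 := fun e => h10 (by linear_combination e)
  rcases hor 0 with a | a <;> rcases hor 1 with b | b <;> rcases hor (-1) with d | d
  all_goals first
    | exact h10 (once hx1 1 0 b a) | exact h11 (once hx1 1 (-1) b d) | exact h01 (once hx1 0 (-1) a d)
    | exact h10 (once hx2 1 0 b a) | exact h11 (once hx2 1 (-1) b d) | exact h01 (once hx2 0 (-1) a d)

/-- adding a factor in front of a vector -/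
def consT (n t : ℕ) (F : Type*) [Field F] :
    (Ix n → F) →ₗ[F] ((Fin t → Ix n) → F) →ₗ[F] ((Fin (t + 1) → Ix n) → F) :=
  LinearMap.mk₂ F (fun v y x => v (x 0) * y (Fin.tail x)) (fun a b y => funext fun x => add_mul _ _ _)
    (fun c a y => funext fun x => mul_assoc _ _ _) (fun a y z => funext fun x => mul_add _ _ _)
    (fun c a y => funext fun x => mul_left_comm _ _ _)

theorem consT_single (x : Fin (t + 1) → Ix n) :
    consT n t F (Pi.single (x 0) 1) (Pi.single (Fin.tail x) 1) = Pi.single x 1 := by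
  funext y
  show (Pi.single (x 0) (1 : F) : Ix n → F) (y 0) * (Pi.single (Fin.tail x) (1 : F) : (Fin t → Ix n) → F) (Fin.tail y) = _
  by_cases h : y = x
  · subst h; simp
  rw [Pi.single_eq_of_ne h]
  by_cases h0 : y 0 = x 0
  · have : Fin.tail y ≠ Fin.tail x := fun e => h (by rw [← Fin.cons_self_tail y, ← Fin.cons_self_tail x, h0, e])
    simp [Pi.single_eq_of_ne this]
  · simp [Pi.single_eq_of_ne h0]

theorem consT_pv (v : Ix n → F) (w : Fin t → Ix n → F) : consT n t F v (pv w) = pv (Fin.cons v w) := by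
  funext x
  show v (x 0) * pv w (Fin.tail x) = _
  rw [pv, pv, Fin.prod_univ_succ]
  rfl

theorem exists_pure_avoid (h2 : (2 : F) ≠ 0) : ∀ (t : ℕ) (L₁ L₂ L₃ : ((Fin t → Ix n) → F) →ₗ[F] F),
    L₁ ≠ 0 → L₂ ≠ 0 → L₃ ≠ 0 → ∃ v : Fin t → Ix n → F, L₁ (pv v) ≠ 0 ∧ L₂ (pv v) ≠ 0 ∧ L₃ (pv v) ≠ 0 := by
  classical
  have hne : ∀ {t : ℕ} {L : ((Fin t → Ix n) → F) →ₗ[F] F}, L ≠ 0 → ∃ x, L (Pi.single x 1) ≠ 0 := by
    intro t L hL
    by_contra hcon
    push Not at hcon
    refine hL (LinearMap.ext fun z => ?_)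
    rw [pi_eq_sum_univ' z, map_sum, LinearMap.zero_apply]
    exact Finset.sum_eq_zero fun x _ => by rw [map_smul, hcon x, smul_zero]
  intro t
  induction t with
  | zero =>
    intro L₁ L₂ L₃ h₁ h₂ h₃
    refine ⟨Fin.elim0, ?_⟩
    have e : ∀ x : Fin 0 → Ix n, (pv Fin.elim0 : (Fin 0 → Ix n) → F) = Pi.single x 1 := fun x => by
      funext y
      rw [pv, Subsingleton.elim y x, Pi.single_eq_same]
      exact Finset.prod_of_isEmpty _
    obtain ⟨x, hx⟩ := hne h₁
    obtain ⟨y, hy⟩ := hne h₂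
    obtain ⟨z, hz⟩ := hne h₃
    exact ⟨by rwa [e x], by rwa [e y], by rwa [e z]⟩
  | succ t ih =>
    intro L₁ L₂ L₃ h₁ h₂ h₃
    have hker : ∀ {L : ((Fin (t + 1) → Ix n) → F) →ₗ[F] F}, L ≠ 0 →
        LinearMap.ker ((LinearMap.llcomp F _ _ _ L) ∘ₗ consT n t F) ≠ ⊤ := by
      intro L hL e
      obtain ⟨x, hx⟩ := hne hL
      have h0 : ((LinearMap.llcomp F _ _ _ L) ∘ₗ consT n t F) (Pi.single (x 0) 1) = 0 := by
        rw [← LinearMap.mem_ker, e]; trivial
      have := LinearMap.congr_fun h0 (Pi.single (Fin.tail x) 1)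
      simp only [LinearMap.comp_apply, LinearMap.llcomp_apply, consT_single, LinearMap.zero_apply] at this
      exact hx this
    obtain ⟨v, hv1, hv2, hv3⟩ := three_cover h2 (hker h₁) (hker h₂) (hker h₃)
    obtain ⟨w, hw1, hw2, hw3⟩ := ih _ _ _ hv1 hv2 hv3
    simp only [LinearMap.comp_apply, LinearMap.llcomp_apply, consT_pv] at hw1 hw2 hw3
    exact ⟨Fin.cons v w, hw1, hw2, hw3⟩

theorem pi_single_pv (X : Fin t → Ix n) :
    (Pi.single X (1 : F) : (Fin t → Ix n) → F) = pv fun l => Pi.single (X l) (1 : F) := by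
  funext x
  simp only [pv, Pi.single_apply, Finset.prod_ite_zero, Finset.prod_const_one, Finset.mem_univ, forall_const]
  exact if_congr funext_iff rfl rfl

/-- a transvection with a pure centre gives the symplectic group -/
theorem le_of_transvection [Fintype F] (h2 : (2 : F) ≠ 0) (hB : HasSBase M) (hM : M ≤ uT n t F) (ht : Odd t) {c : F}
    (hc : c ≠ 0) (hm : Mem1 M (Matrix.single (fun _ : Fin t => (0 : Ix n)) (fun _ => 1) c)) : uT n t F ≤ M := by
  classical
  have hS : Sg (eT n t F) (sT n t) (-1) := by simpa [ht.neg_one_pow] using sgT (F := F) (n := n) (t := t)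
  have hf := sform_symp hS h2
  have hiso : Symp.isoSub (sform (eT n t F) (sT n t)) = uT n t F := isoSub_sform sgT
  set e0 : (Fin t → Ix n) → F := Pi.single (fun _ => 0) 1 with he0
  have hvmv : vecMulVec e0 (dual (eT n t F) (sT n t) e0) =
      -Matrix.single (fun _ : Fin t => (0 : Ix n)) (fun _ : Fin t => (1 : Ix n)) (1 : F) := by
    rw [he0, dual_single hS, vmv_single2, show sT n t (fun _ => (0 : Ix n)) = fun _ => 1 from funext fun _ => s1_zero,
      show eT n t F (fun _ => (1 : Ix n)) = -1 by simp [eT, e1_one, ht.neg_one_pow], one_mul, mul_one,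
      Matrix.single_neg]
  have h0 : Symp.stv hf e0 (-c) ∈ M := by
    obtain ⟨g, hg, he⟩ := hm
    convert hg using 1
    exact Units.ext (by rw [stv_coe hS h2, he, hvmv, smul_neg, neg_smul, neg_neg, Matrix.smul_single, smul_eq_mul, mul_one])
  let U : Set ((Fin t → Ix n) → F) := {u | ∀ d, Symp.stv hf u d ∈ M}
  have hconj : ∀ {g : GL (Fin t → Ix n) F}, g ∈ M → ∀ {u : (Fin t → Ix n) → F} {d : F}, Symp.stv hf u d ∈ M →
      Symp.stv hf ((g : Mat) *ᵥ u) d ∈ M := fun {g} hg {u d} hu => by
    rw [← Symp.stv_conj hf (hiso.symm ▸ hM hg)]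
    exact M.mul_mem (M.mul_mem hg hu) (M.inv_mem hg)
  obtain ⟨k, hk⟩ := ht
  let i : Fin t := ⟨0, by omega⟩
  have he0U : e0 ∈ U := by
    have hsq : ∀ x : F, Symp.stv hf e0 (x * x * -c) ∈ M := fun x => by
      rcases eq_or_ne x 0 with rfl | hx
      · rw [mul_zero, zero_mul, Symp.stv_zero]; exact M.one_mem
      have e : ((sl i (tor n (Units.mk0 x hx)) : GL (Fin t → Ix n) F) : Mat) *ᵥ e0 = x • e0 := by
        funext y
        rw [sl_coe, he0, mulVec_single_one, Matrix.col_apply, slot_apply, Pi.smul_apply, Pi.single_apply, smul_eq_mul]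
        by_cases hy : y = fun _ => 0
        · subst hy
          simp [tor, mono_coe, td]
        rw [if_neg hy, mul_zero]
        split_ifs with h
        · rw [tor, mono_coe, Matrix.of_apply, if_neg]
          exact fun e => hy (funext fun l => by
            rcases eq_or_ne l i with rfl | hl
            · exact e
            · exact h l hl)
        · rfl
      have := hconj (hB.sl_mem i (tor_mem (n := n) (Units.mk0 x hx))) h0
      rwa [e, Symp.stv_smul] at this
    intro d
    obtain ⟨a, b, hab⟩ := exists_two_squares (-d / c)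
    have := M.mul_mem (hsq a) (hsq b)
    rw [Symp.stv_mul, ← add_mul, hab] at this
    convert this using 2
    field_simp
  have hpv : ∀ v : Fin t → Ix n → F, pv v ∈ U := by
    intro v d
    by_cases hz : ∃ l, v l = 0
    · obtain ⟨l, hl⟩ := hz
      rw [show pv v = 0 from funext fun x => Finset.prod_eq_zero (Finset.mem_univ l) (by rw [hl]; rfl),
        Symp.stv_zero_left]
      exact M.one_mem
    push Not at hz
    choose A hA hAv using fun l => exists_move (hz l)
    have hP := hB.pure_mem (fun l => (A l)⁻¹) fun l => inv_mem (hA l)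
    have e : ((pureGL (fun l => (A l)⁻¹) : GL (Fin t → Ix n) F) : Mat) *ᵥ e0 = pv v := by
      rw [he0, pi_single_pv, pureGL_coe, pure_pv]
      congr 1
      funext l
      rw [← hAv l, gl_inv_mulVec]
    rw [← e]
    exact hconj hP (he0U d)
  have hsmul : ∀ {u}, u ∈ U → ∀ a : F, a • u ∈ U := fun {u} hu a d => by rw [Symp.stv_smul]; exact hu _
  have hplane : ∀ {u v}, u ∈ U → v ∈ U → sform (eT n t F) (sT n t) u v ≠ 0 → u + v ∈ U := fun {u v} hu hv hne d => by
    have := hconj (hv (sform (eT n t F) (sT n t) u v)⁻¹) (hu d)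
    rwa [Symp.stv_mulVec, inv_mul_cancel₀ hne, one_smul] at this
  have hadd : ∀ {u}, u ∈ U → ∀ v : Fin t → Ix n → F, u + pv v ∈ U := by
    intro u hu v
    by_cases hu0 : u = 0
    · rw [hu0, zero_add]; exact hpv v
    by_cases hv0 : pv v = 0
    · rw [hv0, add_zero]; exact hu
    by_cases hs0 : u + pv v = 0
    · rw [hs0]; intro d; rw [Symp.stv_zero_left]; exact M.one_mem
    by_cases hne : sform (eT n t F) (sT n t) u (pv v) ≠ 0
    · exact hplane hu (hpv v) hne
    push Not at hne
    have hL : ∀ {x : (Fin t → Ix n) → F}, x ≠ 0 → Symp.sfun hf x ≠ 0 := fun {x} hx e => by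
      obtain ⟨y, hy⟩ := (hf.nondegenerate x hx).1
      exact hy (by simpa [Symp.sfun] using LinearMap.congr_fun e y)
    obtain ⟨w, hw1, hw2, hw3⟩ := exists_pure_avoid h2 t _ _ _ (hL hu0) (hL hv0) (hL hs0)
    simp only [Symp.sfun, LinearMap.coe_mk, AddHom.coe_mk] at hw1 hw2 hw3
    have hx : u + pv w ∈ U := hplane hu (hpv w) (Symp.swap_ne hf hw1)
    have hy : pv v + (-1 : F) • pv w ∈ U := hplane (hpv v) (hsmul (hpv w) _) (by
      rw [hf.bilinear.smul_right]
      exact mul_ne_zero (by simp) (Symp.swap_ne hf hw2))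
    have hxy := hplane hx hy (by
      rw [hf.bilinear.add_left, hf.bilinear.add_right, hf.bilinear.add_right, hf.bilinear.smul_right,
        hf.bilinear.smul_right, hne, hf.alternating, mul_zero, add_zero, zero_add]
      intro e
      apply hw3
      rw [hf.bilinear.add_right, hf.skew (pv w) u]
      linear_combination e)
    rwa [show u + pv w + (pv v + (-1 : F) • pv w) = u + pv v by rw [neg_one_smul]; abel] at hxy
  have hall : ∀ u, u ∈ U := by
    intro u
    have hspan : ∀ S : Finset (Fin t → Ix n), ∑ x ∈ S, u x • (Pi.single x (1 : F) : (Fin t → Ix n) → F) ∈ U := by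
      intro S
      induction S using Finset.induction_on with
      | empty => intro d; rw [Finset.sum_empty, Symp.stv_zero_left]; exact M.one_mem
      | @insert x S hx ih =>
        rw [Finset.sum_insert hx, add_comm]
        have hx' : u x • (Pi.single x (1 : F) : (Fin t → Ix n) → F) =
            pv (Function.update (fun l => Pi.single (x l) (1 : F)) i (u x • Pi.single (x i) 1)) := by
          rw [pi_single_pv]
          funext y
          rw [Pi.smul_apply, pv, pv, smul_eq_mul, ← Finset.mul_prod_erase Finset.univ _ (Finset.mem_univ i),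
            ← Finset.mul_prod_erase Finset.univ _ (Finset.mem_univ i), Function.update_self, Pi.smul_apply,
            smul_eq_mul, mul_assoc]
          congr 2
          exact Finset.prod_congr rfl fun k hk => by rw [Function.update_of_ne (Finset.ne_of_mem_erase hk)]
        rw [hx']
        exact hadd ih _
    rw [pi_eq_sum_univ' u]
    exact hspan Finset.univ
  rw [← hiso]
  exact (Symp.eq_isoSub hf (hiso.symm ▸ hM) fun u d => hall u d).ge

/-- a non-scalar cofactor gives the symplectic group -/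
theorem le_of_nonscalar [Fintype F] (h2 : (2 : F) ≠ 0) {M : Subgroup (GL (Fin (s + 1) → Ix n) F)} (hB : HasSBase M)
    (hP : HasSPerms M) (hM : M ≤ uT n (s + 1) F) (ht : Odd (s + 1)) {j : Fin (s + 1)}
    {Z : Matrix (Fin s → Ix n) (Fin s → Ix n) F} (hZ : Z ∈ smallS M j) (hne : ∀ c : F, Z ≠ c • 1) :
    uT n (s + 1) F ≤ M := by
  obtain ⟨T, κ, c, hT, hc, hκ, hm⟩ := pattern_of_nonscalar (Or.inl h2) hB hZ hne
  obtain ⟨T', c', hc', hT', hodd, hm'⟩ := roots_of_pattern h2 hB hP hM hT (Or.inr ht) hc hκ hm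
  obtain ⟨c'', hc'', hm''⟩ := full_pattern h2 hB hP hM ht hT' hodd hc' hm'
  exact le_of_transvection h2 hB hM ht hc'' hm''

end CfsgLib.Perm.Trans.TensorPowerSp
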