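import Cfsg.Agent.Lib.Perm.Trans.TensorPowerSp.Key

/-!
# Commutators of two patterns
-/

set_option autoImplicit false
set_option linter.all false

namespace CfsgLib.Perm.Trans.TensorPowerSp

open scoped Matrix
open Matrix Cfsg.Geo CfsgLib.Perm.Asch CfsgLib.Perm.Trans CfsgLib.Perm.Trans.TensorPower

variable {F : Type*} [Field F] {n s t : ℕ} {M : Subgroup (GL (Fin t → Ix n) F)}

local notation "Mat" => Matrix (Fin t → Ix n) (Fin t → Ix n) F

theorem pure_eq_zero {A : Fin t → Matrix (Ix n) (Ix n) F} {l : Fin t} (h : A l = 0) :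
    (CfsgLib.Perm.Asch.pure A : Mat) = 0 := by
  ext x y
  rw [pure_apply, Matrix.zero_apply]
  exact Finset.prod_eq_zero (Finset.mem_univ l) (by rw [h, Matrix.zero_apply])

theorem pure_at (A : Fin t → Matrix (Ix n) (Ix n) F) (d : Fin t) :
    (CfsgLib.Perm.Asch.pure A : Mat) = slot d (A d) * CfsgLib.Perm.Asch.pure (Function.update A d 1) ∧
      Cm d (CfsgLib.Perm.Asch.pure (Function.update A d 1) : Mat) := by
  constructor
  · rw [slot_mul_pure, Function.update_self, mul_one, Function.update_idem, Function.update_eq_self]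
  · intro u v
    rw [sx, slot_mul_pure, pure_mul_slot, Function.update_self, mul_one, one_mul]

/-- the elements of `M` with a fixed square-zero factor -/
def facG (M : Subgroup (GL (Fin t → Ix n) F)) (d : Fin t) (R : Matrix (Ix n) (Ix n) F) (hR : R * R = 0) :
    AddSubgroup Mat where
  carrier := {X | Mem1 M X ∧ Split d R X}
  zero_mem' := ⟨Mem1.zero, 0, fun u v => by simp, by simp⟩
  add_mem' := by
    rintro X Y ⟨hX, C, hC, rfl⟩ ⟨hY, C', hC', rfl⟩
    have key : ∀ {A B : Mat}, Cm d A → (slot d R : Mat) * A * (slot d R * B) = 0 := fun {A B} hA => by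
      rw [mul_assoc, ← mul_assoc A, ← comm_slot_of_units hA R, ← mul_assoc, ← mul_assoc, slot_mul, hR, slot_zero,
        zero_mul, zero_mul]
    refine ⟨?_, C + C', fun u v => by rw [mul_add, add_mul, hC, hC'], by rw [mul_add]⟩
    have hn := hY.neg (key hC')
    simpa using hX.sub hn (by rw [mul_neg, key hC, neg_zero]) (by rw [neg_mul_neg, key hC'])
  neg_mem' := by
    rintro X ⟨hX, C, hC, rfl⟩
    refine ⟨hX.neg ?_, -C, fun u v => by rw [mul_neg, neg_mul, hC], (mul_neg _ _).symm⟩
    rw [mul_assoc, ← mul_assoc C, ← comm_slot_of_units hC R, ← mul_assoc, ← mul_assoc, slot_mul, hR, slot_zero,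
      zero_mul, zero_mul]

theorem cj_mem_facG {d l : Fin t} (hld : l ≠ d) {R : Matrix (Ix n) (Ix n) F} {hR : R * R = 0} {a : GL (Ix n) F}
    (ha : sl l a ∈ M) {X : Mat} (hX : X ∈ facG M d R hR) : cj (sl l a) X ∈ facG M d R hR := by
  obtain ⟨h1, C, hC, rfl⟩ := hX
  exact ⟨h1.conj ha, cj (sl l a) C, cm_cj (fun u v => cj_sl_slot_ne hld a _) hC, by
    rw [cj_mul, cj_sl_slot_ne hld]⟩

theorem dd_pureL (l : Fin t) (gs : List (GL (Ix n) F)) (A : Fin t → Matrix (Ix n) (Ix n) F) (c : F) :
    dd (gs.map (sl l)) (c • CfsgLib.Perm.Asch.pure A : Mat) =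
      c • CfsgLib.Perm.Asch.pure (Function.update A l (dd gs (A l))) := by
  rw [map_smul, dd_pure]

/-- the commutator of two pure elements, transformed factor by factor -/
theorem comm_pure (hB : HasSBase M) {c : F} {P Q R : Fin t → Matrix (Ix n) (Ix n) F} (d : Fin t)
    (gs : Fin t → List (GL (Ix n) F)) (e ζ : Fin t → F)
    (hX : Mem1 M (c • CfsgLib.Perm.Asch.pure P)) (hY : Mem1 M (c • CfsgLib.Perm.Asch.pure Q))
    (hPP : ∃ l, P l * P l = 0) (hQQ : ∃ l, Q l * Q l = 0) (hPQP : ∃ l, P l * Q l * P l = 0)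
    (hQPQ : ∃ l, Q l * P l * Q l = 0) (hgs : ∀ l, ∀ g ∈ gs l, g ∈ u1 n F) (hd : gs d = []) (hR : R d * R d = 0)
    (h1 : ∀ l, dd (gs l) (P l * Q l) = e l • R l) (h2 : ∀ l, dd (gs l) (Q l * P l) = (ζ l * e l) • R l) :
    Mem1 M (((c * c * ((1 - ∏ l, ζ l) * ∏ l, e l)) • CfsgLib.Perm.Asch.pure R : Mat)) := by
  classical
  have hz : ∀ {A : Fin t → Matrix (Ix n) (Ix n) F}, (∃ l, A l = 0) → (CfsgLib.Perm.Asch.pure A : Mat) = 0 :=
    fun {A} ⟨l, hl⟩ => pure_eq_zero hl
  have hm := comm_two_sided hX hY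
    (by rw [Matrix.smul_mul, Matrix.mul_smul, pure_mul, hz (by simpa using hPP), smul_zero, smul_zero])
    (by rw [Matrix.smul_mul, Matrix.mul_smul, pure_mul, hz (by simpa using hQQ), smul_zero, smul_zero])
    (by simp only [Matrix.smul_mul, Matrix.mul_smul, pure_mul]; rw [hz (by simpa using hPQP), smul_zero, smul_zero, smul_zero])
    (by simp only [Matrix.smul_mul, Matrix.mul_smul, pure_mul]; rw [hz (by simpa using hQPQ), smul_zero, smul_zero, smul_zero])
  have hd1 := h1 d
  have hd2 := h2 d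
  rw [hd, dd_nil] at hd1 hd2
  let A : Finset (Fin t) → Fin t → Matrix (Ix n) (Ix n) F := fun L l =>
    if l ∈ L then dd (gs l) (P l * Q l) else P l * Q l
  let B : Finset (Fin t) → Fin t → Matrix (Ix n) (Ix n) F := fun L l =>
    if l ∈ L then dd (gs l) (Q l * P l) else Q l * P l
  let Φ : Finset (Fin t) → Mat := fun L =>
    (c * c) • CfsgLib.Perm.Asch.pure (A L) - (c * c) • CfsgLib.Perm.Asch.pure (B L)
  have hall : ∀ L, Φ L ∈ facG M d (R d) hR := by
    intro L
    induction L using Finset.induction_on with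
    | empty =>
      refine ⟨?_, ?_⟩
      · convert hm using 1
        rw [Matrix.smul_mul, Matrix.mul_smul, Matrix.smul_mul, Matrix.mul_smul, pure_mul, pure_mul, smul_smul, smul_smul]
        simp only [Φ, A, B, Finset.notMem_empty, if_false]
        rfl
      · obtain ⟨eA, cA⟩ := pure_at (A ∅) d
        obtain ⟨eB, cB⟩ := pure_at (B ∅) d
        refine ⟨(c * c * e d) • CfsgLib.Perm.Asch.pure (Function.update (A ∅) d 1) -
          (c * c * (ζ d * e d)) • CfsgLib.Perm.Asch.pure (Function.update (B ∅) d 1), fun u v => ?_, ?_⟩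
        · rw [mul_sub, sub_mul, Matrix.mul_smul, Matrix.mul_smul, Matrix.smul_mul, Matrix.smul_mul, cA, cB]
        · simp only [Φ]
          rw [eA, eB, show A ∅ d = e d • R d from hd1, show B ∅ d = (ζ d * e d) • R d from hd2, TensorPower.slot_smul,
            TensorPower.slot_smul, mul_sub, Matrix.smul_mul, Matrix.smul_mul, Matrix.mul_smul, Matrix.mul_smul,
            smul_smul, smul_smul]
    | @insert l L hl ih =>
      have key : dd ((gs l).map (sl l)) (Φ L) = Φ (insert l L) := by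
        simp only [Φ]
        rw [map_sub, dd_pureL, dd_pureL]
        congr 3 <;>
        · funext k
          rcases eq_or_ne k l with rfl | hk
          · simp [A, B, hl]
          · simp [A, B, hk]
      rw [← key]
      rcases eq_or_ne l d with rfl | hld
      · rw [hd]; exact ih
      refine dd_mem (fun g hg Y hY => ?_) ih
      obtain ⟨a, ha, rfl⟩ := List.mem_map.1 hg
      exact cj_mem_facG hld (hB.sl_mem l (hgs l a ha)) hY
  have := (hall Finset.univ).1
  simp only [Φ, A, B, Finset.mem_univ, if_true, h1, h2] at this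
  rw [pure_smul, pure_smul, Finset.prod_mul_distrib, smul_smul, smul_smul, ← sub_smul] at this
  convert this using 2
  ring

/-! ### the middle Weyl elements -/

/-- the signs of a middle Weyl element -/
def wmd (a : Ix n) (F : Type*) [Field F] (y : Ix n) : Fˣ := if y = a then -1 else 1

/-- a middle Weyl element -/
def midW (a : Ix n) (F : Type*) [Field F] : GL (Ix n) F := mono (Equiv.swap a (s1 n a)) (wmd a F)

theorem midW_mem (a : Ix n) : midW a F ∈ u1 n F := by
  refine mono_mem (fun y => ?_) fun y => ?_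
  · by_cases h0 : y = a
    · subst h0; simp [s1_inv _]
    by_cases h1 : y = s1 n a
    · subst h1; simp [s1_inv _]
    rw [Equiv.swap_apply_of_ne_of_ne h0 h1, Equiv.swap_apply_of_ne_of_ne (fun e => h1 (by rw [← e, s1_inv]))
      (fun e => h0 (s1_inv.injective e))]
  · by_cases h0 : y = a
    · subst h0
      simp [wmd, s1_ne, e1_s1, sg1.sq]
    by_cases h1 : y = s1 n a
    · subst h1
      simp [wmd, s1_inv _, s1_ne, e1_s1, sg1.sq]
    simp [wmd, Equiv.swap_apply_of_ne_of_ne h0 h1, h0, sg1.sq, show s1 n y ≠ a from fun e => h1 (by rw [← e, s1_inv])]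

/-- the element carrying a factor of a pattern to its partner -/
def wk (a : Ix n) (F : Type*) [Field F] : GL (Ix n) F := if a = 0 then wl n F else midW a F

/-- the partner of a factor of a pattern -/
def qt (a : Ix n) : Matrix (Ix n) (Ix n) F := if a = 0 then -Matrix.single 1 0 1 else -za (s1 n a)

theorem wk_mem (a : Ix n) : wk a F ∈ u1 n F := by unfold wk; split_ifs <;> [exact wl_mem; exact midW_mem a]

theorem cj_wk_pt {a : Ix n} (ha1 : a ≠ 1) : cj (wk a F) (pt a : Matrix (Ix n) (Ix n) F) = qt a := by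
  unfold wk qt pt
  split_ifs with h0
  · exact cj_wl01
  · rw [← wed_e0, cj_wed (midW_mem a), midW, mono_mulVec_single, mono_mulVec_single,
      Equiv.swap_apply_of_ne_of_ne (Ne.symm h0) (s1_mid h0 ha1).1.symm, Equiv.swap_apply_left, wmd, wmd,
      if_neg (Ne.symm h0), if_pos rfl, Units.val_neg, Units.val_one, show Pi.single (s1 n a) (-1 : F) =
        (-1 : F) • (Pi.single (s1 n a) 1 : Ix n → F) by rw [← Pi.single_smul]; simp, wed_smul_right, wed_e0,
      neg_one_smul]

theorem za_mul {a : Ix n} (h0 : a ≠ 0) (h1 : a ≠ 1) :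
    za a * za (s1 n a) = -(e1 n F a) • Matrix.single (0 : Ix n) 1 (1 : F) := by
  obtain ⟨hb0, hb1⟩ := s1_mid h0 h1
  rw [za, za, mul_sub, sub_mul, sub_mul, s1_inv, e1_s1, Matrix.single_mul_single_same,
    Matrix.single_mul_single_of_ne (h := hb1.symm), Matrix.single_mul_single_of_ne (h := show (1 : Ix n) ≠ 0 by simp),
    Matrix.single_mul_single_of_ne (h := hb0), Matrix.smul_single]
  simp [← Matrix.single_neg]

theorem za_sq {a : Ix n} (h0 : a ≠ 0) (h1 : a ≠ 1) : za a * za a = (0 : Matrix (Ix n) (Ix n) F) := by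
  obtain ⟨hb0, hb1⟩ := s1_mid h0 h1
  rw [za, mul_sub, sub_mul, sub_mul, Matrix.single_mul_single_of_ne (h := h1.symm),
    Matrix.single_mul_single_of_ne (h := hb0), Matrix.single_mul_single_of_ne (h := s1_ne a),
    Matrix.single_mul_single_of_ne (h := show (1 : Ix n) ≠ 0 by simp)]
  simp

theorem pt_sq {a : Ix n} (h1 : a ≠ 1) : pt a * pt a = (0 : Matrix (Ix n) (Ix n) F) := by
  unfold pt
  split_ifs with h0
  · rw [Matrix.single_mul_single_of_ne (h := show (1 : Ix n) ≠ 0 by simp)]
  · exact za_sq h0 h1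

theorem qt_sq {a : Ix n} (h1 : a ≠ 1) : qt a * qt a = (0 : Matrix (Ix n) (Ix n) F) := by
  rw [← cj_wk_pt h1, ← cj_mul, pt_sq h1, TensorPower.cj_zero]

/-- the operator of an overlap -/
def ops (a : Ix n) (F : Type*) [Field F] : List (GL (Ix n) F) := if a = 0 then [rt n 1] else []

theorem overlap_one {a : Ix n} (h1 : a ≠ 1) : dd (ops a F) (pt a * qt a) =
    (if a = 0 then (1 : F) else e1 n F a) • Matrix.single (0 : Ix n) 1 (1 : F) := by
  unfold ops pt qt
  split_ifs with h0
  · rw [mul_neg, Matrix.single_mul_single_same, mul_one, dd_single, map_neg, df_rt00, neg_neg, one_smul]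
  · rw [dd_nil, mul_neg, za_mul h0 h1, neg_smul, neg_neg]

theorem overlap_two {a : Ix n} (h1 : a ≠ 1) : dd (ops a F) (qt a * pt a) =
    (-1 * if a = 0 then (1 : F) else e1 n F a) • Matrix.single (0 : Ix n) 1 (1 : F) := by
  unfold ops pt qt
  split_ifs with h0
  · rw [neg_mul, Matrix.single_mul_single_same, mul_one, dd_single, map_neg, df_rt11, mul_one, neg_one_smul]
  · have h := za_mul (F := F) (s1_mid h0 h1).1 (s1_mid h0 h1).2
    rw [s1_inv, e1_s1, neg_neg] at h
    rw [dd_nil, neg_mul, h, neg_one_mul, neg_smul]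

/-- two copies of a pattern, meeting in an odd number of factors -/
theorem step_pattern (h2 : (2 : F) ≠ 0) (hB : HasSBase M) (hP : HasSPerms M) {T : Finset (Fin t)}
    {κ : Fin t → Ix n} {c : F} (hc : c ≠ 0) (hκ : ∀ l, κ l ≠ 1) (hm : Mem1 M (pat T κ c)) (π : Equiv.Perm (Fin t))
    (hπ : ∀ l ∈ T, π l ∈ T → π l = l) (hodd : Odd (T.filter fun l => π l = l).card)
    (hl0 : ∃ l ∈ T, π l ≠ l ∨ κ l ≠ 0) :
    ∃ c' : F, c' ≠ 0 ∧ Mem1 M (pat (T ∪ T.map π.toEmbedding)
      (fun l => if l ∈ T then (if π l = l then 0 else κ l) else κ (π.symm l)) c') := by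
  classical
  set U := T.map π.toEmbedding with hU
  have hUmem : ∀ l, l ∈ U ↔ π.symm l ∈ T := fun l => by rw [hU, Finset.mem_map_equiv]
  have hover : ∀ l, l ∈ T → l ∈ U → π.symm l = l ∧ π l = l := fun l hl hl' => by
    have h1 := hπ _ ((hUmem l).1 hl') (by rwa [Equiv.apply_symm_apply])
    rw [Equiv.apply_symm_apply] at h1
    exact ⟨h1.symm, π.symm_apply_eq.1 h1.symm |>.symm⟩
  have hTnotU : ∀ l ∈ T, π l ≠ l → l ∉ U := fun l hl hne hl' => hne (hover l hl hl').2
  let P : Fin t → Matrix (Ix n) (Ix n) F := T.piecewise (fun l => pt (κ l)) 1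
  let W : Fin t → GL (Ix n) F := fun l => if l ∈ T ∧ l ∈ U then wk (κ l) F else 1
  let Q : Fin t → Matrix (Ix n) (Ix n) F := fun l =>
    if l ∈ U then (if l ∈ T then qt (κ l) else pt (κ (π.symm l))) else 1
  have hY : Mem1 M (c • CfsgLib.Perm.Asch.pure Q) := by
    have h1 := (hm.conj (hP π)).conj (hB.pure_mem W fun l => by
      simp only [W]; split_ifs <;> [exact wk_mem _; exact one_mem _])
    convert h1 using 1
    rw [pat, cj_smul, cj_permGL_pure, cj_smul, cj_pureGL]
    congr 2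
    funext l
    by_cases hlU : l ∈ U
    · by_cases hlT : l ∈ T
      · simp only [Q, W, hlU, hlT, if_true, and_self, (hover l hlT hlU).1, Finset.piecewise, ite_true]
        rw [Function.comp_apply, (hover l hlT hlU).1, Finset.piecewise_eq_of_mem _ _ _ hlT, cj_wk_pt (hκ l)]
      · simp [Q, W, hlU, hlT, Finset.piecewise, (hUmem l).1 hlU, cj]
    · simp [Q, W, hlU, Finset.piecewise, mt (hUmem l).2 hlU, cj_one]
  let R : Fin t → Matrix (Ix n) (Ix n) F := (T ∪ U).piecewise
    (fun l => pt (F := F) (if l ∈ T then (if π l = l then 0 else κ l) else κ (π.symm l))) 1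
  let gs : Fin t → List (GL (Ix n) F) := fun l => if l ∈ T ∧ l ∈ U then ops (κ l) F else []
  let e : Fin t → F := fun l => if l ∈ T ∧ l ∈ U then (if κ l = 0 then 1 else e1 n F (κ l)) else 1
  let ζ : Fin t → F := fun l => if l ∈ T ∧ l ∈ U then -1 else 1
  have hcases : ∀ l, dd (gs l) (P l * Q l) = e l • R l ∧ dd (gs l) (Q l * P l) = (ζ l * e l) • R l := by
    intro l
    by_cases hlT : l ∈ T <;> by_cases hlU : l ∈ U
    · have hp : π l = l := (hover l hlT hlU).2
      simp only [P, Q, R, gs, e, ζ, hlT, hlU, hp, and_self, if_true, Finset.mem_union, or_self,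
        Finset.piecewise_eq_of_mem, Finset.piecewise]
      constructor
      · rw [overlap_one (hκ l)]; simp [pt]
      · rw [overlap_two (hκ l)]; simp [pt]
    · have hp : π l ≠ l := fun e' => hlU ((hUmem l).2 (by rwa [π.symm_apply_eq.2 e'.symm]))
      simp [P, Q, R, gs, e, ζ, hlT, hlU, hp, Finset.piecewise, dd_nil]
    · simp [P, Q, R, gs, e, ζ, hlT, hlU, Finset.piecewise, dd_nil]
    · simp [P, Q, R, gs, e, ζ, hlT, hlU, Finset.piecewise, dd_nil]
  obtain ⟨l0, hl0T, hl0⟩ := hl0
  have hPsq : ∀ l ∈ T, P l * P l = 0 := fun l hl => by simp [P, hl, Finset.piecewise, pt_sq (hκ l)]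
  have hπl0 : π l0 ∈ U := (hUmem _).2 (by rwa [Equiv.symm_apply_apply])
  have hQsq : Q (π l0) * Q (π l0) = 0 := by
    simp only [Q, hπl0, if_true]
    split_ifs <;> [exact qt_sq (hκ _); exact pt_sq (hκ _)]
  have hgs : ∀ l, ∀ g ∈ gs l, g ∈ u1 n F := by
    intro l g hg
    simp only [gs, ops] at hg
    split_ifs at hg
    · rw [List.mem_singleton.1 hg]; exact rt_mem 1
    · simp at hg
    · simp at hg
  have hd : gs l0 = [] ∧ R l0 * R l0 = 0 ∧ P l0 * Q l0 * P l0 = 0 := by
    by_cases hp : π l0 = l0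
    · have hk := hl0.resolve_left (not_not.2 hp)
      have hu : l0 ∈ U := by simpa [hp] using hπl0
      simp only [gs, ops, R, P, Q, hl0T, hu, hp, hk, and_self, if_true, if_false, Finset.mem_union, or_self,
        Finset.piecewise, true_and]
      refine ⟨pt_sq (by simp), ?_⟩
      rw [pt, if_neg hk, qt, if_neg hk, mul_neg, za_mul hk (hκ l0), neg_smul, neg_neg, Matrix.smul_mul, za, mul_sub,
        Matrix.single_mul_single_of_ne (h := (hκ l0).symm),
        Matrix.single_mul_single_of_ne (h := show (1 : Ix n) ≠ 0 by simp), sub_zero, smul_zero]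
    · have hu := hTnotU l0 hl0T hp
      simp [gs, R, P, Q, hl0T, hu, hp, Finset.piecewise, pt_sq (hκ l0)]
  have hQPQ : Q (π l0) * P (π l0) * Q (π l0) = 0 := by
    by_cases hp : π l0 = l0
    · have hk := hl0.resolve_left (not_not.2 hp)
      rw [hp] at hπl0 ⊢
      simp only [Q, P, hπl0, hl0T, if_true, Finset.piecewise]
      have h := za_mul (F := F) (s1_mid hk (hκ l0)).1 (s1_mid hk (hκ l0)).2
      rw [s1_inv] at h
      rw [pt, if_neg hk, qt, if_neg hk, neg_mul, h, neg_mul, Matrix.smul_mul, za, mul_neg, mul_sub,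
        Matrix.single_mul_single_of_ne (h := (s1_mid hk (hκ l0)).2.symm),
        Matrix.single_mul_single_of_ne (h := show (1 : Ix n) ≠ 0 by simp)]
      simp
    · have hu : π l0 ∉ T := fun hm' => hp (hπ l0 hl0T hm')
      rw [show P (π l0) = 1 from Finset.piecewise_eq_of_notMem _ _ _ hu, mul_one, hQsq]
  have hres := comm_pure hB l0 gs e ζ hm hY ⟨l0, hPsq l0 hl0T⟩ ⟨_, hQsq⟩ ⟨l0, hd.2.2⟩ ⟨_, hQPQ⟩ hgs hd.1 hd.2.1
    (fun l => (hcases l).1) (fun l => (hcases l).2)
  have hζ : ∏ l, ζ l = -1 := by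
    rw [Finset.prod_ite, Finset.prod_const_one, mul_one, Finset.prod_const]
    refine Odd.neg_one_pow ?_
    convert hodd using 2
    ext l
    simp only [Finset.mem_filter, Finset.mem_univ, true_and]
    exact ⟨fun h => ⟨h.1, (hover l h.1 h.2).2⟩,
      fun h => ⟨h.1, (hUmem l).2 (by rw [π.symm_apply_eq.2 h.2.symm]; exact h.1)⟩⟩
  have he : (∏ l, e l) ≠ 0 := Finset.prod_ne_zero_iff.2 fun l _ => by
    simp only [e]
    split_ifs <;> first | exact one_ne_zero | exact fun e0 => by simpa [e0] using (sg1 (F := F)).sq (κ l)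
  refine ⟨_, ?_, hres⟩
  rw [hζ, show (1 : F) - -1 = 2 by ring]
  exact mul_ne_zero (mul_ne_zero hc hc) (mul_ne_zero h2 he)

end CfsgLib.Perm.Trans.TensorPowerSp
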