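import Cfsg.Agent.Lib.Perm.Trans.TensorPowerSp.Fixed

/-!
# A non-scalar cofactor of a root gives a pattern
-/

set_option autoImplicit false
set_option linter.all false

namespace CfsgLib.Perm.Trans.TensorPowerSp

open scoped Matrix
open Matrix Cfsg.Geo CfsgLib.Perm.Asch CfsgLib.Perm.Trans CfsgLib.Perm.Trans.TensorPower

variable {F : Type*} [Field F] {n s t : ℕ}

/-! ### the differences used -/

theorem rt_e0 (c : F) : (rt n c : Matrix (Ix n) (Ix n) F) *ᵥ Pi.single 0 1 = Pi.single 0 1 := by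
  rw [rt_coe, add_mulVec, one_mulVec, Matrix.smul_mulVec, single_mulVec]
  simp

theorem rt_e1 (c : F) :
    (rt n c : Matrix (Ix n) (Ix n) F) *ᵥ Pi.single 1 1 = Pi.single 1 1 + Pi.single 0 c := by
  rw [rt_coe, add_mulVec, one_mulVec, Matrix.smul_mulVec, single_mulVec]
  funext x
  by_cases hx : x = 0 <;> simp [hx, Pi.single_apply, Function.update_apply]

theorem wl_e0 : (wl n F : Matrix (Ix n) (Ix n) F) *ᵥ Pi.single 0 1 = Pi.single 1 1 := by
  rw [wl, mono_mulVec_single, Equiv.swap_apply_left, wd, if_neg (by simp), Units.val_one]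

theorem wl_e1 : (wl n F : Matrix (Ix n) (Ix n) F) *ᵥ Pi.single 1 1 = -Pi.single 0 1 := by
  rw [wl, mono_mulVec_single, Equiv.swap_apply_right, wd, if_pos rfl, Units.val_neg, Units.val_one, Pi.single_neg]

theorem dual_e1' : dual (e1 n F) (s1 n) (Pi.single 1 1) = Pi.single 0 (1 : F) := by
  rw [dual_single sg1, s1_one, e1_zero, mul_one]

theorem dual_neg {ι : Type} (ε : ι → F) (S : ι → ι) (u : ι → F) : dual ε S (-u) = -dual ε S u :=
  funext fun x => by simp [dual]

theorem df_rt00 : df (rt n 1) (Matrix.single 0 0 (1 : F)) = -Matrix.single (0 : Ix n) 1 1 := by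
  rw [df_apply, cj_unit (rt_mem 1), s1_zero, rt_e0, rt_e1, dual_add, dual_e1', dual_e0, vecMulVec_add, vecMulVec_neg,
    vmv_single2, vmv_single2, e1_zero, one_smul, one_mul]
  abel

theorem df_rt11 : df (rt n 1) (Matrix.single 1 1 (1 : F)) = Matrix.single (0 : Ix n) 1 1 := by
  rw [df_apply, cj_unit (rt_mem 1), s1_one, rt_e0, rt_e1, dual_e0, e1_one, vecMulVec_neg, add_vecMulVec, vmv_single2,
    vmv_single2, neg_one_smul, neg_neg, one_mul]
  abel

theorem df_rt01 : df (rt n 1) (Matrix.single 0 1 (1 : F)) = (0 : Matrix (Ix n) (Ix n) F) := by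
  rw [df_apply, cj_unit (rt_mem 1), s1_one, rt_e0, dual_e0, e1_one, vecMulVec_neg, vmv_single2, neg_one_smul, neg_neg,
    one_mul, sub_self]

theorem df_rt10 : df (rt n 1) (Matrix.single 1 0 (1 : F)) =
    Matrix.single (0 : Ix n) 0 1 - Matrix.single 1 1 1 - Matrix.single 0 1 1 := by
  rw [df_apply, cj_unit (rt_mem 1), s1_zero, rt_e1, dual_add, dual_e1', dual_e0, e1_zero, one_smul, vecMulVec_add,
    vecMulVec_neg, add_vecMulVec, add_vecMulVec, vmv_single2, vmv_single2, vmv_single2, vmv_single2, one_mul]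
  abel

theorem cj_wl01 : cj (wl n F) (Matrix.single 0 1 (1 : F)) = -Matrix.single (1 : Ix n) 0 1 := by
  rw [cj_unit wl_mem, s1_one, wl_e0, dual_e1', e1_one, vmv_single2, neg_one_smul, one_mul]

/-- the operator sending the root to a multiple of itself -/
def opN (n : ℕ) (F : Type*) [Field F] : List (GL (Ix n) F) := [rt n 1, rt n 1, wl n F]

theorem dd_three {ι : Type} [Fintype ι] [DecidableEq ι] (a b c : GL ι F) (X : Matrix ι ι F) :
    dd [a, b, c] X = df a (df b (df c X)) := rfl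

theorem dd_single {ι : Type} [Fintype ι] [DecidableEq ι] (a : GL ι F) (X : Matrix ι ι F) : dd [a] X = df a X := rfl

theorem opN_root : dd (opN n F) (Matrix.single 0 1 (1 : F)) = (2 : F) • Matrix.single (0 : Ix n) 1 1 := by
  rw [opN, dd_three]
  rw [df_apply (wl n F), cj_wl01, map_sub, map_neg, df_rt01, sub_zero, df_rt10, map_neg, map_sub, map_sub, df_rt00,
    df_rt11, df_rt01, sub_zero, two_smul]
  abel

theorem mid_iso (a : Ix n) :
    dual (e1 n F) (s1 n) (Pi.single (s1 n a) (1 : F)) ⬝ᵥ Pi.single (s1 n a) 1 = 0 := by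
  rw [dual_single sg1, s1_inv]
  simp [s1_ne a]

/-- the transvection of a middle vector -/
def midT (a : Ix n) : GL (Ix n) F := utv (Pi.single (s1 n a) 1) (mid_iso a) 1

theorem midT_single {a : Ix n} (x : Ix n) : ((midT a : GL (Ix n) F) : Matrix (Ix n) (Ix n) F) *ᵥ Pi.single x 1 =
    Pi.single x 1 + if x = a then e1 n F a • Pi.single (s1 n a) 1 else 0 := by
  rw [midT, utv_coe, one_smul, add_mulVec, one_mulVec, vecMulVec_mulVec, op_smul_eq_smul, dual_single sg1, s1_inv,
    mul_one]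
  congr 1
  by_cases h : x = a
  · simp [h]
  · simp [h, Ne.symm h]

theorem df_midT_za {a : Ix n} (ha0 : a ≠ 0) (x : Ix n) :
    df (midT a) (za x : Matrix (Ix n) (Ix n) F) = if x = a then e1 n F a • za (s1 n a) else 0 := by
  rw [df_apply, ← wed_e0, cj_wed (g := midT a) (by exact utv_mem _ _ _), midT_single, midT_single, if_neg ha0.symm,
    add_zero, wed_add_right, add_sub_cancel_left]
  split_ifs
  · rw [wed_smul_right, wed_e0]
  · simp [wed, dual, vecMulVec]

theorem df_midT01 {a : Ix n} (ha0 : a ≠ 0) :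
    df (midT a) (Matrix.single 0 1 (1 : F)) = (0 : Matrix (Ix n) (Ix n) F) := by
  rw [df_apply, cj_unit (g := midT a) (utv_mem _ _ _), s1_one, midT_single, if_neg ha0.symm, add_zero, dual_e0, e1_one,
    vecMulVec_neg, vmv_single2, neg_one_smul, neg_neg, one_mul, sub_self]

theorem cm_cj {k : Fin t} {g : GL (Fin t → Ix n) F} (hg : ∀ u v, cj g (sx k u v) = (sx k u v : Matrix _ _ F))
    {B : Matrix (Fin t → Ix n) (Fin t → Ix n) F} (hB : Cm k B) : Cm k (cj g B) := fun u v => by
  rw [← hg, ← cj_mul, hB, cj_mul]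

local notation "Mat" => Matrix (Fin t → Ix n) (Fin t → Ix n) F

/-- the state of a factor -/
def Split (l : Fin t) (P : Matrix (Ix n) (Ix n) F) (Z : Mat) : Prop := ∃ C, Cm l C ∧ Z = slot l P * C

theorem dd_keep {l k : Fin t} (hlk : l ≠ k) (gs : List (GL (Ix n) F)) {Z : Mat} {P : Matrix (Ix n) (Ix n) F} :
    (Fix3 k Z → Fix3 k (dd (gs.map (sl l)) Z)) ∧ (Split k P Z → Split k P (dd (gs.map (sl l)) Z)) := by
  induction gs with
  | nil => exact ⟨id, id⟩
  | cons g gs ih =>
    have e : ∀ p q, cj (sl l g) (sx k p q) = (sx k p q : Mat) := fun p q => cj_sl_slot_ne hlk g _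
    have e' : ∀ A, cj (sl l g) (slot k A) = (slot k A : Mat) := fun A => cj_sl_slot_ne hlk g A
    rw [List.map_cons, dd_cons]
    refine ⟨fun h => ?_, fun h => ?_⟩
    · obtain ⟨B, C, D, hB, hC, hD, hZ⟩ := ih.1 h
      refine ⟨cj (sl l g) B - B, cj (sl l g) C - C, fun a => cj (sl l g) (D a) - D a, fun u v => ?_, fun u v => ?_,
        fun a u v => ?_, ?_⟩
      · rw [mul_sub, sub_mul, hB, cm_cj e hB]
      · rw [mul_sub, sub_mul, hC, cm_cj e hC]
      · rw [mul_sub, sub_mul, hD, cm_cj e (hD a)]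
      · rw [hZ, ← df_apply, map_add, map_add, map_sum, df_apply, df_apply, cj_mul, e, mul_sub]
        congr 1
        exact Finset.sum_congr rfl fun a _ => by rw [df_apply, cj_mul, e', mul_sub]
    · obtain ⟨C, hC, hZ⟩ := ih.2 h
      exact ⟨cj (sl l g) C - C, fun u v => by rw [mul_sub, sub_mul, hC, cm_cj e hC],
        by rw [hZ, cj_mul, e', mul_sub]⟩

theorem dd_slot_mul {l : Fin t} (gs : List (GL (Ix n) F)) (X : Matrix (Ix n) (Ix n) F) {C : Mat}
    (hC : Cm l C) : dd (gs.map (sl l)) (slot l X * C) = slot l (dd gs X) * C := by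
  induction gs with
  | nil => rfl
  | cons g gs ih =>
    rw [List.map_cons, dd_cons, dd_cons, ih, cj_mul, cj_sl_slot,
      cj_eq_self (g := sl l g) (X := C) (by rw [sl_coe]; exact comm_slot_of_units hC _), slot_sub, sub_mul]

theorem dd_scalar_part {l : Fin t} {gs : List (GL (Ix n) F)} {g : GL (Ix n) F} {B : Mat} (hB : Cm l B) :
    dd ((gs ++ [g]).map (sl l)) B = 0 := by
  have := dd_slot_mul (gs ++ [g]) 1 hB
  rwa [slot_one, one_mul, dd_one, slot_zero, zero_mul] at this

/-- the pattern of the factors in `T` -/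
def pat (T : Finset (Fin t)) (κ : Fin t → Ix n) (c : F) : Mat :=
  c • CfsgLib.Perm.Asch.pure (T.piecewise (fun l => pt (κ l)) 1)

/-- splitting in every factor makes a pattern -/
theorem pat_of_split (L : Finset (Fin t)) (κ : Fin t → Ix n) (hκ : ∀ l ∈ L, κ l ≠ 1) {Z : Mat}
    (hL : ∀ l ∈ L, Split l (pt (κ l)) Z) (hn : ∀ k ∉ L, Cm k Z) : ∃ c : F, Z = pat L κ c := by
  classical
  induction L using Finset.induction_on generalizing Z with
  | empty =>
    haveI : Nonempty (Ix n) := ⟨0⟩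
    obtain ⟨c, hc⟩ := scalar_of_commute_slots Z fun i a b => (hn i (by simp) a b).symm
    exact ⟨c, by rw [hc, pat, Finset.piecewise_empty, pure_one]⟩
  | @insert l L hl ih =>
    obtain ⟨C, hC, rfl⟩ := hL l (Finset.mem_insert_self l L)
    obtain ⟨x, y, hxy⟩ := pt_ne_zero (F := F) (hκ l (Finset.mem_insert_self l L))
    have hblk : blk l x y (slot l (pt (F := F) (κ l)) * C) = pt (F := F) (κ l) x y • C := by
      rw [blk_right hC, blk_slot, Matrix.smul_mul, one_mul]
    have hout : ∀ m, m ≠ l → ∀ (A : Matrix (Ix n) (Ix n) F) (u v : Ix n),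
        sx l u v * slot m A = (slot m A : Mat) * sx l u v := fun m hm A u v => slot_comm hm.symm _ _
    obtain ⟨c, hc⟩ := ih (fun m hm => hκ m (Finset.mem_insert_of_mem hm)) (Z := C) (fun m hm => by
      obtain ⟨C', hC', e⟩ := hL m (Finset.mem_insert_of_mem hm)
      have hml : m ≠ l := fun e => hl (e ▸ hm)
      refine ⟨(pt (F := F) (κ l) x y)⁻¹ • blk l x y C', fun u v => ?_, ?_⟩
      · rw [Matrix.mul_smul, Matrix.smul_mul]
        congr 1
        rw [blk, Finset.mul_sum, Finset.sum_mul]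
        refine Finset.sum_congr rfl fun r _ => ?_
        rw [← mul_assoc, ← mul_assoc, sx_comm hml u v r x, mul_assoc (sx l r x) (sx m u v), hC' u v, ← mul_assoc,
          mul_assoc _ (sx m u v), sx_comm hml u v y r, ← mul_assoc]
      · rw [e] at hblk
        rw [blk_left (hout m hml _)] at hblk
        rw [Matrix.mul_smul, hblk, smul_smul, inv_mul_cancel₀ hxy, one_smul]) fun m hm => by
      rcases eq_or_ne m l with rfl | hml
      · exact hC
      intro u v
      have hk := hn m (by simp [hm, hml]) u v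
      have e := congrArg (blk l x y) hk
      rw [blk_left (fun p q => sx_comm hml.symm p q u v), blk_right (fun p q => sx_comm hml.symm p q u v), hblk,
        Matrix.mul_smul, Matrix.smul_mul] at e
      exact smul_right_injective _ hxy e
    refine ⟨c, ?_⟩
    rw [hc, pat, pat, Matrix.mul_smul, slot_mul_pure, Finset.piecewise_insert, Finset.piecewise_eq_of_notMem _ _ _ hl,
      Pi.one_apply, mul_one]

theorem mulSingle_mem (k : Fin t) {a : GL (Ix n) F} (ha : a ∈ u1 n F) (l : Fin t) :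
    Pi.mulSingle (M := fun _ : Fin t => GL (Ix n) F) k a l ∈ u1 n F := by
  rcases eq_or_ne l k with rfl | h
  · rwa [Pi.mulSingle_eq_same]
  · rw [Pi.mulSingle_eq_of_ne h]; exact one_mem _

theorem e1_two (h2 : (2 : F) = 0) (x : Ix n) : e1 n F x = 1 := by
  unfold e1
  split_ifs
  · rfl
  · linear_combination -h2

/-- in characteristic two an operator sends the root to a fixed self-adjoint element -/
theorem exists_root_op (h2 : (2 : F) = 0) (hn : 2 ≤ n) :
    ∃ (g : GL (Ix n) F) (gs : List (GL (Ix n) F)) (a : Ix n), (∀ g' ∈ gs ++ [g], g' ∈ u1 n F) ∧ a ≠ 0 ∧ a ≠ 1 ∧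
      dd (gs ++ [g]) (Matrix.single 0 1 (1 : F)) = za a := by
  classical
  set a : Ix n := ⟨2, by omega⟩ with hadef
  set a' : Ix n := ⟨3, by omega⟩ with ha'def
  set b : Ix n := ⟨4, by omega⟩ with hbdef
  set b' : Ix n := ⟨5, by omega⟩ with hb'def
  have hsa : s1 n a = a' := Fin.ext (by rw [s1_val]; simp [hadef, ha'def])
  have hsb : s1 n b = b' := Fin.ext (by rw [s1_val]; simp [hbdef, hb'def])
  have ha0 : a ≠ 0 := fun e => by simpa [hadef] using congrArg Fin.val e
  have ha1 : a ≠ 1 := fun e => by simpa [hadef] using congrArg Fin.val e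
  have hb0 : b ≠ 0 := fun e => by simpa [hbdef] using congrArg Fin.val e
  have hb1 : b ≠ 1 := fun e => by simpa [hbdef] using congrArg Fin.val e
  obtain ⟨ha0', ha1'⟩ := s1_mid ha0 ha1
  have hba : b ≠ a := fun e => by simpa [hadef, hbdef] using congrArg Fin.val e
  have hba' : b ≠ s1 n a := fun e => by rw [hsa] at e; simpa [ha'def, hbdef] using congrArg Fin.val e
  have hab' : s1 n b ≠ a := fun e => hba' (by rw [← e, s1_inv])
  have hneg : ∀ x : F, -x = x := fun x => by linear_combination -x * h2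
  -- the three elements
  set g : GL (Ix n) F := (wl n F)⁻¹ * eta a ha0 ha1 1 * wl n F with hg
  set N : Matrix (Ix n) (Ix n) F := Matrix.single b a 1 + Matrix.single (s1 n a) (s1 n b) 1 with hN
  have hNN : N * N = 0 := by
    rw [hN, add_mul, mul_add, mul_add, Matrix.single_mul_single_of_ne (h := hba.symm),
      Matrix.single_mul_single_of_ne (h := Ne.symm (s1_ne a)), Matrix.single_mul_single_of_ne (h := s1_ne b),
      Matrix.single_mul_single_of_ne (h := fun e => hba (s1_inv.injective e))]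
    simp
  let h : GL (Ix n) F := ⟨1 + N, 1 - N,
    by rw [add_mul, one_mul, mul_sub, mul_one, hNN, sub_zero, sub_add_cancel],
    by rw [sub_mul, one_mul, mul_add, mul_one, hNN, add_zero, add_sub_cancel_right]⟩
  have hhu : h ∈ u1 n F := mem_of_one_add (g := h) rfl hNN (by
    rw [hN, adj_add, adj_single sg1, adj_single sg1, s1_inv, s1_inv, e1_two h2, e1_two h2, e1_two h2, e1_two h2,
      one_mul, one_mul]
    ext x y
    rw [Matrix.neg_apply, hneg, Matrix.add_apply, Matrix.add_apply, add_comm])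
  set T : GL (Ix n) F := eta (s1 n a) ha0' ha1' 1 with hT
  refine ⟨g, [T, h], b, ?_, hb0, hb1, ?_⟩
  · simp only [List.cons_append, List.nil_append, List.mem_cons, List.not_mem_nil, or_false]
    rintro g' (rfl | rfl | rfl)
    exacts [eta_mem _ _ _, hhu, mul_mem (mul_mem (inv_mem wl_mem) (eta_mem ha0 ha1 1)) wl_mem]
  -- their values on the vectors in play
  set e0 : Ix n → F := Pi.single 0 1 with he0
  set ea : Ix n → F := Pi.single a 1 with hea
  set eb : Ix n → F := Pi.single b 1 with heb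
  have w1 : ((wl n F)⁻¹ : GL (Ix n) F).val *ᵥ Pi.single 1 1 = e0 := by rw [← wl_e0, gl_inv_mulVec]
  have w2 : ((wl n F)⁻¹ : GL (Ix n) F).val *ᵥ ea = ea := by
    have e : (wl n F : Matrix (Ix n) (Ix n) F) *ᵥ ea = ea := by
      rw [hea, wl, mono_mulVec_single, Equiv.swap_apply_of_ne_of_ne ha0 ha1, wd, if_neg ha1, Units.val_one]
    conv_lhs => rw [← e]
    rw [gl_inv_mulVec]
  have hge : (g : Matrix (Ix n) (Ix n) F) *ᵥ e0 = e0 + ea := by
    rw [hg, Units.val_mul, Units.val_mul, ← mulVec_mulVec, ← mulVec_mulVec, he0, wl_e0, eta_coe, add_mulVec,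
      one_mulVec, etaN, add_mulVec, single_mulVec, single_mulVec, ← he0]
    rw [show Function.update (0 : Ix n → F) a (1 * (Pi.single 1 1 : Ix n → F) 1) +
        Function.update (0 : Ix n → F) 0 (e1 n F a * 1 * (Pi.single 1 1 : Ix n → F) (s1 n a)) = ea by
      rw [Pi.single_eq_same, Pi.single_eq_of_ne ha1', mul_zero, mul_one, hea]
      funext p
      simp [Function.update_apply, Pi.single_apply]]
    rw [mulVec_add, w1, w2]
  have hNv : ∀ x : Ix n, N *ᵥ Pi.single x 1 =
      (if x = a then eb else 0) + if x = s1 n b then Pi.single (s1 n a) 1 else 0 := fun x => by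
    rw [hN, add_mulVec, single_mulVec, single_mulVec, heb]
    congr 1 <;> (funext p; by_cases hx : x = a <;> by_cases hy : x = s1 n b <;>
      simp [hx, hy, Pi.single_apply, Function.update_apply, Ne.symm, hab', hab'.symm, eq_comm])
  have hh0 : (h : Matrix (Ix n) (Ix n) F) *ᵥ e0 = e0 := by
    show (1 + N) *ᵥ e0 = _
    rw [add_mulVec, one_mulVec, he0, hNv, if_neg ha0.symm, if_neg (s1_mid hb0 hb1).1.symm, add_zero, add_zero]
  have hha : (h : Matrix (Ix n) (Ix n) F) *ᵥ ea = ea + eb := by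
    show (1 + N) *ᵥ ea = _
    rw [add_mulVec, one_mulVec, hea, hNv, if_pos rfl, if_neg hab'.symm, add_zero]
  have hTv : ∀ x : Ix n, (T : Matrix (Ix n) (Ix n) F) *ᵥ Pi.single x 1 =
      Pi.single x 1 + ((if x = 1 then Pi.single (s1 n a) 1 else 0) + if x = a then e0 else 0) := fun x => by
    rw [hT, eta_coe, etaN, add_mulVec, one_mulVec, add_mulVec, single_mulVec, single_mulVec, s1_inv, e1_two h2, one_mul,
      he0]
    congr 1
    congr 1 <;> (funext p; by_cases hx : x = a <;> by_cases hy : x = 1 <;>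
      simp [hx, hy, Pi.single_apply, Function.update_apply, ha1, ha1.symm, eq_comm])
  have hT0 : (T : Matrix (Ix n) (Ix n) F) *ᵥ e0 = e0 := by
    rw [he0, hTv, if_neg (by simp), if_neg ha0.symm, add_zero, add_zero]
  have hTa : (T : Matrix (Ix n) (Ix n) F) *ᵥ ea = ea + e0 := by
    rw [hea, hTv, if_neg ha1, if_pos rfl, zero_add]
  have hTb : (T : Matrix (Ix n) (Ix n) F) *ᵥ eb = eb := by
    rw [heb, hTv, if_neg hb1, if_neg hba, add_zero, add_zero]
  -- the computation
  have hgu : g ∈ u1 n F := mul_mem (mul_mem (inv_mem wl_mem) (eta_mem ha0 ha1 1)) wl_mem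
  have hTu : T ∈ u1 n F := eta_mem _ _ _
  have h01 : Matrix.single (0 : Ix n) 1 (1 : F) = -vecMulVec e0 (dual (e1 n F) (s1 n) e0) := by
    rw [he0, vmv_e0, neg_neg]
  show dd [T, h, g] _ = _
  rw [dd_three, h01]
  simp only [df_apply, TensorPower.cj_sub, cj_neg, cj_vmv_dual hgu, cj_vmv_dual hhu, cj_vmv_dual hTu, hge, hh0, hha, hT0,
    hTa, hTb, mulVec_add]
  rw [← wed_e0, wed, ← heb, ← he0]
  ext x y
  simp only [dual_add, vecMulVec_add, add_vecMulVec, Matrix.sub_apply, Matrix.add_apply, Matrix.neg_apply,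
    vecMulVec_apply, hneg]
  simp only [sub_eq_add_neg, hneg]
  linear_combination (7 * (e0 x * dual (e1 n F) (s1 n) e0 y) + 3 * (e0 x * dual (e1 n F) (s1 n) ea y) +
    (e0 x * dual (e1 n F) (s1 n) eb y) + 3 * (dual (e1 n F) (s1 n) e0 y * ea x) +
    (dual (e1 n F) (s1 n) e0 y * eb x) + 2 * (ea x * dual (e1 n F) (s1 n) ea y) + ea x * dual (e1 n F) (s1 n) eb y +
    eb x * dual (e1 n F) (s1 n) ea y + eb x * dual (e1 n F) (s1 n) eb y) * h2

variable [Fintype F]

/-- a non-scalar element of a group invariant under the factors gives a pattern in it -/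
theorem fix_pattern (hd : (2 : F) ≠ 0 ∨ ((2 : F) = 0 ∧ 2 ≤ n)) (S : AddSubgroup Mat)
    (hS : ∀ B : Fin t → GL (Ix n) F, (∀ l, B l ∈ u1 n F) → ∀ Z ∈ S, cj (pureGL B) Z ∈ S)
    {Z : Mat} (hZ : Z ∈ S) (hne : ∀ c : F, Z ≠ c • 1) :
    ∃ (L : Finset (Fin t)) (κ : Fin t → Ix n) (c : F), L.Nonempty ∧ c ≠ 0 ∧ (∀ l, κ l ≠ 1) ∧ pat L κ c ∈ S := by
  classical
  obtain ⟨W, hW, hWne, hfix⟩ := exists_fixed_mod_scalars S (fun B hBQ Z hZ => hS B (fun l => (hBQ l).1) Z hZ) hZ hne
  let Ok : Finset (Fin t) → Prop := fun L => ∃ (κ : Fin t → Ix n), ∃ Z ∈ S, Z ≠ 0 ∧ L.Nonempty ∧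
    (∀ l, κ l ≠ 1) ∧ (∀ k, Fix3 k Z) ∧ ∀ l ∈ L, Split l (pt (κ l)) Z
  have hstep : ∀ (L : Finset (Fin t)) (κ : Fin t → Ix n) (Z : Matrix (Fin t → Ix n) (Fin t → Ix n) F) (k : Fin t),
      Z ∈ S → (∀ l, κ l ≠ 1) → (∀ i, Fix3 i Z) → (∀ l ∈ L, Split l (pt (κ l)) Z) → k ∉ L → ¬ Cm k Z →
      Ok (insert k L) := by
    intro L κ Z k hZS hκ hZ2 hZL hk hnc
    obtain ⟨B, C, D, hB', hC, hD, hZe⟩ := hZ2 k
    obtain ⟨g, gs, a, X, hg, ha, hX0, hXc, hval⟩ :
        ∃ (g : GL (Ix n) F) (gs : List (GL (Ix n) F)) (a : Ix n) (X : Matrix (Fin t → Ix n) (Fin t → Ix n) F),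
          (∀ g' ∈ gs ++ [g], g' ∈ u1 n F) ∧ a ≠ 1 ∧ X ≠ 0 ∧ Cm k X ∧
          dd ((gs ++ [g]).map (sl k)) Z = slot k (pt a) * X := by
      by_cases hex : ∃ a ∈ midS n, D a ≠ 0
      · obtain ⟨a, ha, hDa⟩ := hex
        obtain ⟨ha0, ha1⟩ := mem_midS.1 ha
        refine ⟨midT a, [], s1 n a, e1 n F a • D a, ?_, (s1_mid ha0 ha1).2, smul_ne_zero (fun e => ?_) hDa,
          fun u v => by rw [Matrix.mul_smul, Matrix.smul_mul, hD a], ?_⟩
        · simp only [List.nil_append, List.mem_singleton, forall_eq]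
          exact utv_mem _ _ _
        · simpa [e] using (sg1 (F := F)).sq a
        rw [List.nil_append, hZe, map_add, map_add, map_sum, ← List.nil_append [midT a], dd_scalar_part hB', sx,
          dd_slot_mul _ _ hC, List.nil_append, dd_single,
          df_midT01 ha0, slot_zero, zero_mul, add_zero, zero_add, Finset.sum_eq_single a]
        · rw [dd_slot_mul _ _ (hD a), dd_single,
            df_midT_za ha0, if_pos rfl, TensorPower.slot_smul, Matrix.smul_mul, Matrix.mul_smul, pt,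
            if_neg (s1_mid ha0 ha1).1]
        · intro x _ hx
          rw [dd_slot_mul _ _ (hD x), dd_single,
            df_midT_za ha0, if_neg hx, slot_zero, zero_mul]
        · exact fun h => absurd ha h
      · push Not at hex
        rw [Finset.sum_eq_zero (fun a ha => by rw [hex a ha, mul_zero]), add_zero] at hZe
        have hC0 : C ≠ 0 := fun e => hnc (by rw [hZe, e, mul_zero, add_zero]; exact hB')
        rcases hd with h2 | ⟨h2, hn⟩
        swap
        · obtain ⟨g, gs, a, hgm, ha0, ha1, hop⟩ := exists_root_op (F := F) h2 hn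
          refine ⟨g, gs, a, C, hgm, ha1, hC0, hC, ?_⟩
          rw [hZe, map_add, dd_scalar_part hB', zero_add, sx, dd_slot_mul _ _ hC, hop, pt, if_neg ha0]
        refine ⟨wl n F, [rt n 1, rt n 1], 0, (2 : F) • C, ?_, by simp, smul_ne_zero h2 hC0,
          fun u v => by rw [Matrix.mul_smul, Matrix.smul_mul, hC], ?_⟩
        · simp only [List.cons_append, List.nil_append, List.mem_cons, List.not_mem_nil, or_false]
          rintro g' (rfl | rfl | rfl)
          exacts [rt_mem 1, rt_mem 1, wl_mem]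
        rw [hZe, map_add, dd_scalar_part hB', zero_add, sx, dd_slot_mul _ _ hC,
          show ([rt n 1, rt n 1] ++ [wl n F] : List (GL (Ix n) F)) = opN n F from rfl, opN_root, pt, if_pos rfl,
          TensorPower.slot_smul, Matrix.smul_mul, Matrix.mul_smul]
    have hmem : dd ((gs ++ [g]).map (sl k)) Z ∈ S := dd_mem (fun h hh X hX => by
      obtain ⟨b, hb, rfl⟩ := List.mem_map.1 hh
      exact hS _ (fun l => mulSingle_mem k (hg b hb) l) X hX) hZS
    refine ⟨Function.update κ k a, _, hmem, ?_, Finset.insert_nonempty k L, fun l => ?_, fun i => ?_, fun l hl => ?_⟩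
    · rw [hval]
      intro e
      obtain ⟨x, y, hxy⟩ := pt_ne_zero (F := F) ha
      have h1 := congrArg (blk k x y) e
      rw [blk_right hXc, blk_slot, Matrix.smul_mul, one_mul, blk_zero] at h1
      exact hX0 ((smul_eq_zero.1 h1).resolve_left hxy)
    · rcases eq_or_ne l k with rfl | hl
      · rwa [Function.update_self]
      · rw [Function.update_of_ne hl]; exact hκ l
    · rcases eq_or_ne k i with rfl | hki
      · rw [hval]
        by_cases ha0 : a = 0
        · refine ⟨0, X, fun _ => 0, fun u v => by simp, hXc, fun _ u v => by simp, ?_⟩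
          simp [pt, ha0, sx]
        · refine ⟨0, 0, fun b => if b = a then X else 0, fun u v => by simp, fun u v => by simp,
            fun b u v => by dsimp only; split_ifs <;> [exact hXc u v; simp], ?_⟩
          simp [pt, ha0, mul_ite, mem_midS, ha]
      · exact (dd_keep hki _ (P := 0)).1 (hZ2 i)
    · rcases Finset.mem_insert.1 hl with rfl | hl
      · rw [Function.update_self]; exact ⟨X, hXc, hval⟩
      · have hkl : k ≠ l := fun e => hk (e ▸ hl)
        rw [Function.update_of_ne hkl.symm]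
        exact (dd_keep hkl _).2 (hZL l hl)
  have hstart : ∃ L, Ok L := by
    obtain ⟨k, hk⟩ : ∃ k, ¬ Cm k W := by
      by_contra hcon
      push Not at hcon
      haveI : Nonempty (Ix n) := ⟨0⟩
      obtain ⟨c, hc⟩ := scalar_of_commute_slots W fun i a b => (hcon i a b).symm
      exact hWne c hc
    exact ⟨_, hstep ∅ (fun _ => 0) W k hW (by simp) (fun l => fix3_of_fixed hd fun g hg => hfix l g hg) (by simp)
      (by simp) hk⟩
  obtain ⟨L, hL, hmax⟩ := Finset.exists_max_image (Finset.univ.filter Ok) Finset.card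
    (by obtain ⟨L, hL⟩ := hstart; exact ⟨L, Finset.mem_filter.2 ⟨Finset.mem_univ _, hL⟩⟩)
  obtain ⟨κ, Z', hZS, hZ0, hLne, hκ, hZ2, hZL⟩ := (Finset.mem_filter.1 hL).2
  obtain ⟨c, hc⟩ := pat_of_split L κ (fun l _ => hκ l) hZL fun k hk => by
    by_contra hnc
    have h1 := hmax (insert k L) (Finset.mem_filter.2 ⟨Finset.mem_univ _, hstep L κ Z' k hZS hκ hZ2 hZL hk hnc⟩)
    rw [Finset.card_insert_of_notMem hk] at h1
    omega
  exact ⟨L, κ, c, hLne, fun e => hZ0 (by rw [hc, e, pat, zero_smul]), hκ, hc ▸ hZS⟩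

variable {M : Subgroup (GL (Fin (s + 1) → Ix n) F)}

/-- a non-scalar cofactor gives a pattern on at least two factors, one of them a root -/
theorem pattern_with_root (hd : (2 : F) ≠ 0 ∨ ((2 : F) = 0 ∧ 2 ≤ n)) (hB : HasSBase M) {j : Fin (s + 1)}
    {Z : Matrix (Fin s → Ix n) (Fin s → Ix n) F} (hZ : Z ∈ smallS M j) (hne : ∀ c : F, Z ≠ c • 1) :
    ∃ (T : Finset (Fin (s + 1))) (κ : Fin (s + 1) → Ix n) (c : F), 2 ≤ T.card ∧ c ≠ 0 ∧ (∀ l, κ l ≠ 1) ∧
      (∃ l ∈ T, κ l = 0) ∧ Mem1 M (pat T κ c) := by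
  classical
  obtain ⟨L, κ, c, hLne, hc0, hκ, hZS⟩ := fix_pattern hd (smallS M j) (fun B hBQ Z hZ => by
    refine cj_mem_smallS ?_ hZ
    rw [embGL_pure]
    refine hB.pure_mem _ fun l => ?_
    rcases Fin.eq_self_or_eq_succAbove j l with rfl | ⟨i, rfl⟩
    · simp
    · simpa using hBQ i) hZ hne
  have hjL : j ∉ L.map (Fin.succAboveEmb j) := by simp
  refine ⟨insert j (L.map (Fin.succAboveEmb j)), Fin.insertNth (α := fun _ => Ix n) j 0 κ, c, ?_,
    hc0, fun l => ?_, ⟨j, Finset.mem_insert_self _ _, Fin.insertNth_apply_same ..⟩, ?_⟩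
  · rw [Finset.card_insert_of_notMem hjL, Finset.card_map]
    have := hLne.card_pos
    omega
  · rcases Fin.eq_self_or_eq_succAbove j l with rfl | ⟨i, rfl⟩
    · simp
    · simpa using hκ i
  · have h := mem_smallS.1 hZS
    rw [pat, map_smul, Matrix.mul_smul] at h
    convert h using 1
    rw [pat, pure_split j, sx, Finset.piecewise_eq_of_mem _ _ _ (Finset.mem_insert_self j _), Fin.insertNth_apply_same,
      pt, if_pos rfl]
    congr 4
    funext i
    have : j.succAbove i ≠ j := Fin.succAbove_ne j i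
    by_cases hi : i ∈ L <;> simp [this, hi, Finset.piecewise]

/-- a non-scalar cofactor gives a pattern on at least two factors -/
theorem pattern_of_nonscalar (hd : (2 : F) ≠ 0 ∨ ((2 : F) = 0 ∧ 2 ≤ n)) (hB : HasSBase M) {j : Fin (s + 1)}
    {Z : Matrix (Fin s → Ix n) (Fin s → Ix n) F} (hZ : Z ∈ smallS M j) (hne : ∀ c : F, Z ≠ c • 1) :
    ∃ (T : Finset (Fin (s + 1))) (κ : Fin (s + 1) → Ix n) (c : F), 2 ≤ T.card ∧ c ≠ 0 ∧ (∀ l, κ l ≠ 1) ∧
      Mem1 M (pat T κ c) := by
  obtain ⟨T, κ, c, h1, h2, h3, -, h4⟩ := pattern_with_root hd hB hZ hne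
  exact ⟨T, κ, c, h1, h2, h3, h4⟩

end CfsgLib.Perm.Trans.TensorPowerSp
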