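import Cfsg.Agent.Lib.Perm.Trans.TensorPowerSp.TwoPair
import Cfsg.Agent.Lib.Perm.Trans.TensorPower.TwoMain

/-!
# Characteristic two: the overgroup lies in the wreath subgroup
-/

set_option autoImplicit false
set_option linter.all false

namespace CfsgLib.Perm.Trans.TensorPowerSp

open scoped Matrix
open Matrix Cfsg.Geo CfsgLib.Perm.Asch CfsgLib.Perm.Trans CfsgLib.Perm.Trans.TensorPower

variable {F : Type*} [Field F] {n s t : ℕ}

/-- the factors of a pure isometry are similitudes -/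
theorem exists_sim {π : Equiv.Perm (Fin t)} {A : Fin t → GL (Ix n) F}
    (h : permGL π * pureGL A ∈ uT n t F) (l : Fin t) :
    ∃ ν : F, ν ≠ 0 ∧
      (A l : Matrix (Ix n) (Ix n) F) * adj (e1 n F) (s1 n) (A l : Matrix (Ix n) (Ix n) F) = ν • 1 := by
  have h1 : pureGL A ∈ uT n t F := by
    have := mul_mem (inv_mem (permGL_mem_uT π)) h
    rwa [inv_mul_cancel_left] at this
  rw [mem_uSub, pureGL_coe, adj_pure, pure_mul, ← pure_one] at h1
  haveI : Nonempty (Ix n) := ⟨0⟩
  obtain ⟨ν, hν, e⟩ := pure_prop h1 (fun k e => gl_ne_zero (A k) (by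
    have ee := congrArg (((A k)⁻¹ : GL (Ix n) F).val * ·) e
    simp only [Pi.mul_apply, ← mul_assoc, gl_inv_mul, one_mul, mul_zero] at ee
    rw [← adj_adj sg1 (A k : Matrix (Ix n) (Ix n) F), ee, adj_zero])) (fun _ => one_ne_zero) l
  exact ⟨ν, hν, e⟩

/-- an involutive similitude is an isometry -/
theorem sim_inv_mem (h2 : (2 : F) = 0) {B A : GL (Ix n) F} {ν c : F}
    (hc : c ≠ 0) (hA : A * A = 1) (hBA : (B : Matrix (Ix n) (Ix n) F) = c • (A : Matrix (Ix n) (Ix n) F))
    (hB : (B : Matrix (Ix n) (Ix n) F) * adj (e1 n F) (s1 n) (B : Matrix (Ix n) (Ix n) F) = ν • 1) :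
    A ∈ u1 n F := by
  rw [hBA, adj_smul, Matrix.smul_mul, Matrix.mul_smul, smul_smul] at hB
  obtain ⟨μ, hμ⟩ : ∃ μ : F, μ = ν / (c * c) := ⟨_, rfl⟩
  have hcc : c * c ≠ 0 := mul_ne_zero hc hc
  have h1 : (A : Matrix (Ix n) (Ix n) F) * adj (e1 n F) (s1 n) (A : Matrix (Ix n) (Ix n) F) = μ • 1 := by
    have := congrArg ((c * c)⁻¹ • ·) hB
    simp only [smul_smul, inv_mul_cancel₀ hcc, one_smul] at this
    rw [this, hμ, div_eq_mul_inv, mul_comm]
  have hAA : (A : Matrix (Ix n) (Ix n) F) * (A : Matrix (Ix n) (Ix n) F) = 1 := by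
    rw [← Units.val_mul, hA, Units.val_one]
  have h3 : adj (e1 n F) (s1 n) (A : Matrix (Ix n) (Ix n) F) = μ • (A : Matrix (Ix n) (Ix n) F) := by
    have := congrArg ((A : Matrix (Ix n) (Ix n) F) * ·) h1
    simpa only [← mul_assoc, hAA, one_mul, Matrix.mul_smul, mul_one] using this
  have h4 := congrArg (adj (e1 n F) (s1 n)) h3
  rw [adj_adj sg1, adj_smul, h3, smul_smul] at h4
  haveI : Nonempty (Ix n) := ⟨0⟩
  have h5 : μ * μ = 1 :=
    smul_left_injective F (gl_ne_zero A) (h4.symm.trans (one_smul F _).symm)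
  rw [mem_uSub, h1, eq_one_of_mul_self h2 h5, one_smul]

theorem mat_rank_add_le {ι : Type} [Fintype ι] [DecidableEq ι] (X Y : Matrix ι ι F) :
    (X + Y).rank ≤ X.rank + Y.rank := by
  rw [Matrix.rank, Matrix.rank, Matrix.rank, Matrix.mulVecLin_add]
  refine le_trans (Submodule.finrank_mono ?_) (Submodule.finrank_add_le_finrank_add_finrank _ _)
  rintro _ ⟨x, rfl⟩
  exact Submodule.add_mem_sup (LinearMap.mem_range_self X.mulVecLin x) (LinearMap.mem_range_self Y.mulVecLin x)

/-- the two slots of the chosen element -/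
def vp (n s : ℕ) (F : Type*) [Field F] (l : Fin (s + 1)) : GL (Ix n) F :=
  if l = 0 ∨ l = Fin.last s then rt n 1 else 1

theorem vp_mem (l : Fin (s + 1)) : vp n s F l ∈ u1 n F := by
  unfold vp
  split_ifs
  exacts [rt_mem 1, one_mem _]

theorem vp_sq (h2 : (2 : F) = 0) (l : Fin (s + 1)) : vp n s F l * vp n s F l = 1 := by
  unfold vp
  split_ifs
  exacts [(rt_stv one_ne_zero).isTv.sq h2, one_mul 1]

theorem vp_eq (hs : 1 ≤ s) : pureGL (vp n s F) = sl 0 (rt n 1) * sl (Fin.last s) (rt n 1) := by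
  rw [sl_eq_pureGL, sl_eq_pureGL, pureGL_mul]
  congr 1
  have h0 : (0 : Fin (s + 1)) ≠ Fin.last s := fun e => by
    have := congrArg Fin.val e
    simp at this
    omega
  funext l
  rcases eq_or_ne l 0 with rfl | hl
  · simp [vp, Pi.mulSingle_eq_of_ne h0]
  rcases eq_or_ne l (Fin.last s) with rfl | hl'
  · simp [vp, Pi.mulSingle_eq_of_ne h0.symm]
  simp [vp, hl, hl', Pi.mulSingle_eq_of_ne hl, Pi.mulSingle_eq_of_ne hl']

variable [Fintype F] {M : Subgroup (GL (Fin (s + 1) → Ix n) F)}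

local notation "BMat" => Matrix (Fin (s + 1) → Ix n) (Fin (s + 1) → Ix n) F

theorem SCtx.pv_mem (h : SCtx M) : pureGL (vp n s F) ∈ M := h.base.pure_mem _ vp_mem

/-- the centraliser of the chosen element -/
theorem SCtx.vp_centraliser (h : SCtx M) (hin : InnerS n s F) (h2 : (2 : F) = 0) (hn : 2 ≤ n) (hs : 1 ≤ s)
    {k : GL (Fin (s + 1) → Ix n) F} (hk : k ∈ M)
    (hkz : k * pureGL (vp n s F) = pureGL (vp n s F) * k) :
    k ∈ tensorWreathStandard (2 * n + 2) (s + 1) F := by
  rw [vp_eq hs] at hkz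
  exact h.pair_two hin h2 hn (fun e => by
    have := congrArg Fin.val e
    simp at this
    omega) (rt_stv one_ne_zero) (rt_stv one_ne_zero) hk hkz

/-- a two-subgroup containing the chosen element lies in the wreath subgroup -/
theorem SCtx.pv_le (h : SCtx M) (hin : InnerS n s F) (h2 : (2 : F) = 0) (hn : 2 ≤ n) (hs : 1 ≤ s)
    {Q : Subgroup (GL (Fin (s + 1) → Ix n) F)} (hQ : IsPGroup 2 Q) (hQM : Q ≤ M)
    (hvQ : pureGL (vp n s F) ∈ Q) : Q ≤ tensorWreathStandard (2 * n + 2) (s + 1) F := by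
  classical
  haveI : Fact (Nat.Prime 2) := ⟨Nat.prime_two⟩
  haveI := hQ.isNilpotent
  haveI : Nonempty (Ix n) := ⟨0⟩
  set v := pureGL (vp n s F) with hv
  set H : Subgroup Q := (tensorWreathStandard (2 * n + 2) (s + 1) F).subgroupOf Q with hH
  by_cases htop : H = ⊤
  · exact Subgroup.subgroupOf_eq_top.1 htop
  exfalso
  have hlt := Group.normalizerCondition_of_isNilpotent H (lt_top_iff_ne_top.2 htop)
  obtain ⟨k, hk, hnH⟩ := SetLike.exists_of_lt hlt
  have h1 : k * ⟨v, hvQ⟩ * k⁻¹ ∈ H :=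
    (Subgroup.mem_normalizer_iff.1 hk ⟨v, hvQ⟩).1 (show v ∈ tensorWreathStandard (2 * n + 2) (s + 1) F from pure_mem_tw _)
  obtain ⟨π, B, hw⟩ := tw_shape (show (k : GL (Fin (s + 1) → Ix n) F) * v *
    (k : GL (Fin (s + 1) → Ix n) F)⁻¹ ∈ _ from h1)
  set g : GL (Fin (s + 1) → Ix n) F := (k : GL (Fin (s + 1) → Ix n) F) with hg
  have hgM : g ∈ M := hQM k.2
  have hvv : v * v = 1 := pure_sq_one fun l => vp_sq h2 l
  have hww : permGL π * pureGL B * (permGL π * pureGL B) = 1 := by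
    rw [← hw, show g * v * g⁻¹ * (g * v * g⁻¹) = g * (v * v) * g⁻¹ by group, hvv]; group
  have hπ : π * π = 1 := by
    have hp : HasPerm (permGL π * pureGL B * (permGL π * pureGL B)) (π * π) := HasPerm.mul ⟨B, rfl⟩ ⟨B, rfl⟩
    rw [hww, ← pureGL_one] at hp
    exact hp.unique (by omega) (hasPerm_pure 1)
  by_cases hfix : ∃ f, π f = f
  · obtain ⟨f, hf⟩ := hfix
    have hsq : pureGL ((B ∘ π) * B) = (1 : GL (Fin (s + 1) → Ix n) F) := by
      rwa [mul_assoc, ← mul_assoc (pureGL B), pureGL_perm, ← mul_assoc, ← mul_assoc, permGL_mul, hπ, permGL_one,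
        one_mul, pureGL_mul] at hww
    have h3 := congrArg Units.val (hsq.trans pureGL_one.symm)
    rw [pureGL_coe, pureGL_coe] at h3
    obtain ⟨c, hc0, hc⟩ := pure_prop h3 (fun k => gl_ne_zero _) (fun k => gl_ne_zero _) f
    simp only [Pi.mul_apply, Function.comp_apply, hf, Units.val_mul, Pi.one_apply, Units.val_one] at hc
    obtain ⟨s', A', hs', hA', hBA⟩ := exists_involutive h2 hc0 hc
    obtain ⟨ν, -, hνB⟩ := exists_sim (hw ▸ h.le (M.mul_mem (M.mul_mem hgM h.pv_mem) (M.inv_mem hgM))) f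
    obtain ⟨b, hb, hcom, -⟩ := exists_commuting_utv (show 1 ≤ n by omega) h2 (sim_inv_mem h2 hs' hA' hBA hνB) hA'
    have hroot : IsSRoot (sl f b : GL (Fin (s + 1) → Ix n) F) := hb.root f
    have hcm : permGL π * pureGL B * sl f b = sl f b * (permGL π * pureGL B) := by
      refine wreath_comm fun l => ?_
      rcases eq_or_ne l f with rfl | hl
      · rw [hf, Pi.mulSingle_eq_same]
        refine Units.ext ?_
        have h4 := congrArg Units.val hcom
        rw [Units.val_mul, Units.val_mul] at h4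
        rw [Units.val_mul, Units.val_mul, hBA, Matrix.smul_mul, Matrix.mul_smul, h4]
      · have hl' : π l ≠ f := fun e => hl (π.injective (e.trans hf.symm))
        rw [Pi.mulSingle_eq_of_ne hl, Pi.mulSingle_eq_of_ne hl', one_mul, mul_one]
    rw [← hw] at hcm
    have hc' : g⁻¹ * sl f b * g * v = v * (g⁻¹ * sl f b * g) := by
      calc g⁻¹ * sl f b * g * v = g⁻¹ * (sl f b * (g * v * g⁻¹)) * g := by group
        _ = g⁻¹ * (g * v * g⁻¹ * sl f b) * g := by rw [hcm]
        _ = v * (g⁻¹ * sl f b * g) := by group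
    have htw := h.vp_centraliser hin h2 hn hs (M.mul_mem (M.mul_mem (M.inv_mem hgM) (hroot.mem h.base)) hgM) hc'
    have hgi : g⁻¹ ∈ tensorWreathStandard (2 * n + 2) (s + 1) F :=
      h.fusion hin hroot (M.inv_mem hgM) (h.cls hroot (M.inv_mem hgM) (by rwa [inv_inv]))
    exact hnH ((Subgroup.inv_mem_iff _).1 hgi)
  · push Not at hfix
    obtain ⟨N, hN, hNu, -⟩ := perm_rank (F := F) (show 0 < 2 * n + 2 by omega) (show 0 < s + 1 by omega) h2 hπ hfix
    have hrk : (((g * v * g⁻¹ : GL (Fin (s + 1) → Ix n) F) : BMat) - 1).rank =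
        ((v : GL (Fin (s + 1) → Ix n) F).val - 1).rank := by
      rw [← cj_coe, ← cj_one g, ← cj_sub, rank_cj, cj_one]
    rw [hw, rank_free (by omega) h2 hπ hfix hww] at hrk
    have hτ : ∀ i : Fin (s + 1), (((sl i (rt n 1) : GL (Fin (s + 1) → Ix n) F) : BMat) - 1).rank =
        (2 * n + 2) ^ s := fun i => by
      rw [sl_coe, ← slot_one i, ← slot_sub, rank_slot (show 0 < 2 * n + 2 by omega), (rt_stv one_ne_zero).isTv.rank,
        one_mul, Nat.add_sub_cancel]
    have hle : ((v : GL (Fin (s + 1) → Ix n) F).val - 1).rank ≤ (2 * n + 2) ^ s + (2 * n + 2) ^ s := by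
      rw [hv, vp_eq hs, Units.val_mul,
        show (sl 0 (rt n 1) : GL (Fin (s + 1) → Ix n) F).val * (sl (Fin.last s) (rt n 1)).val - 1 =
          ((sl 0 (rt n 1) : GL (Fin (s + 1) → Ix n) F).val - 1) +
            (sl 0 (rt n 1) : GL (Fin (s + 1) → Ix n) F).val * ((sl (Fin.last s) (rt n 1)).val - 1) by
          rw [mul_sub, mul_one]; abel]
      refine (mat_rank_add_le _ _).trans (Nat.add_le_add (hτ 0).le ?_)
      exact (Matrix.rank_mul_le_right _ _).trans (hτ _).le
    rw [hrk] at hN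
    obtain ⟨X, hX⟩ : ∃ X, X = (2 * n + 2) ^ s := ⟨_, rfl⟩
    have hXm : 2 * n + 2 ≤ X := hX ▸ Nat.le_self_pow (by omega) _
    rw [pow_succ, ← hX] at hN hNu
    rw [← hX] at hle
    have h6 : 6 * X ≤ X * (2 * n + 2) := by rw [mul_comm 6]; exact Nat.mul_le_mul_left X (by omega)
    have hlow : X * (2 * n + 2) ≤ N + 4 * X := by omega
    have hN1 : X ≤ N := by omega
    have h7 : X * (2 * n + 2) < N * N := by
      have : 2 * X ≤ N := by omega
      nlinarith
    omega

/-- the involution attached to a root of one factor and the chosen element -/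
theorem SCtx.twist_centraliser (h : SCtx M) (hin : InnerS n s F) (h2 : (2 : F) = 0) (hn : 2 ≤ n) (hs : 1 ≤ s)
    {k : Fin (s + 1)} {b' : GL (Ix n) F} (hb' : IsSTv b')
    (hc : vp n s F k * b' = b' * vp n s F k) {y : GL (Fin (s + 1) → Ix n) F} (hy : y ∈ M)
    (hyz : y * (pureGL (vp n s F) * sl k b') = pureGL (vp n s F) * sl k b' * y) :
    y ∈ tensorWreathStandard (2 * n + 2) (s + 1) F := by
  classical
  set A := Function.update (vp n s F) k (vp n s F k * b') with hAdef
  rw [pureGL_mul_sl] at hyz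
  have hA : ∀ l, A l * A l = 1 := fun l => by
    rcases eq_or_ne l k with rfl | hl
    · rw [hAdef, Function.update_self, show vp n s F l * b' * (vp n s F l * b') = vp n s F l * (b' * vp n s F l) * b' by
        group, ← hc, show vp n s F l * (vp n s F l * b') * b' = vp n s F l * vp n s F l * (b' * b') by group, vp_sq h2,
        hb'.isTv.sq h2, one_mul]
    · rw [hAdef, Function.update_of_ne hl]; exact vp_sq h2 l
  have hAu : ∀ l, A l ∈ u1 n F := fun l => by
    rcases eq_or_ne l k with rfl | hl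
    · rw [hAdef, Function.update_self]; exact mul_mem (vp_mem l) hb'.u1_mem
    · rw [hAdef, Function.update_of_ne hl]; exact vp_mem l
  obtain ⟨j, hjk, hj⟩ : ∃ j : Fin (s + 1), j ≠ k ∧ vp n s F j = rt n 1 := by
    by_cases hk0 : k = 0
    · refine ⟨Fin.last s, fun e => ?_, by simp [vp]⟩
      have := congrArg Fin.val (e.trans hk0)
      simp at this
      omega
    · exact ⟨0, Ne.symm hk0, by simp [vp]⟩
  haveI : Nontrivial (Fin (s + 1)) := Fin.nontrivial_iff_two_le.2 (by omega)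
  obtain ⟨i, hij⟩ := exists_ne j
  obtain ⟨b'', hb'', hcom, hne⟩ := exists_commuting_utv (show 1 ≤ n by omega) h2 (hAu i) (hA i)
  have hAj : A j = rt n 1 := by rw [hAdef, Function.update_of_ne hjk, hj]
  refine h.gen_two hin h2 hn hA (h.base.pure_mem A hAu) hij hb'' (rt_stv one_ne_zero) hcom (by rw [hAj]) hne ?_ hy hyz
  rw [hAj, (rt_stv one_ne_zero).isTv.sq h2, Units.val_one, sub_self, Matrix.rank_zero]
  exact sub_one_ne hne

/-- characteristic two: the overgroup lies in the wreath subgroup -/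
theorem SCtx.main_two (h : SCtx M) (hin : InnerS n s F) (h2 : (2 : F) = 0) (hn : 2 ≤ n) (hs : 1 ≤ s) :
    M ≤ tensorWreathStandard (2 * n + 2) (s + 1) F := by
  classical
  intro g hg
  set r : GL (Fin (s + 1) → Ix n) F := sl 0 (rt n 1) with hrdef
  have hr : IsSRoot r := by rw [hrdef]; exact (rt_stv one_ne_zero).root 0
  suffices hy : g * r * g⁻¹ ∈ tensorWreathStandard (2 * n + 2) (s + 1) F from h.fusion hin hr hg (h.cls hr hg hy)
  by_contra hy
  set y := g * r * g⁻¹ with hydef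
  have hyM : y ∈ M := M.mul_mem (M.mul_mem hg (hr.mem h.base)) (M.inv_mem hg)
  have hyy : y * y = 1 := by
    rw [hydef, show g * r * g⁻¹ * (g * r * g⁻¹) = g * (r * r) * g⁻¹ by group, hr.sq h2]; group
  set v : GL (Fin (s + 1) → Ix n) F := pureGL (vp n s F) with hv
  have hvv : v * v = 1 := pure_sq_one fun l => vp_sq h2 l
  have hvM : v ∈ M := h.pv_mem
  have hvtw : v ∈ tensorWreathStandard (2 * n + 2) (s + 1) F := pure_mem_tw _
  have hnr : ¬ IsSRoot v := fun hroot => by
    obtain ⟨l, C, hC, hl⟩ := hroot.isRoot.exists_tv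
    rw [hv, sl_eq_pureGL] at hl
    haveI : Nontrivial (Fin (s + 1)) := Fin.nontrivial_iff_two_le.2 (by omega)
    obtain ⟨p, hp, hpv⟩ : ∃ p : Fin (s + 1), p ≠ l ∧ vp n s F p = rt n 1 := by
      by_cases hl0 : l = 0
      · refine ⟨Fin.last s, fun e => ?_, by simp [vp]⟩
        have := congrArg Fin.val (e.trans hl0)
        simp at this
        omega
      · exact ⟨0, Ne.symm hl0, by simp [vp]⟩
    have := pureGL_inj (by omega) h2 (fun q => vp_sq h2 q) (fun q => by
      rcases eq_or_ne q l with rfl | hq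
      · simpa using hC.sq h2
      · simp [Pi.mulSingle_eq_of_ne hq]) hl p
    rw [Pi.mulSingle_eq_of_ne hp] at this
    exact (rt_stv one_ne_zero).isTv.ne_one (hpv.symm.trans this)
  have hnc : ∀ a ∈ M, a * y * a⁻¹ ≠ v := fun a ha e => hnr (by
    have e' : a * g * r * (a * g)⁻¹ = v := by rw [← e, hydef]; group
    rw [← e'] at hvtw ⊢
    exact h.cls hr (M.mul_mem ha hg) hvtw)
  obtain ⟨e, g0, c, he, hg0, hcM, hord, hconj, -, hinv, hcomm⟩ := dihedral_data M hvv hyy hvM hyM hnc
  have hP := h.pv_le hin h2 hn hs (dihedral_pgroup hvv hord hinv)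
    (sup_le (Subgroup.zpowers_le.2 hg0) (Subgroup.zpowers_le.2 hvM))
    (Subgroup.mem_sup_right (Subgroup.mem_zpowers v))
  have hg0tw : g0 ∈ tensorWreathStandard (2 * n + 2) (s + 1) F :=
    hP (Subgroup.mem_sup_left (Subgroup.mem_zpowers g0))
  have hr' : v * g0 = c⁻¹ * g * r * (c⁻¹ * g)⁻¹ := by
    rw [show c⁻¹ * g * r * (c⁻¹ * g)⁻¹ = c⁻¹ * y * c by rw [hydef]; group, ← hconj]; group
  have hroot : IsSRoot (v * g0) := by
    have hmem : v * g0 ∈ tensorWreathStandard (2 * n + 2) (s + 1) F := mul_mem hvtw hg0tw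
    rw [hr'] at hmem ⊢
    exact h.cls hr (M.mul_mem (M.inv_mem hcM) hg) hmem
  obtain ⟨k, u', hu', c', hu0', hc0', hk⟩ := hroot
  set b' := utv u' hu' c' with hb'def
  have hb' : IsSTv b' := ⟨u', hu', c', hu0', hc0', rfl⟩
  have hg0eq : g0 = v * sl k b' := by rw [← hk, ← mul_assoc, hvv, one_mul]
  set m := 2 ^ (e - 1) with hme
  have hgn : g0 ^ m * g0 ^ m = 1 := by
    rw [← pow_add, hme, ← two_mul, ← pow_succ', Nat.sub_add_cancel he, ← hord, pow_orderOf_eq_one]
  have hgn1 : g0 ^ m ≠ 1 := fun hcon => by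
    have := orderOf_dvd_of_pow_eq_one hcon
    rw [hord, hme, Nat.pow_dvd_pow_iff_le_right (by norm_num)] at this
    omega
  rcases Nat.eq_or_lt_of_le he with he1 | he1
  · subst he1
    rw [hme, Nat.sub_self, pow_zero, pow_one] at hgn
    rw [hme, Nat.sub_self, pow_zero, pow_one] at hcomm
    refine hy (h.twist_centraliser hin h2 hn hs (k := k) hb' ?_ hyM ?_)
    · have hvr : v * sl k b' = sl k b' * v := by
        have h3 : (v * sl k b') * (v * sl k b') = 1 := by rw [← hg0eq]; exact hgn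
        have hb2 : sl (F := F) k b' * sl k b' = 1 := by rw [sl_mul, hb'.isTv.sq h2, sl_one]
        calc v * sl k b' = v * sl k b' * (v * sl k b') * (v * sl k b')⁻¹ := by group
          _ = (sl k b')⁻¹ * v⁻¹ := by rw [h3, one_mul, _root_.mul_inv_rev]
          _ = sl k b' * v := by rw [inv_eq_of_mul_eq_one_right hb2, inv_eq_of_mul_eq_one_right hvv]
      have h4 : sl (F := F) k (vp n s F k * b' * (vp n s F k)⁻¹) = sl k b' := by
        have h5 := TensorPower.conj_sl (1 : Equiv.Perm (Fin (s + 1))) (vp n s F) k b'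
        rw [permGL_one, one_mul, Equiv.Perm.one_apply, ← hv, hvr, mul_inv_cancel_right] at h5
        exact h5.symm
      have h6 := sl_inj (by omega) h4
      conv_rhs => rw [← h6]
      rw [inv_mul_cancel_right]
    · rw [← hv, ← hg0eq]; exact hcomm.symm
  · have hpow : g0 ^ m = sl k ((vp n s F k * b') ^ m) := by
      rw [hg0eq, hv, pureGL_mul_sl, pureGL_pow, sl_eq_pureGL]
      congr 1
      funext l
      rcases eq_or_ne l k with rfl | hl
      · simp
      · rw [Pi.pow_apply, Function.update_of_ne hl, Pi.mulSingle_eq_of_ne hl, hme,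
          show e - 1 = (e - 2) + 1 by omega, pow_succ', pow_mul, pow_two, vp_sq h2, one_pow]
    rw [hpow, sl_mul, ← sl_one k] at hgn
    rw [hpow] at hgn1
    refine hy (h.single_two hin h2 hn hyM (i := k) (pow_mem (mul_mem (vp_mem k) (hb'.u1_mem)) m)
      (sl_inj (by omega) hgn) (fun e' => hgn1 (by rw [e', sl_one])) ?_)
    rw [← hpow]
    exact hcomm.symm

end CfsgLib.Perm.Trans.TensorPowerSp
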