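import Cfsg.Agent.Lib.Perm.Trans.TensorPowerSp.Tiny
import Cfsg.Agent.Lib.Perm.Trans.TensorPowerSp.Odd
import Cfsg.Agent.Lib.Perm.Trans.TensorPowerSp.TwoMain

/-!
# The induction on the number of factors
-/

set_option autoImplicit false
set_option linter.all false

namespace CfsgLib.Perm.Trans.TensorPowerSp

open scoped Matrix
open Matrix Cfsg.Geo CfsgLib.Perm.Asch CfsgLib.Perm.Trans CfsgLib.Perm.Trans.TensorPower

/-- an overgroup of the base group and the permutations of the factors lies in the wreath subgroup -/
theorem le_twS {F : Type*} [Field F] [Fintype F] {n : ℕ} (s : ℕ) : InnerS n (s + 1) F := by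
  induction s with
  | zero => exact fun K _ g _ => tw_of_one (by omega) g
  | succ s ih =>
    intro K hK
    rcases Nat.eq_zero_or_pos n with rfl | hn
    · exact hK.tiny ih
    by_cases h2 : (2 : F) = 0
    · rcases hK.dich with h | ⟨-, hn2⟩
      · exact absurd h2 h
      · exact hK.main_two ih h2 hn2 (by omega)
    · exact hK.odd h2 ih hn

end CfsgLib.Perm.Trans.TensorPowerSp
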