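import Cfsg.Agent.Lib.Perm.Trans.TensorPowerSp.Main
import Cfsg.Agent.Lib.Perm.Trans.TensorPower.Max
import Cfsg.Agent.Lib.IsometryConj.Symplectic
import Cfsg.Agent.Lib.Perm.Elusive.SympPairs

/-!
# Maximality of the tensor wreath subgroup in the symplectic group
-/

set_option autoImplicit false
set_option linter.all false

namespace CfsgLib.Perm.Trans.TensorPowerSp

open scoped Matrix
open Matrix Cfsg.Geo CfsgLib.Perm.Asch CfsgLib.Perm.Trans CfsgLib.Perm.Trans.TensorPower

variable {F : Type*} [Field F] [Fintype F] {n t : ℕ}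

/-- an isometry moving a slot off every slot -/
theorem exists_outsideS (ht : 2 ≤ t) (hto : Odd t) :
    ∃ g ∈ uT n t F, g ∉ tensorWreathStandard (2 * n + 2) t F := by
  classical
  let i : Fin t := ⟨0, by omega⟩
  let x : Fin t → Ix n := fun _ => 0
  let y : Fin t → Ix n := fun _ => 1
  let y' : Fin t → Ix n := Function.update y i 0
  have h01 : (0 : Ix n) ≠ 1 := zero_ne_one'
  have hxy : x ≠ y := fun e => h01 (congrFun e i)
  set E : Matrix (Fin t → Ix n) (Fin t → Ix n) F := Matrix.single x y 1 with hE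
  have hEE : E * E = 0 := by rw [hE, Matrix.single_mul_single_of_ne (h := hxy.symm)]
  let g : GL (Fin t → Ix n) F := ⟨1 + E, 1 - E,
    by rw [add_mul, one_mul, mul_sub, mul_one, hEE, sub_zero, sub_add_cancel],
    by rw [sub_mul, one_mul, mul_add, mul_one, hEE, add_zero, add_sub_cancel_right]⟩
  have hgc : (g : Matrix (Fin t → Ix n) (Fin t → Ix n) F) = 1 + E := rfl
  have hsy : sT n t y = x := funext fun _ => s1_one
  have hsx : sT n t x = y := funext fun _ => s1_zero
  refine ⟨g, mem_of_one_add hgc hEE ?_, fun hg => ?_⟩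
  · rw [hE, adj_single sgT, hsy, hsx]
    simp [eT, x, y, e1_zero, e1_one, hto.neg_one_pow, ← Matrix.single_neg]
  obtain ⟨π, A, hA⟩ := tw_shape hg
  set S : Matrix (Fin t → Ix n) (Fin t → Ix n) F := sx i 1 0 with hS
  have hES : E * S = Matrix.single x y' 1 := by
    ext a b
    rw [hE, hS, mul_sx_apply, Matrix.single_apply, Matrix.single_apply]
    by_cases h1 : b i = 0
    · rw [if_pos h1]
      refine if_congr (and_congr_right' ⟨fun e => ?_, fun e => ?_⟩) rfl rfl
      · funext l
        rcases eq_or_ne l i with rfl | hl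
        · simp [y', h1]
        · simpa [y', y, hl] using congrFun e l
      · rw [← e]
        simp [y', y]
    · rw [if_neg h1, if_neg]
      rintro ⟨-, e⟩
      exact h1 (by rw [← e]; simp [y'])
  haveI : Nontrivial (Fin t) := Fin.nontrivial_iff_two_le.2 ht
  obtain ⟨l', hl'⟩ : ∃ l, l ≠ i := exists_ne _
  have hne : x l' ≠ y' l' := by simpa [x, y', y, hl'] using h01
  have hsl : cj (permGL π * pureGL A) S = slot (π i) (cj (A i) (Matrix.single 1 0 1)) := by
    rw [hS, sx, cj_wreath_slot]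
  rw [← hA, cj, inv_one_add hgc hEE, hgc] at hsl
  -- evaluation away from the slots
  have e1 : (S + E * S - S * E - E * S * E) x y' = (1 : F) := by
    have h1 : S x y' = 0 := by
      rw [hS, sx, slot_apply, if_neg (fun h => hne (h l' hl'))]
    have h2 : (S * E) x y' = 0 := by
      rw [hE, Matrix.mul_single_apply_of_ne]
      exact fun e => h01 (by simpa [y', y] using (congrFun e i))
    have h3 : (E * S * E) x y' = 0 := by
      rw [hE, Matrix.mul_single_apply_of_ne]
      exact fun e => h01 (by simpa [y', y] using (congrFun e i))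
    rw [Matrix.sub_apply, Matrix.sub_apply, Matrix.add_apply, h1, h2, h3, hES, Matrix.single_apply_same]
    ring
  rw [show (1 + E) * S * (1 - E) = S + E * S - S * E - E * S * E by noncomm_ring] at hsl
  rw [hsl, slot_apply] at e1
  by_cases hl : ∀ l, l ≠ π i → x l = y' l
  · by_cases hli : l' = π i
    · obtain ⟨l, hl1, hl2⟩ : ∃ l, l ≠ π i ∧ l ≠ i := by
        by_contra hcon
        push Not at hcon
        obtain ⟨r, hr⟩ := hto
        have : (Finset.univ : Finset (Fin t)) ⊆ {π i, i} := fun l _ => by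
          by_cases h : l = π i
          · simp [h]
          · simp [hcon l h]
        have := (Finset.card_le_card this).trans Finset.card_le_two
        rw [Finset.card_univ, Fintype.card_fin] at this
        omega
      exact h01 (by simpa [x, y', y, hl2] using hl l hl1)
    · exact hne (hl l' hli)
  · rw [if_neg hl] at e1
    exact zero_ne_one e1

/-- the tensor wreath subgroup is maximal in the isometries -/
theorem twS_maximal (h2 : (2 : F) ≠ 0) (hq : 1 ≤ n ∨ 3 < Fintype.card F) (ht : 2 ≤ t) (hto : Odd t) :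
    IsMaximalIn (uT n t F) (tensorWreathStandard (2 * n + 2) t F ⊓ uT n t F) := by
  refine ⟨lt_of_le_not_ge inf_le_right fun hle => ?_, fun M hHM hMK => ?_⟩
  · obtain ⟨g, hg, hgn⟩ := exists_outsideS (F := F) (n := n) ht hto
    exact hgn (hle hg).1
  by_cases hK : uT n t F ≤ M
  · exact Or.inr (le_antisymm hMK hK)
  refine Or.inl (le_antisymm (le_inf ?_ hMK) hHM)
  obtain ⟨s, rfl⟩ : ∃ s, t = s + 1 := ⟨t - 1, by omega⟩
  have hB : HasSBase M := fun A hA => hHM ⟨pure_mem_tw _, pureGL_mem_uT hA⟩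
  have hP : HasSPerms M := fun π => hHM ⟨perm_mem_tw _, permGL_mem_uT _⟩
  exact le_twS s M ⟨Or.inl h2, hq, hB, fun _ A hA => hHM ⟨pure_mem_tw _, hA⟩, fun _ => hP, hMK, scal_of_proper h2 hB hP hMK hto hK⟩

theorem glReindex_mulVecS {ι κ : Type} [Fintype ι] [DecidableEq ι] [Fintype κ] [DecidableEq κ] (e : ι ≃ κ)
    (g : GL κ F) (x : κ → F) :
    ((glReindex e.symm g : GL ι F) : Matrix ι ι F) *ᵥ (x ∘ e) = ((g : Matrix κ κ F) *ᵥ x) ∘ e := by
  funext a
  show ((g : Matrix κ κ F).submatrix e e *ᵥ (x ∘ e)) a = _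
  simp only [mulVec, dotProduct, Matrix.submatrix_apply, Function.comp_apply]
  exact Fintype.sum_equiv e _ _ fun b => rfl

/-- the dimension of a symplectic space is even -/
theorem even_of_symplectic (h2 : (2 : F) ≠ 0) {k : ℕ} {f₁ : (Fin k → F) → (Fin k → F) → F} (hf : IsSymplecticForm f₁) :
    Even k := by
  classical
  by_contra hk
  rw [Nat.not_even_iff_odd] at hk
  set G : Matrix (Fin k) (Fin k) F := gramMatrix f₁ with hG
  have hT : Gᵀ = -G := Matrix.ext fun a b => hf.skew _ _
  have hdet : G.det = 0 := by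
    have e : G.det = -G.det := by
      conv_lhs => rw [← Matrix.det_transpose, hT, Matrix.det_neg, Fintype.card_fin, hk.neg_one_pow, neg_one_mul]
    have : (2 : F) * G.det = 0 := by linear_combination e
    exact (mul_eq_zero.1 this).resolve_left h2
  obtain ⟨v, hv0, hv⟩ := Matrix.exists_mulVec_eq_zero_iff.2 hdet
  obtain ⟨w, hw⟩ := (hf.nondegenerate v hv0).1
  refine hw ?_
  have hb : ∀ x y : Fin k → F, f₁ x y = ∑ a, ∑ b, x a * G a b * y b := fun x y => by
    have e : ∀ z : Fin k → F, z = ∑ a, z a • (Pi.single a (1 : F) : Fin k → F) := fun z => pi_eq_sum_univ' z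
    show CfsgLib.Perm.Elusive.bilinMap hf.bilinear x y = _
    conv_lhs => rw [e x, e y]
    simp only [map_sum, map_smul, LinearMap.sum_apply, LinearMap.smul_apply, smul_eq_mul, Finset.mul_sum]
    rw [Finset.sum_comm]
    refine Finset.sum_congr rfl fun a _ => Finset.sum_congr rfl fun b _ => ?_
    simp only [CfsgLib.Perm.Elusive.bilinMap, LinearMap.mk₂_apply, hG, gramMatrix]
    ring
  rw [hb]
  refine Finset.sum_eq_zero fun a _ => ?_
  simp only [mul_assoc, ← Finset.mul_sum]
  rw [show ∑ b, G a b * v b = 0 from congrFun hv a, mul_zero]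

/-- coordinates in which the power of a symplectic form is standard -/
theorem exists_power_frameS {f₁ : (Ix n → F) → (Ix n → F) → F} (hf : IsSymplecticForm f₁) :
    ∃ D : GL (Ix n) F, ∀ x y : (Fin t → Ix n) → F,
      ∑ a, ∑ b, x a * (∏ i, gramMatrix f₁ (a i) (b i)) * y b =
        sform (eT n t F) (sT n t) ((pureGL (fun _ : Fin t => D) : GL (Fin t → Ix n) F).val *ᵥ x)
          ((pureGL (fun _ : Fin t => D) : GL (Fin t → Ix n) F).val *ᵥ y) := by
  classical
  have hs := sform1_symp (F := F) (n := n)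
  have hnd : ∀ {f : (Ix n → F) → (Ix n → F) → F} (hf : IsSymplecticForm f),
      (CfsgLib.Perm.Elusive.bilinMap hf.bilinear).Nondegenerate := fun {f} hf =>
    ⟨fun x hx => by
      by_contra hne
      obtain ⟨y, hy⟩ := (hf.nondegenerate x hne).2
      exact hy (hx y),
    fun x hx => by
      by_contra hne
      obtain ⟨y, hy⟩ := (hf.nondegenerate x hne).1
      exact hy (hx y)⟩
  obtain ⟨φ, hφ⟩ := CfsgLib.IsometryConj.exists_alt_iso (CfsgLib.Perm.Elusive.bilinMap hs.bilinear)
    (CfsgLib.Perm.Elusive.bilinMap hf.bilinear) (fun x => hs.alternating x) (fun x => hf.alternating x) (hnd hs) (hnd hf)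
  have hdet : (LinearMap.toMatrix' (φ : (Ix n → F) →ₗ[F] (Ix n → F))).det ≠ 0 := by
    rw [LinearMap.det_toMatrix']; exact (LinearEquiv.isUnit_det' φ).ne_zero
  set D : GL (Ix n) F := Matrix.GeneralLinearGroup.mkOfDetNeZero _ hdet with hD
  refine ⟨D, fun x y => ?_⟩
  have hG : ∀ a b, gramMatrix f₁ a b = ∑ c, (D : Matrix (Ix n) (Ix n) F) c a *
      (e1 n F c * (D : Matrix (Ix n) (Ix n) F) (s1 n c) b) := fun a b => by
    have := hφ (Pi.single a 1) (Pi.single b 1)
    rw [gramMatrix]
    refine this.symm.trans ?_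
    show sform (e1 n F) (s1 n) (φ (Pi.single a 1)) (φ (Pi.single b 1)) = _
    rw [sform, dotProduct]
    refine Finset.sum_congr rfl fun c _ => ?_
    simp only [dual, hD]
    show _ = LinearMap.toMatrix' (φ : (Ix n → F) →ₗ[F] (Ix n → F)) c a *
      (e1 n F c * LinearMap.toMatrix' (φ : (Ix n → F) →ₗ[F] (Ix n → F)) (s1 n c) b)
    simp [LinearMap.toMatrix'_apply, Pi.single_apply]
  set P := ((pureGL (fun _ : Fin t => D) : GL (Fin t → Ix n) F) : Matrix (Fin t → Ix n) (Fin t → Ix n) F) with hP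
  have hPa : ∀ a b, ∏ i, gramMatrix f₁ (a i) (b i) = ∑ c, P c a * (eT n t F c * P (sT n t c) b) := fun a b => by
    simp only [hG]
    rw [Fintype.prod_sum]
    refine Finset.sum_congr rfl fun c _ => ?_
    rw [hP, pureGL_coe, pure_apply, pure_apply, eT, ← Finset.prod_mul_distrib, ← Finset.prod_mul_distrib]
    rfl
  simp only [hPa, sform, dotProduct, dual, mulVec, Finset.mul_sum, Finset.sum_mul]
  rw [Finset.sum_comm]
  conv_rhs => rw [Finset.sum_comm]
  refine Finset.sum_congr rfl fun b _ => ?_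
  rw [Finset.sum_comm]
  refine Finset.sum_congr rfl fun a _ => Finset.sum_congr rfl fun c _ => ?_
  ring

/-- the statement in arbitrary coordinates -/
theorem symp_tensor_wreath_maximal {ι : Type} [Fintype ι] [DecidableEq ι] (h2 : (2 : F) ≠ 0)
    (hq : 1 ≤ n ∨ 3 < Fintype.card F) (ht : 2 ≤ t) (hto : Odd t) {f : (ι → F) → (ι → F) → F}
    {f₁ : (Ix n → F) → (Ix n → F) → F} (hf₁ : IsSymplecticForm f₁)
    (e : ι ≃ (Fin t → Ix n)) (P : GL ι F) (hT : IsTensorPowerFormStructure id f f₁ e P) :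
    IsMaximalIn (Symp.isoSub f) (tensorWreathSubgroup (2 * n + 2) t e P ⊓ Symp.isoSub f) := by
  classical
  obtain ⟨c, hc0, hT⟩ := hT
  simp only [id_eq] at hT
  obtain ⟨D, hD⟩ := exists_power_frameS (t := t) hf₁
  set Q : GL (Fin t → Ix n) F := pureGL fun _ => D with hQ
  set P' : GL ι F := P * glReindex e.symm Q⁻¹ with hP'
  have hform' : ∀ x y, f ((P' : Matrix ι ι F) *ᵥ (x ∘ e)) ((P' : Matrix ι ι F) *ᵥ (y ∘ e)) =
      c * sform (eT n t F) (sT n t) x y := fun x y => by
    rw [hP', Units.val_mul, ← mulVec_mulVec, ← mulVec_mulVec, glReindex_mulVecS, glReindex_mulVecS, hT, hD,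
      mulVec_mulVec, mulVec_mulVec, gl_mul_inv, one_mulVec, one_mulVec]
  set Φ : GL (Fin t → Ix n) F ≃* GL ι F := (glReindex e.symm).trans (MulAut.conj P') with hΦ
  have hΦv : ∀ g x, (Φ g : Matrix ι ι F) *ᵥ ((P' : Matrix ι ι F) *ᵥ (x ∘ e)) =
      (P' : Matrix ι ι F) *ᵥ (((g : Matrix (Fin t → Ix n) (Fin t → Ix n) F) *ᵥ x) ∘ e) := fun g x => by
    show ((P' * glReindex e.symm g * P'⁻¹ : GL ι F) : Matrix ι ι F) *ᵥ _ = _
    rw [Units.val_mul, Units.val_mul, ← mulVec_mulVec, ← mulVec_mulVec, mulVec_mulVec _ _ (P' : Matrix ι ι F),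
      gl_inv_mul, one_mulVec, glReindex_mulVecS]
  have hsurj : ∀ u : ι → F, ∃ x : (Fin t → Ix n) → F, u = (P' : Matrix ι ι F) *ᵥ (x ∘ e) := fun u =>
    ⟨(((P'⁻¹ : GL ι F) : Matrix ι ι F) *ᵥ u) ∘ e.symm, by
      rw [Function.comp_assoc, Equiv.symm_comp_self, Function.comp_id, mulVec_mulVec, gl_mul_inv, one_mulVec]⟩
  have hiso : ∀ g, Φ g ∈ Symp.isoSub f ↔ g ∈ uT n t F := by
    intro g
    rw [uT, ← isoSub_sform, Symp.mem_isoSub, Symp.mem_isoSub]
    constructor
    · intro hg x y
      have := hg ((P' : Matrix ι ι F) *ᵥ (x ∘ e)) ((P' : Matrix ι ι F) *ᵥ (y ∘ e))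
      rw [hΦv, hΦv, hform', hform'] at this
      exact mul_left_cancel₀ hc0 this
    · intro hg u v
      obtain ⟨x, rfl⟩ := hsurj u
      obtain ⟨y, rfl⟩ := hsurj v
      rw [hΦv, hΦv, hform', hform', hg]
  have hK : (uT n t F).map Φ.toMonoidHom = Symp.isoSub f := by
    ext g
    rw [Subgroup.mem_map_equiv, ← hiso, MulEquiv.apply_symm_apply]
  refine maximal_map Φ hK ?_ (twS_maximal h2 hq ht hto)
  rw [Subgroup.map_inf _ _ _ Φ.injective, hK]
  congr 1
  have hfix : (tensorWreathStandard (2 * n + 2) t F).map (MulAut.conj Q⁻¹).toMonoidHom =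
      tensorWreathStandard (2 * n + 2) t F := by
    have hQW : Q ∈ tensorWreathStandard (2 * n + 2) t F := pure_mem_tw _
    ext g
    rw [Subgroup.mem_map_equiv, MulAut.conj_symm_apply, inv_inv]
    constructor
    · intro hg
      have := mul_mem (mul_mem (inv_mem hQW) hg) hQW
      rwa [show Q⁻¹ * (Q * g * Q⁻¹) * Q = g by group] at this
    · exact fun hg => mul_mem (mul_mem hQW hg) (inv_mem hQW)
  rw [tensorWreathSubgroup]
  conv_rhs => rw [← hfix]
  rw [Subgroup.map_map, Subgroup.map_map]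
  congr 1
  refine MonoidHom.ext fun g => ?_
  show P' * glReindex e.symm g * P'⁻¹ = P * glReindex e.symm (Q⁻¹ * g * Q⁻¹⁻¹) * P⁻¹
  rw [inv_inv, hP', map_mul, map_mul, map_inv]
  group

end CfsgLib.Perm.Trans.TensorPowerSp
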