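import Cfsg.Agent.Lib.Perm.Trans.TensorPowerSp.TwoMain
import Cfsg.Agent.Lib.Perm.Trans.TensorSympMax

/-!
# The base group inside `Ω` of the quadratic form of a tensor power
-/

set_option autoImplicit false
set_option linter.all false

namespace CfsgLib.Perm.Trans.TensorPowerSp

open scoped Matrix
open Matrix Cfsg.Geo CfsgLib.Perm.Asch CfsgLib.Perm.Trans CfsgLib.Perm.Trans.TensorPower CfsgLib.Perm.Trans.Quad
open CfsgLib.Perm.Trans.TensorFrame (tvec)

variable {F : Type*} [Field F] {n s t : ℕ}

/-- a quadratic form polarising to the power of the standard form and vanishing on the basis -/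
structure TQ (n t : ℕ) {F : Type*} [Field F] (k : F) (Q : ((Fin t → Ix n) → F) → F) : Prop where
  nd : IsNondegenerateQuadraticForm Q
  k0 : k ≠ 0
  pol : ∀ x y, QuadraticMap.polar Q x y = k * sform (eT n t F) (sT n t) x y
  base : ∀ x, Q (Pi.single x 1) = 0
  par : (2 : F) = 0 ∨ Even t
  two : 2 ≤ t
  card : 5 ≤ Fintype.card (Fin t → Ix n)

/-- a tensor of a vector in slot `j` and a vector of the others -/
def tz (j : Fin (s + 1)) (x : Ix n → F) (w : (Fin s → Ix n) → F) : (Fin (s + 1) → Ix n) → F :=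
  fun z => x (z j) * w fun i => z (j.succAbove i)

theorem sum_split (j : Fin (s + 1)) {A : Type*} [AddCommMonoid A] (f : (Fin (s + 1) → Ix n) → A) :
    ∑ z, f z = ∑ a : Ix n, ∑ w : Fin s → Ix n, f (Fin.insertNth j a w) := by
  rw [← Fintype.sum_prod_type']
  exact (Fintype.sum_equiv (Fin.insertNthEquiv (fun _ => Ix n) j) (fun p => f (Fin.insertNth j p.1 p.2)) f
    fun p => rfl).symm

theorem sform_tz (j : Fin (s + 1)) (x x' : Ix n → F) (w w' : (Fin s → Ix n) → F) :
    sform (eT n (s + 1) F) (sT n (s + 1)) (tz j x w) (tz j x' w') =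
      sform (e1 n F) (s1 n) x x' * sform (eT n s F) (sT n s) w w' := by
  have hT : ∀ (a : Ix n) (v : Fin s → Ix n), sT n (s + 1) (Fin.insertNth j a v) j = s1 n a := fun a v => by
    show s1 n ((Fin.insertNth j a v : Fin (s + 1) → Ix n) j) = _
    rw [Fin.insertNth_apply_same]
  have hV : ∀ (a : Ix n) (v : Fin s → Ix n), (fun i => sT n (s + 1) (Fin.insertNth j a v) (j.succAbove i)) = sT n s v :=
    fun a v => funext fun i => by
      show s1 n ((Fin.insertNth j a v : Fin (s + 1) → Ix n) (j.succAbove i)) = _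
      rw [Fin.insertNth_apply_succAbove]; rfl
  simp only [sform, dotProduct, dual]
  rw [sum_split j, Finset.sum_mul_sum]
  refine Finset.sum_congr rfl fun a _ => Finset.sum_congr rfl fun v _ => ?_
  simp only [tz, Fin.insertNth_apply_same, Fin.insertNth_apply_succAbove, hT, hV, eT]
  rw [Fin.prod_univ_succAbove _ j]
  simp only [Fin.insertNth_apply_same, Fin.insertNth_apply_succAbove]
  ring

theorem single_tz (j : Fin (s + 1)) (z : Fin (s + 1) → Ix n) :
    (Pi.single z 1 : (Fin (s + 1) → Ix n) → F) = tz j (Pi.single (z j) 1) (Pi.single (fun i => z (j.succAbove i)) 1) := by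
  funext y
  simp only [tz, Pi.single_apply]
  by_cases h : y = z
  · subst h; simp
  rw [if_neg h]
  by_cases h1 : y j = z j
  · rw [if_pos h1, one_mul, if_neg]
    intro h2
    refine h (funext fun l => ?_)
    rcases Fin.eq_self_or_eq_succAbove j l with rfl | ⟨i, rfl⟩
    exacts [h1, congrFun h2 i]
  · rw [if_neg h1, zero_mul]

theorem ext_tz (j : Fin (s + 1)) {g h : GL (Fin (s + 1) → Ix n) F}
    (e : ∀ x w, g.val *ᵥ tz j x w = h.val *ᵥ tz j x w) : g = h :=
  Units.ext (Matrix.ext fun y z => by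
    have := congrFun (e (Pi.single (z j) 1) (Pi.single (fun i => z (j.succAbove i)) 1)) y
    rwa [← single_tz, mulVec_single_one, mulVec_single_one] at this)

theorem tz_add_left (j : Fin (s + 1)) (x x' : Ix n → F) (w : (Fin s → Ix n) → F) :
    tz j (x + x') w = tz j x w + tz j x' w := funext fun z => add_mul _ _ _

theorem tz_add_right (j : Fin (s + 1)) (x : Ix n → F) (w w' : (Fin s → Ix n) → F) :
    tz j x (w + w') = tz j x w + tz j x w' := funext fun z => mul_add _ _ _

theorem tz_smul_right (j : Fin (s + 1)) (c : F) (x : Ix n → F) (w : (Fin s → Ix n) → F) :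
    tz j x (c • w) = c • tz j x w := funext fun z => mul_left_comm _ _ _

theorem tz_smul_left (j : Fin (s + 1)) (c : F) (x : Ix n → F) (w : (Fin s → Ix n) → F) :
    tz j (c • x) w = c • tz j x w := funext fun z => mul_assoc _ _ _

theorem slot_mulVec_tz (j : Fin (s + 1)) (X : Matrix (Ix n) (Ix n) F) (x : Ix n → F) (w : (Fin s → Ix n) → F) :
    slot j X *ᵥ tz j x w = tz j (X *ᵥ x) w := by
  funext z
  simp only [mulVec, dotProduct, tz]
  rw [sum_split j, Finset.sum_mul]
  refine Finset.sum_congr rfl fun a _ => ?_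
  rw [Finset.sum_eq_single (fun i => z (j.succAbove i))]
  · rw [slot_apply, if_pos, Fin.insertNth_apply_same, mul_assoc]
    · simp only [Fin.insertNth_apply_succAbove]
    · intro l hl
      obtain ⟨i, rfl⟩ := (Fin.eq_self_or_eq_succAbove j l).resolve_left hl
      rw [Fin.insertNth_apply_succAbove]
  · intro v _ hv
    rw [slot_apply, if_neg, zero_mul]
    refine fun h => hv (funext fun i => ?_)
    have := h (j.succAbove i) (Fin.succAbove_ne j i)
    rwa [Fin.insertNth_apply_succAbove, eq_comm] at this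
  · simp

theorem emb_mulVec_tz (j : Fin (s + 1)) (X : Matrix (Fin s → Ix n) (Fin s → Ix n) F) (x : Ix n → F)
    (w : (Fin s → Ix n) → F) : emb j X *ᵥ tz j x w = tz j x (X *ᵥ w) := by
  funext z
  simp only [mulVec, dotProduct, tz]
  rw [sum_split j, Finset.sum_comm, Finset.mul_sum]
  refine Finset.sum_congr rfl fun v _ => ?_
  rw [Finset.sum_eq_single (z j)]
  · rw [emb_apply, Fin.insertNth_apply_same, if_pos rfl]
    simp only [Fin.insertNth_apply_succAbove]
    ring
  · intro a _ ha
    rw [emb_apply, Fin.insertNth_apply_same, if_neg ha.symm, zero_mul]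
  · simp

variable {k : F} {Q : ((Fin t → Ix n) → F) → F}

theorem TQ.sign (h : TQ n t k Q) : ((-1 : F) ^ t) = 1 := by
  rcases h.par with h2 | ht
  · rw [show (-1 : F) = 1 by linear_combination -h2, one_pow]
  · exact ht.neg_one_pow

/-- the form on the other factors is alternating -/
theorem wform_symp (hs : 1 ≤ s) (hp : ((-1 : F) ^ (s + 1)) = 1) : IsSymplecticForm (sform (eT n s F) (sT n s)) := by
  have hsg : Sg (eT n s F) (sT n s) (-1) := by
    have h1 : ((-1 : F) ^ s) = -1 := by rw [pow_succ] at hp; linear_combination -hp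
    have := sgT (F := F) (n := n) (t := s)
    rwa [h1] at this
  refine sform_symp_of_iso hsg (iso_of_free hsg.inv (fun x e => s1_ne _ (congrFun e ⟨0, hs⟩)) fun x => ?_)
  linear_combination (eT n s F x) * hsg.pr x - eT n s F (sT n s x) * hsg.sq x

theorem TQ.iso_le (h : TQ n t k Q) [Fintype F] : Cfsg.isometryGroup F Q ≤ uT n t F := fun g hg => by
  rw [uT, ← isoSub_sform, Symp.mem_isoSub]
  intro x y
  have := iso_pol hg x y
  rw [h.pol, h.pol] at this
  exact mul_left_cancel₀ h.k0 this

theorem TQ.q_eq_zero_of (h : TQ n t k Q) {v : (Fin t → Ix n) → F} {g : GL (Fin t → Ix n) F} (hg : g ∈ uT n t F)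
    (hb : ∀ x, Q (g.val *ᵥ Pi.single x 1) = 0) : Q (g.val *ᵥ v) = Q v := by
  classical
  have hp : ∀ x y, QuadraticMap.polar Q (g.val *ᵥ x) (g.val *ᵥ y) = QuadraticMap.polar Q x y := fun x y => by
    rw [h.pol, h.pol]
    congr 1
    rw [uT, ← isoSub_sform, Symp.mem_isoSub] at hg
    exact hg x y
  rw [pi_eq_sum_univ' v]
  induction (Finset.univ : Finset (Fin t → Ix n)) using Finset.induction_on with
  | empty => simp only [Finset.sum_empty, mulVec_zero]
  | @insert a S ha ih =>
    rw [Finset.sum_insert ha, mulVec_add, qadd h.nd, qadd h.nd, ih, hp, mulVec_smul, qsmul h.nd, qsmul h.nd, hb, h.base]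

/-- an isometry of the polar form fixing the values on the basis is an isometry -/
theorem TQ.mem_iso (h : TQ n t k Q) {g : GL (Fin t → Ix n) F} (hg : g ∈ uT n t F)
    (hb : ∀ x, Q (g.val *ᵥ Pi.single x 1) = 0) : g ∈ Cfsg.isometryGroup F Q :=
  Quad.mem_iso.2 fun v => h.q_eq_zero_of hg hb

variable {R : ((Fin (s + 1) → Ix n) → F) → F}

theorem TQ.wform (h : TQ n (s + 1) k R) : IsSymplecticForm (sform (eT n s F) (sT n s)) :=
  wform_symp (by have := h.two; omega) h.sign

/-- split off one factor -/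
noncomputable def eJ (j : Fin (s + 1)) : (Fin (s + 1) → Ix n) ≃ Fin (2 * n + 2) × Fin (Fintype.card (Fin s → Ix n)) :=
  (Fin.insertNthEquiv (fun _ => Ix n) j).symm.trans (Equiv.prodCongr (Equiv.refl _) (Fintype.equivFin _))

theorem tvec_eJ (j : Fin (s + 1)) (x : Ix n → F) (y : Fin (Fintype.card (Fin s → Ix n)) → F) :
    tvec (eJ j) (1 : GL (Fin (s + 1) → Ix n) F) x y = tz j x (y ∘ Fintype.equivFin _) := by
  rw [TensorFrame.tvec, Units.val_one, one_mulVec]
  rfl

theorem TQ.tz_pol (h : TQ n (s + 1) k R) (j : Fin (s + 1)) (x x' : Ix n → F) (w w' : (Fin s → Ix n) → F) :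
    QuadraticMap.polar R (tz j x w) (tz j x' w') =
      k * (sform (e1 n F) (s1 n) x x' * sform (eT n s F) (sT n s) w w') := by
  rw [h.pol, sform_tz]

/-- the form vanishes on tensors -/
theorem TQ.tz_zero (h : TQ n (s + 1) k R) (j : Fin (s + 1)) (x : Ix n → F) (w : (Fin s → Ix n) → F) :
    R (tz j x w) = 0 := by
  classical
  have hW := h.wform
  have h1 : ∀ (a : Ix n) (w : (Fin s → Ix n) → F), R (tz j (Pi.single a 1) w) = 0 := by
    intro a w
    rw [pi_eq_sum_univ' w]
    induction (Finset.univ : Finset (Fin s → Ix n)) using Finset.induction_on with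
    | empty =>
      rw [Finset.sum_empty, show tz j (Pi.single a 1) (0 : (Fin s → Ix n) → F) = 0 from funext fun z => mul_zero _,
        qzero h.nd]
    | @insert v S hv ih =>
      rw [Finset.sum_insert hv, tz_add_right, qadd h.nd, ih, h.tz_pol, sform1_symp.alternating, tz_smul_right,
        qsmul h.nd]
      have h3 := h.base (Fin.insertNth j a v)
      rw [single_tz j, Fin.insertNth_apply_same] at h3
      simp only [Fin.insertNth_apply_succAbove] at h3
      rw [h3]
      ring
  rw [pi_eq_sum_univ' x]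
  induction (Finset.univ : Finset (Ix n)) using Finset.induction_on with
  | empty =>
    rw [Finset.sum_empty, show tz j (0 : Ix n → F) w = 0 from funext fun z => zero_mul _, qzero h.nd]
  | @insert v S hv ih =>
    rw [Finset.sum_insert hv, tz_add_left, qadd h.nd, ih, h.tz_pol, hW.alternating, tz_smul_left, qsmul h.nd, h1]
    ring

theorem symp_transport {κ : Type} [Fintype κ] [DecidableEq κ] {N : ℕ} (φ : κ ≃ Fin N) {f : (κ → F) → (κ → F) → F}
    (hf : IsSymplecticForm f) : IsSymplecticForm fun y y' : Fin N → F => f (y ∘ φ) (y' ∘ φ) where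
  bilinear := ⟨fun x y v => hf.bilinear.add_left _ _ _, fun c x v => hf.bilinear.smul_left c _ _,
    fun v x y => hf.bilinear.add_right _ _ _, fun c v x => hf.bilinear.smul_right c _ _⟩
  skew v w := hf.skew _ _
  alternating v := hf.alternating _
  nondegenerate := by
    intro v hv
    have hv' : v ∘ φ ≠ 0 := fun e => hv (funext fun a => by simpa using congrFun e (φ.symm a))
    obtain ⟨⟨w, hw⟩, ⟨w', hw'⟩⟩ := hf.nondegenerate _ hv'
    exact ⟨⟨w ∘ φ.symm, by simpa [Function.comp_def] using hw⟩, ⟨w' ∘ φ.symm, by simpa [Function.comp_def] using hw'⟩⟩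

variable [Fintype F]

theorem TQ.sl_utv_omega (h : TQ n (s + 1) k R) (j : Fin (s + 1)) (u : Ix n → F) (c : F) :
    sl j (utv u (iso1 u) c) ∈ omegaGL R := by
  obtain ⟨g, hg, hgT⟩ := TensorSymp.exists_omega_map (e := eJ j) (P := (1 : GL _ F)) h.nd sform1_symp
    (symp_transport (Fintype.equivFin _) h.wform)
    (fun x y x' y' => by rw [tvec_eJ, tvec_eJ, h.tz_pol]) (fun x y => by rw [tvec_eJ, h.tz_zero]) h.k0 h.card u c
    LinearMap.id (fun y y' => rfl) (fun y => (symp_transport (Fintype.equivFin _) h.wform).alternating y)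
  suffices e : sl j (utv u (iso1 u) c) = g by rw [e]; exact hg
  refine ext_tz j fun x w => ?_
  have h1 := hgT x (w ∘ (Fintype.equivFin _).symm)
  rw [tvec_eJ, tvec_eJ, LinearMap.id_apply, Function.comp_assoc, Equiv.symm_comp_self, Function.comp_id] at h1
  rw [h1, ← tz_add_left, sl_coe, slot_mulVec_tz, utv_coe, add_mulVec, one_mulVec, Matrix.smul_mulVec, vecMulVec_mulVec,
    op_smul_eq_smul, smul_smul, sform, dotProduct_comm x]

theorem tvec_eJ' (j : Fin (s + 1)) (x : Fin (Fintype.card (Fin s → Ix n)) → F) (y : Ix n → F) :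
    tvec ((eJ j).trans (Equiv.prodComm _ _)) (1 : GL (Fin (s + 1) → Ix n) F) x y =
      tz j y (x ∘ Fintype.equivFin _) := by
  rw [← tvec_eJ]
  simp only [TensorFrame.tvec]
  congr 1
  funext i
  exact mul_comm _ _

theorem TQ.emb_stv_omega (h : TQ n (s + 1) k R) (j : Fin (s + 1)) (hW : IsSymplecticForm (sform (eT n s F) (sT n s)))
    (a : (Fin s → Ix n) → F) (l : F) : embGL j (Symp.stv hW a l) ∈ omegaGL R := by
  obtain ⟨g, hg, hgT⟩ := TensorSymp.exists_omega_map (e := (eJ j).trans (Equiv.prodComm _ _))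
    (P := (1 : GL (Fin (s + 1) → Ix n) F)) h.nd (symp_transport (Fintype.equivFin _) hW) (sform1_symp (n := n))
    (fun x y x' y' => by rw [tvec_eJ', tvec_eJ', h.tz_pol, mul_comm (sform (e1 n F) (s1 n) y y')])
    (fun x y => by rw [tvec_eJ', h.tz_zero]) h.k0 h.card (a ∘ (Fintype.equivFin _).symm) l
    LinearMap.id (fun y y' => rfl) (fun y => sform1_symp.alternating y)
  suffices e : embGL j (Symp.stv hW a l) = g by rw [e]; exact hg
  refine ext_tz j fun x w => ?_
  have h1 := hgT (w ∘ (Fintype.equivFin _).symm) x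
  simp only [tvec_eJ', LinearMap.id_apply, Function.comp_assoc, Equiv.symm_comp_self, Function.comp_id] at h1
  rw [h1, embGL_coe, emb_mulVec_tz, Symp.stv_mulVec, ← tz_add_right]
  congr 1
  funext i
  simp

/-- the factors are in `Ω` -/
theorem TQ.sl_omega (h : TQ n (s + 1) k R) (j : Fin (s + 1)) {A : GL (Ix n) F} (hA : A ∈ u1 n F) :
    sl j A ∈ omegaGL R := by
  let P : Subgroup (GL (Ix n) F) :=
  { carrier := {B | sl j B ∈ omegaGL R}
    one_mem' := by show sl j 1 ∈ omegaGL R; rw [sl_one]; exact one_mem _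
    mul_mem' := fun {a b} ha hb => by show sl j (a * b) ∈ omegaGL R; rw [← sl_mul]; exact mul_mem ha hb
    inv_mem' := fun {a} ha => by show sl j a⁻¹ ∈ omegaGL R; rw [sl_inv]; exact inv_mem ha }
  exact u1_le_of_utv (P := P) (fun u c => h.sl_utv_omega j u c) hA

/-- the isometries of the other factors are in `Ω` -/
theorem TQ.emb_omega (h : TQ n (s + 1) k R) (j : Fin (s + 1)) {B : GL (Fin s → Ix n) F} (hB : B ∈ uT n s F) :
    embGL j B ∈ omegaGL R := by
  have hW := h.wform
  have e := Symp.eq_isoSub hW (M := (omegaGL R).comap (embGL j) ⊓ Symp.isoSub (sform (eT n s F) (sT n s))) inf_le_right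
    fun u c => ⟨h.emb_stv_omega j hW u c, Symp.stv_iso _ u c⟩
  rw [uT, ← isoSub_sform, ← e] at hB
  exact hB.1

theorem TQ.pure_omega (h : TQ n (s + 1) k R) {A : Fin (s + 1) → GL (Ix n) F} (hA : ∀ l, A l ∈ u1 n F) :
    pureGL A ∈ omegaGL R := by
  classical
  suffices hS : ∀ S : Finset (Fin (s + 1)), pureGL (fun l => if l ∈ S then A l else 1) ∈ omegaGL R by
    simpa using hS Finset.univ
  intro S
  induction S using Finset.induction_on with
  | empty =>
    rw [show (fun l => if l ∈ (∅ : Finset (Fin (s + 1))) then A l else (1 : GL (Ix n) F)) = 1 by funext l; simp, pureGL_one]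
    exact one_mem _
  | @insert a S ha ih =>
    rw [show (fun l => if l ∈ insert a S then A l else (1 : GL (Ix n) F)) =
        Pi.mulSingle a (A a) * fun l => if l ∈ S then A l else 1 by
      funext l
      rcases eq_or_ne l a with rfl | hl
      · simp [ha]
      · simp [hl, Pi.mulSingle_eq_of_ne hl], ← pureGL_mul]
    exact mul_mem (h.sl_omega a (hA a)) ih

/-- the permutations of at least three factors are in `Ω` -/
theorem TQ.perm_omega (h : TQ n (s + 1) k R) (hs : 2 ≤ s) (π : Equiv.Perm (Fin (s + 1))) :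
    permGL (κ := Ix n) (F := F) π ∈ omegaGL R := by
  classical
  induction π using Equiv.Perm.swap_induction_on with
  | one => rw [permGL_one]; exact one_mem _
  | swap_mul f a b hab ih =>
    rw [← permGL_mul]
    refine mul_mem ?_ ih
    obtain ⟨j, hja, hjb⟩ : ∃ j : Fin (s + 1), j ≠ a ∧ j ≠ b := by
      obtain ⟨j, -, hj⟩ := Finset.exists_mem_notMem_of_card_lt_card (s := ({a, b} : Finset (Fin (s + 1))))
        (t := Finset.univ) (by
          have := Finset.card_le_two (a := a) (b := b)
          rw [Finset.card_univ, Fintype.card_fin]; omega)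
      exact ⟨j, fun e => hj (by simp [e]), fun e => hj (by simp [e])⟩
    obtain ⟨a', rfl⟩ := (Fin.eq_self_or_eq_succAbove j a).resolve_left hja.symm
    obtain ⟨b', rfl⟩ := (Fin.eq_self_or_eq_succAbove j b).resolve_left hjb.symm
    rw [← embGL_perm j (Equiv.swap a' b') _ (Equiv.swap_apply_of_ne_of_ne hja hjb) fun i =>
      (Fin.succAbove_right_injective (p := j)).swap_apply a' b' i]
    exact h.emb_omega j (permGL_mem_uT _)

/-- a pure isometry with one factor an isometry is in `Ω` -/
theorem TQ.pure_omega_of (h : TQ n (s + 1) k R) {A : Fin (s + 1) → GL (Ix n) F} (hA : pureGL A ∈ uT n (s + 1) F)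
    (j : Fin (s + 1)) (hj : A j ∈ u1 n F) : pureGL A ∈ omegaGL R := by
  have e : pureGL A = sl j (A j) * embGL j (pureGL fun i => A (j.succAbove i)) := by
    rw [embGL_pure, sl_eq_pureGL, pureGL_mul]
    congr 1
    funext l
    rcases Fin.eq_self_or_eq_succAbove j l with rfl | ⟨i, rfl⟩
    · simp
    · simp [Pi.mulSingle_eq_of_ne (Fin.succAbove_ne j i)]
  rw [e] at hA ⊢
  refine mul_mem (h.sl_omega j hj) (h.emb_omega j ((embGL_mem_iff j).1 ?_))
  have := mul_mem (inv_mem (sl_mem_uT j hj)) hA
  rwa [inv_mul_cancel_left] at this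

/-- the pure isometries of at least three factors are in `Ω` -/
theorem TQ.sim_omega (h : TQ n (s + 1) k R) (hs : 2 ≤ s) {A : Fin (s + 1) → GL (Ix n) F}
    (hA : pureGL A ∈ uT n (s + 1) F) : pureGL A ∈ omegaGL R := by
  classical
  have h0 : (0 : Fin (s + 1)) ≠ Fin.last s := fun e => by
    have := congrArg Fin.val e
    simp at this
    omega
  obtain ⟨ν, hν, hνA⟩ := exists_sim (π := 1) (A := A) (by rw [permGL_one, one_mul]; exact hA) (0 : Fin (s + 1))
  obtain ⟨D, hD⟩ : ∃ D : Fin (s + 1) → GL (Ix n) F, D = Function.update (Function.update (fun _ => 1) 0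
      (dS n (Units.mk0 ν hν))) (Fin.last s) (dS n (Units.mk0 ν hν)⁻¹) := ⟨_, rfl⟩
  obtain ⟨j', hj0, hjl⟩ : ∃ j : Fin (s + 1), j ≠ 0 ∧ j ≠ Fin.last s :=
    ⟨⟨1, by omega⟩, fun e => by simpa using congrArg Fin.val e, fun e => by
      have := congrArg Fin.val e
      simp at this
      omega⟩
  have hDu : pureGL D ∈ uT n (s + 1) F := by
    let μ : Fin (s + 1) → F := Function.update (Function.update (fun _ => 1) 0 ν) (Fin.last s) ν⁻¹
    have hDμ : ∀ l, (D l : Matrix (Ix n) (Ix n) F) * adj (e1 n F) (s1 n) (D l : Matrix (Ix n) (Ix n) F) = μ l • 1 := by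
      intro l
      rcases eq_or_ne l (Fin.last s) with rfl | hl
      · simp [hD, μ, dS_adj]
      rcases eq_or_ne l 0 with rfl | hl'
      · simp [hD, μ, hl, dS_adj]
      simp [hD, μ, hl, hl', adj_one sg1]
    rw [mem_uSub, pureGL_coe, adj_pure, pure_mul, show (fun l => (D l : Matrix (Ix n) (Ix n) F)) *
      (fun l => adj (e1 n F) (s1 n) (D l : Matrix (Ix n) (Ix n) F)) = fun l => μ l • 1 from funext hDμ, pure_smul]
    rw [show ∏ l, μ l = 1 by
      rw [Finset.prod_update_of_mem (Finset.mem_univ _), Finset.prod_update_of_mem (by simp [h0])]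
      simp [hν], one_smul]
    exact pure_one
  have h1 : pureGL D ∈ omegaGL R := h.pure_omega_of hDu j' (by
    rw [hD, Function.update_of_ne hjl, Function.update_of_ne hj0]; exact one_mem _)
  have h2 : pureGL (D⁻¹ * A) ∈ omegaGL R := by
    refine h.pure_omega_of ?_ 0 ?_
    · rw [← pureGL_mul, show pureGL D⁻¹ = (pureGL D : GL (Fin (s + 1) → Ix n) F)⁻¹ from
        eq_inv_of_mul_eq_one_left (by rw [pureGL_mul, inv_mul_cancel, pureGL_one])]
      exact mul_mem (inv_mem hDu) hA
    · rw [Pi.mul_apply, Pi.inv_apply, hD, Function.update_of_ne h0, Function.update_self, mem_uSub, Units.val_mul,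
        adj_mul sg1, mul_assoc, ← mul_assoc (A 0).val, hνA, Matrix.smul_mul, one_mul, Matrix.mul_smul]
      have h3 : ((dS n (Units.mk0 ν hν))⁻¹ : GL (Ix n) F) = dS n (Units.mk0 ν hν)⁻¹ := inv_eq_of_mul_eq_one_right (by
        refine Units.ext (Matrix.ext fun x y => ?_)
        simp only [Units.val_mul, dS, mono_coe, Matrix.mul_apply, Matrix.of_apply, Equiv.Perm.one_apply, Units.val_one]
        rw [Finset.sum_eq_single y (fun z _ hz => by simp [hz]) (by simp)]
        by_cases hxy : x = y
        · subst hxy; by_cases he : (x : ℕ) % 2 = 0 <;> simp [he, hν]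
        · simp [hxy])
      rw [h3, dS_adj, smul_smul, Units.val_inv_eq_inv_val, Units.val_mk0, mul_inv_cancel₀ hν, one_smul]
  have := mul_mem h1 h2
  rwa [pureGL_mul, mul_inv_cancel_left] at this

end CfsgLib.Perm.Trans.TensorPowerSp
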