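import Cfsg.Agent.Lib.Perm.Trans.TensorPower.Casimir
import Cfsg.Agent.Lib.Perm.Trans.TensorPower.Sum

/-!
# Groups generated by two one-parameter groups of square-zero elements
-/

set_option autoImplicit false
set_option linter.all false

namespace CfsgLib.Perm.Trans.TensorPowerSp

open scoped Matrix
open Matrix Cfsg.Geo CfsgLib.Perm.Asch CfsgLib.Perm.Trans CfsgLib.Perm.Trans.TensorPower CfsgLib.Perm.Dickson

variable {F : Type*} [Field F] {ι : Type} [Fintype ι] [DecidableEq ι]

/-- a one-parameter group of square-zero elements -/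
def one1 (X : Matrix ι ι F) (hX : X * X = 0) (a : F) : GL ι F :=
  ⟨1 + a • X, 1 - a • X,
    by rw [add_mul, one_mul, mul_sub, mul_one, Matrix.smul_mul, Matrix.mul_smul, hX, smul_zero, smul_zero, sub_zero,
      sub_add_cancel],
    by rw [sub_mul, one_mul, mul_add, mul_one, Matrix.smul_mul, Matrix.mul_smul, hX, smul_zero, smul_zero, add_zero,
      add_sub_cancel_right]⟩

theorem one1_coe (X : Matrix ι ι F) (hX : X * X = 0) (a : F) : (one1 X hX a : Matrix ι ι F) = 1 + a • X := rfl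

theorem one1_mul (X : Matrix ι ι F) (hX : X * X = 0) (a b : F) : one1 X hX a * one1 X hX b = one1 X hX (a + b) :=
  Units.ext (by
    rw [Units.val_mul, one1_coe, one1_coe, one1_coe, add_mul, one_mul, mul_add, mul_one, Matrix.smul_mul,
      Matrix.mul_smul, hX, smul_zero, smul_zero, add_zero, add_smul]
    abel)

/-- the group of two one-parameter groups -/
def EG (N Y : Matrix ι ι F) (hN : N * N = 0) (hY : Y * Y = 0) : Subgroup (GL ι F) :=
  Subgroup.closure (Set.range (one1 N hN) ∪ Set.range (one1 Y hY))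

variable {N Y : Matrix ι ι F} {hN : N * N = 0} {hY : Y * Y = 0}

theorem mem_EG_left (a : F) : one1 N hN a ∈ EG N Y hN hY := Subgroup.subset_closure (Or.inl ⟨a, rfl⟩)

theorem mem_EG_right (b : F) : one1 Y hY b ∈ EG N Y hN hY := Subgroup.subset_closure (Or.inr ⟨b, rfl⟩)

/-- the shape of the elements -/
theorem eg_shape [Finite F] {z : GL ι F} (hz : z ∈ EG N Y hN hY) :
    ∃ A b c d : Matrix ι ι F, Cen N Y A ∧ Cen N Y b ∧ Cen N Y c ∧ Cen N Y d ∧
      (z : Matrix ι ι F) = A + b * N + c * Y + d * (N * Y) ∧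
      ((z⁻¹ : GL ι F) : Matrix ι ι F) = A + d * (N * Y + Y * N) - b * N - c * Y - d * (N * Y) := by
  rw [EG, ← Subgroup.mem_toSubmonoid, Subgroup.closure_toSubmonoid_of_finite] at hz
  have hC := cen_casimir hN hY
  set C := N * Y + Y * N with hCdef
  induction hz using Submonoid.closure_induction_right with
  | one => exact ⟨1, 0, 0, 0, Cen.one, Cen.zero, Cen.zero, Cen.zero, by simp, by simp⟩
  | mul_right g _ h hh ih =>
    obtain ⟨A, b, c, d, hA, hb, hc, hd, hg, hgi⟩ := ih
    have hdC : C * d = d * C := by rw [hCdef]; exact hd.comm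
    have hcC : C * c = c * C := by rw [hCdef]; exact hc.comm
    have hbC : C * b = b * C := by rw [hCdef]; exact hb.comm
    clear_value C
    have hYN : Y * N = C - N * Y := by rw [hCdef, add_sub_cancel_left]
    have hNYN : N * Y * N = C * N := by rw [hCdef, add_mul, mul_assoc Y, hN, mul_zero, add_zero]
    have hYNY : Y * (N * Y) = C * Y := by rw [hCdef, add_mul, mul_assoc N, hY, mul_zero, zero_add, mul_assoc]
    rcases hh with ⟨r, rfl⟩ | ⟨r, rfl⟩
    · refine ⟨A + r • (c * C), b + r • A + r • (d * C), c, d - r • c, hA.add ((hc.mul hC).smul r),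
        (hb.add (hA.smul r)).add ((hd.mul hC).smul r), hc, hd.sub (hc.smul r), ?_, ?_⟩
      · have p1 : b * N * N = 0 := by rw [mul_assoc, hN, mul_zero]
        have p2 : c * Y * N = c * C - c * (N * Y) := by rw [mul_assoc, hYN, mul_sub]
        have p3 : d * (N * Y) * N = d * C * N := by rw [mul_assoc, hNYN, mul_assoc]
        rw [Units.val_mul, hg, one1_coe, mul_add, mul_one, Matrix.mul_smul, add_mul, add_mul, add_mul, p1, p2, p3]
        simp only [smul_add, smul_sub, smul_zero, add_mul, sub_mul, Matrix.smul_mul]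
        abel
      · have p0 : N * (A + d * C) = A * N + d * C * N := by
          rw [← (hA.add (hd.mul hC)).1, add_mul]
        have p1 : N * (b * N) = 0 := by rw [← mul_assoc, ← hb.1, mul_assoc, hN, mul_zero]
        have p2 : N * (c * Y) = c * (N * Y) := by rw [← mul_assoc, ← hc.1, mul_assoc]
        have p3 : N * (d * (N * Y)) = 0 := by
          rw [← mul_assoc, ← hd.1, mul_assoc, ← mul_assoc N, hN, zero_mul, mul_zero]
        rw [_root_.mul_inv_rev, Units.val_mul, inv_one_add (one1_coe N hN r) (by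
            rw [Matrix.smul_mul, Matrix.mul_smul, hN, smul_zero, smul_zero]), hgi, sub_mul 1 (r • N), one_mul,
          Matrix.smul_mul, mul_sub, mul_sub, mul_sub, p0, p1, p2, p3]
        simp only [smul_add, smul_sub, smul_zero, add_mul, sub_mul, Matrix.smul_mul]
        abel
    · refine ⟨A, b, c + r • A, d + r • b, hA, hb, hc.add (hA.smul r), hd.add (hb.smul r), ?_, ?_⟩
      · have p1 : b * N * Y = b * (N * Y) := mul_assoc _ _ _
        have p2 : c * Y * Y = 0 := by rw [mul_assoc, hY, mul_zero]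
        have p3 : d * (N * Y) * Y = 0 := by rw [mul_assoc, mul_assoc N, hY, mul_zero, mul_zero]
        rw [Units.val_mul, hg, one1_coe, mul_add, mul_one, Matrix.mul_smul, add_mul, add_mul, add_mul, p1, p2, p3]
        simp only [smul_add, smul_zero, add_mul, Matrix.smul_mul]
        abel
      · have p0 : Y * (A + d * C) = A * Y + d * C * Y := by
          rw [← (hA.add (hd.mul hC)).2, add_mul]
        have p1 : Y * (b * N) = b * C - b * (N * Y) := by rw [← mul_assoc, ← hb.2, mul_assoc, hYN, mul_sub]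
        have p2 : Y * (c * Y) = 0 := by rw [← mul_assoc, ← hc.2, mul_assoc, hY, mul_zero]
        have p3 : Y * (d * (N * Y)) = d * C * Y := by rw [← mul_assoc, ← hd.2, mul_assoc, hYNY, mul_assoc]
        rw [_root_.mul_inv_rev, Units.val_mul, inv_one_add (one1_coe Y hY r) (by
            rw [Matrix.smul_mul, Matrix.mul_smul, hY, smul_zero, smul_zero]), hgi, sub_mul 1 (r • Y), one_mul,
          Matrix.smul_mul, mul_sub, mul_sub, mul_sub, p0, p1, p2, p3]
        simp only [smul_add, smul_sub, smul_zero, add_mul, sub_mul, Matrix.smul_mul]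
        abel

/-- the elements commute with the Casimir element -/
theorem eg_comm [Finite F] {z : GL ι F} (hz : z ∈ EG N Y hN hY) :
    Commute (N * Y + Y * N) (z : Matrix ι ι F) := by
  obtain ⟨A, b, c, d, hA, hb, hc, hd, e, -⟩ := eg_shape hz
  have hC := cen_casimir hN hY
  rw [e]
  have cN : Commute (N * Y + Y * N) N := hC.1
  have cY : Commute (N * Y + Y * N) Y := hC.2
  exact (((Commute.add_right (hA.comm) (Commute.mul_right hb.comm cN)).add_right
    (Commute.mul_right hc.comm cY)).add_right (Commute.mul_right hd.comm (cN.mul_right cY)))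

/-- an element of odd order commuting with `N` fixes `C ^ 4 * N` -/
theorem eg_fix [Finite F] {z : GL ι F} (hz : z ∈ EG N Y hN hY) (hzN : (z : Matrix ι ι F) * N = N * (z : Matrix ι ι F))
    {k : ℕ} (hk : Odd k) (hzk : z ^ k = 1) :
    (N * Y + Y * N) ^ 4 * ((z : Matrix ι ι F) - 1) * N = 0 := by
  obtain ⟨A, b, c, d, hA, hb, hc, hd, e, ei⟩ := eg_shape hz
  have hC := cen_casimir hN hY
  have hcom := eg_comm hz
  set C := N * Y + Y * N with hCdef
  have hdC : C * d = d * C := by rw [hCdef]; exact hd.comm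
  have hcC : C * c = c * C := by rw [hCdef]; exact hc.comm
  have hCN : N * C = C * N := hC.1.symm
  have hCY : Y * C = C * Y := hC.2.symm
  clear_value C
  have hYN : Y * N = C - N * Y := by rw [hCdef, add_sub_cancel_left]
  have hNYN : N * Y * N = C * N := by rw [hCdef, add_mul, mul_assoc Y, hN, mul_zero, add_zero]
  have hNC : N * Y * C = C * (N * Y) := by rw [mul_assoc, hCY, ← mul_assoc, hCN, mul_assoc]
  have h1 : c * (N * Y - Y * N) = d * (C * N) := by
    have e1' : (z : Matrix ι ι F) * N = A * N + c * (Y * N) + d * (C * N) := by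
      rw [e, add_mul, add_mul, add_mul, mul_assoc b, hN, mul_zero, add_zero, mul_assoc c, mul_assoc d, hNYN]
    have e2' : N * (z : Matrix ι ι F) = A * N + c * (N * Y) := by
      have q1 : N * (b * N) = 0 := by rw [← mul_assoc, ← hb.1, mul_assoc, hN, mul_zero]
      have q2 : N * (c * Y) = c * (N * Y) := by rw [← mul_assoc, ← hc.1, mul_assoc]
      have q3 : N * (d * (N * Y)) = 0 := by
        rw [← mul_assoc, ← hd.1, mul_assoc, ← mul_assoc N, hN, zero_mul, mul_zero]
      rw [e, mul_add, mul_add, mul_add, ← hA.1, q1, q2, q3, add_zero, add_zero]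
    rw [e1', e2', add_assoc, add_right_inj] at hzN
    rw [mul_sub, ← hzN]; abel
  have h2 : c * (C * N) = 0 := by
    have := congrArg (· * N) h1
    simp only [mul_assoc, sub_mul, hN, mul_zero] at this
    rwa [← mul_assoc N Y N, hNYN, sub_zero] at this
  have h3 : c * C ^ 2 = 0 := by
    have e3 : c * (C * (Y * N)) = 0 := by
      rw [← mul_assoc C, ← hCY, mul_assoc, ← mul_assoc c, hc.2, mul_assoc, h2, mul_zero]
    rw [pow_two]
    nth_rewrite 2 [hCdef]
    rw [mul_add, mul_add, ← mul_assoc C N Y, ← mul_assoc c, h2, zero_mul, zero_add, e3]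
  have h4 : d * C ^ 3 * N = 0 := by
    have := congrArg (C ^ 2 * ·) h1
    simp only [← mul_assoc] at this
    rw [show C ^ 2 * c = c * C ^ 2 from (Commute.pow_left hcC 2).eq, h3, zero_mul,
      show C ^ 2 * d = d * C ^ 2 from (Commute.pow_left hdC 2).eq] at this
    rw [pow_succ C 2, ← mul_assoc]
    exact this.symm
  have k1 : C ^ 4 * c = 0 := by
    rw [(Commute.pow_left hcC 4).eq, show C ^ 4 = C ^ 2 * C ^ 2 from pow_add C 2 2, ← mul_assoc, h3, zero_mul]
  have k2 : C ^ 4 * d * (C * N) = 0 := by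
    rw [(Commute.pow_left hdC 4).eq, mul_assoc, ← mul_assoc (C ^ 4), ← pow_succ, show C ^ (4 + 1) = C ^ 2 * C ^ 3 from
      pow_add C 2 3, mul_assoc, ← mul_assoc d, ← (Commute.pow_left hdC 2).eq, mul_assoc, ← mul_assoc d, h4, mul_zero]
  have hP : (z : Matrix ι ι F) * (C ^ 4 * N) = ((z⁻¹ : GL ι F) : Matrix ι ι F) * (C ^ 4 * N) := by
    have hz4 : Commute (C ^ 4) (z : Matrix ι ι F) := hcom.pow_left 4
    have hz4' : Commute (C ^ 4) ((z⁻¹ : GL ι F) : Matrix ι ι F) := hz4.units_inv_right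
    rw [← mul_assoc, ← mul_assoc, ← hz4.eq, ← hz4'.eq, e, ei]
    simp only [mul_add, mul_sub, add_mul, sub_mul, mul_assoc, hN, mul_zero, hNYN]
    have k2' : C ^ 4 * (d * (C * N)) = 0 := by rw [← mul_assoc, k2]
    rw [← mul_assoc (C ^ 4) c, k1, zero_mul, k2']
    simp
  have hP2 : (z : Matrix ι ι F) * ((z : Matrix ι ι F) * (C ^ 4 * N)) = C ^ 4 * N := by
    rw [hP, ← mul_assoc, gl_mul_inv, one_mul]
  have hpow : ∀ m : ℕ, ((z ^ (2 * m) : GL ι F) : Matrix ι ι F) * (C ^ 4 * N) = C ^ 4 * N := by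
    intro m
    induction m with
    | zero => rw [mul_zero, pow_zero, Units.val_one, one_mul]
    | succ m ih =>
      rw [show 2 * (m + 1) = 2 * m + 1 + 1 by ring, pow_succ, pow_succ, Units.val_mul, Units.val_mul, mul_assoc,
        mul_assoc, hP2, ih]
  obtain ⟨m, rfl⟩ := hk
  have := hpow (m + 1)
  rw [show 2 * (m + 1) = 2 * m + 1 + 1 by ring, pow_succ, hzk, one_mul] at this
  rw [mul_sub, mul_one, sub_mul, sub_eq_zero]
  rw [← mul_assoc, ← (hcom.pow_left 4).eq] at this
  exact this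

/-! ### planes -/

variable {L : Type*} [Field L] (φ : F →+* L)

/-- a plane over an eigenvalue of the Casimir element -/
structure Pl (N Y : Matrix ι ι F) where
  l : L
  e1 : ι → L
  hl0 : l ≠ 0
  he0 : e1 ≠ 0
  hNe : N.map φ *ᵥ e1 = 0
  hle : N.map φ *ᵥ (Y.map φ *ᵥ e1) = l • e1

variable {φ}

/-- the basis of a plane -/
def Pl.bas (π : Pl φ N Y) : Matrix ι (Fin 2) L := Matrix.of fun r c => ![π.e1, Y.map φ *ᵥ π.e1] c r

theorem Pl.bas_mulVec (π : Pl φ N Y) (u : Fin 2 → L) :
    π.bas *ᵥ u = u 0 • π.e1 + u 1 • (Y.map φ *ᵥ π.e1) := funext fun r => by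
  simp [Pl.bas, Matrix.mulVec, dotProduct, Fin.sum_univ_two, mul_comm]

theorem Pl.bas_injective (π : Pl φ N Y) (u : Fin 2 → L) (hu : π.bas *ᵥ u = 0) : u = 0 := by
  rw [π.bas_mulVec] at hu
  have h2' := congrArg (N.map φ *ᵥ ·) hu
  simp only [mulVec_add, mulVec_smul, π.hNe, π.hle, smul_zero, zero_add, mulVec_zero, smul_smul] at h2'
  have hb : u 1 = 0 := (mul_eq_zero.1 ((smul_eq_zero.1 h2').resolve_right π.he0)).resolve_right π.hl0
  rw [hb, zero_smul, add_zero] at hu
  funext i
  fin_cases i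
  · exact (smul_eq_zero.1 hu).resolve_right π.he0
  · exact hb

theorem Pl.cancel (π : Pl φ N Y) {m m' : Matrix (Fin 2) (Fin 2) L} (h : π.bas * m = π.bas * m') : m = m' := by
  refine Matrix.ext_iff_mulVec.2 fun u => sub_eq_zero.1 (π.bas_injective _ ?_)
  rw [mulVec_sub, mulVec_mulVec, mulVec_mulVec, h, sub_self]

/-- the lower elementary element -/
def trC {K : Type*} [Field K] (b : K) : SL2F K := ⟨!![1, 0; b, 1], by simp [det_fin_two]⟩

theorem Pl.act [Finite F] (π : Pl φ N Y) {z : GL ι F} (hz : z ∈ EG N Y hN hY) :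
    ∃ m : SL2F L, (z : Matrix ι ι F).map φ * π.bas = π.bas * m.1 := by
  rw [EG, ← Subgroup.mem_toSubmonoid, Subgroup.closure_toSubmonoid_of_finite] at hz
  induction hz using Submonoid.closure_induction_right with
  | one => exact ⟨1, by rw [Units.val_one, Matrix.map_one φ (map_zero φ) (map_one φ), Matrix.one_mul,
      Matrix.SpecialLinearGroup.coe_one, Matrix.mul_one]⟩
  | mul_right g _ h hh ih =>
    obtain ⟨m, hm⟩ := ih
    have hYe2 : Y.map φ *ᵥ (Y.map φ *ᵥ π.e1) = 0 := by
      rw [mulVec_mulVec, ← Matrix.map_mul, hY, Matrix.map_zero φ (map_zero φ), zero_mulVec]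
    have hstep : ∃ m' : SL2F L, (h : Matrix ι ι F).map φ * π.bas = π.bas * m'.1 := by
      rcases hh with ⟨r, rfl⟩ | ⟨r, rfl⟩
      · refine ⟨trA (φ r * π.l), Matrix.ext_iff_mulVec.2 fun u => ?_⟩
        rw [← mulVec_mulVec, ← mulVec_mulVec, π.bas_mulVec, π.bas_mulVec, one1_coe, Matrix.map_add φ (map_add φ),
          Matrix.map_one φ (map_zero φ) (map_one φ), Matrix.map_smul' φ r N (map_mul φ), add_mulVec, one_mulVec,
          Matrix.smul_mulVec, mulVec_add, mulVec_smul, mulVec_smul, π.hNe, π.hle]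
        simp [trA, Matrix.mulVec, dotProduct, Fin.sum_univ_two, add_smul, smul_smul]
        module
      · refine ⟨trC (φ r), Matrix.ext_iff_mulVec.2 fun u => ?_⟩
        rw [← mulVec_mulVec, ← mulVec_mulVec, π.bas_mulVec, π.bas_mulVec, one1_coe, Matrix.map_add φ (map_add φ),
          Matrix.map_one φ (map_zero φ) (map_one φ), Matrix.map_smul' φ r Y (map_mul φ), add_mulVec, one_mulVec,
          Matrix.smul_mulVec, mulVec_add, mulVec_smul, mulVec_smul, hYe2]
        simp [trC, Matrix.mulVec, dotProduct, Fin.sum_univ_two, add_smul, smul_smul]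
        module
    obtain ⟨m', hm'⟩ := hstep
    refine ⟨m * m', ?_⟩
    rw [Units.val_mul, Matrix.map_mul, Matrix.mul_assoc, hm', ← Matrix.mul_assoc, hm, Matrix.mul_assoc,
      Matrix.SpecialLinearGroup.coe_mul]

/-- the action on a plane -/
noncomputable def Pl.rho [Finite F] (π : Pl φ N Y) : EG N Y hN hY →* SL2F L :=
  MonoidHom.mk' (fun z => (π.act z.2).choose) fun z w => Subtype.ext (π.cancel (by
    rw [← (π.act (z * w).2).choose_spec, Matrix.SpecialLinearGroup.coe_mul, ← Matrix.mul_assoc,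
      ← (π.act z.2).choose_spec, Matrix.mul_assoc, ← (π.act w.2).choose_spec, ← Matrix.mul_assoc, ← Matrix.map_mul,
      ← Units.val_mul]
    rfl))

theorem Pl.rho_spec [Finite F] (π : Pl φ N Y) (z : EG N Y hN hY) :
    ((z : GL ι F) : Matrix ι ι F).map φ * π.bas = π.bas * (π.rho z).1 := (π.act z.2).choose_spec

theorem Pl.rho_eq [Finite F] (π : Pl φ N Y) {z : EG N Y hN hY} {m : SL2F L}
    (h : ((z : GL ι F) : Matrix ι ι F).map φ * π.bas = π.bas * m.1) : π.rho z = m :=
  Subtype.ext (π.cancel (by rw [← π.rho_spec, h]))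

theorem Pl.rho_left [Finite F] (π : Pl φ N Y) (r : F) :
    π.rho (⟨one1 N hN r, mem_EG_left r⟩ : EG N Y hN hY) = trA (φ r * π.l) := π.rho_eq (by
  refine Matrix.ext_iff_mulVec.2 fun u => ?_
  show (((one1 N hN r : GL ι F) : Matrix ι ι F).map φ * π.bas) *ᵥ u = _
  rw [← mulVec_mulVec, ← mulVec_mulVec, π.bas_mulVec, π.bas_mulVec, one1_coe, Matrix.map_add φ (map_add φ),
    Matrix.map_one φ (map_zero φ) (map_one φ), Matrix.map_smul' φ r N (map_mul φ), add_mulVec, one_mulVec,
    Matrix.smul_mulVec, mulVec_add, mulVec_smul, mulVec_smul, π.hNe, π.hle]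
  simp [trA, Matrix.mulVec, dotProduct, Fin.sum_univ_two, add_smul, smul_smul]
  module)

theorem Pl.rho_right [Finite F] (π : Pl φ N Y) (r : F) :
    π.rho (⟨one1 Y hY r, mem_EG_right r⟩ : EG N Y hN hY) = trC (φ r) := π.rho_eq (by
  refine Matrix.ext_iff_mulVec.2 fun u => ?_
  have hYe2 : Y.map φ *ᵥ (Y.map φ *ᵥ π.e1) = 0 := by
    rw [mulVec_mulVec, ← Matrix.map_mul, hY, Matrix.map_zero φ (map_zero φ), zero_mulVec]
  show (((one1 Y hY r : GL ι F) : Matrix ι ι F).map φ * π.bas) *ᵥ u = _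
  rw [← mulVec_mulVec, ← mulVec_mulVec, π.bas_mulVec, π.bas_mulVec, one1_coe, Matrix.map_add φ (map_add φ),
    Matrix.map_one φ (map_zero φ) (map_one φ), Matrix.map_smul' φ r Y (map_mul φ), add_mulVec, one_mulVec,
    Matrix.smul_mulVec, mulVec_add, mulVec_smul, mulVec_smul, hYe2]
  simp [trC, Matrix.mulVec, dotProduct, Fin.sum_univ_two, add_smul, smul_smul]
  module)

/-- an upper unitriangular action, on vectors -/
theorem Pl.vec_of_rho [Finite F] (π : Pl φ N Y) {z : EG N Y hN hY} {x : L} (h : π.rho z = trA x) :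
    ((z : GL ι F) : Matrix ι ι F).map φ *ᵥ π.e1 = π.e1 ∧
      ((z : GL ι F) : Matrix ι ι F).map φ *ᵥ (Y.map φ *ᵥ π.e1) = x • π.e1 + Y.map φ *ᵥ π.e1 := by
  have e := π.rho_spec z
  rw [h] at e
  constructor
  · have := congrArg (· *ᵥ ![(1 : L), 0]) e
    simp only [← mulVec_mulVec, π.bas_mulVec] at this
    simpa [trA, Matrix.mulVec, dotProduct, Fin.sum_univ_two] using this
  · have := congrArg (· *ᵥ ![(0 : L), 1]) e
    simp only [← mulVec_mulVec, π.bas_mulVec] at this
    simpa [trA, Matrix.mulVec, dotProduct, Fin.sum_univ_two] using this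

/-- the Casimir element on a plane -/
theorem Pl.casimir (π : Pl φ N Y) (hN : N * N = 0) (hY : Y * Y = 0) :
    (N * Y + Y * N).map φ *ᵥ π.e1 = π.l • π.e1 ∧
      (N * Y + Y * N).map φ *ᵥ (Y.map φ *ᵥ π.e1) = π.l • (Y.map φ *ᵥ π.e1) := by
  have hYe2 : Y.map φ *ᵥ (Y.map φ *ᵥ π.e1) = 0 := by
    rw [mulVec_mulVec, ← Matrix.map_mul, hY, Matrix.map_zero φ (map_zero φ), zero_mulVec]
  rw [Matrix.map_add φ (map_add φ), Matrix.map_mul, Matrix.map_mul, add_mulVec, add_mulVec]
  simp only [← mulVec_mulVec, π.hNe, hYe2, π.hle, mulVec_zero, add_zero, zero_add, mulVec_smul, and_self]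

/-- a non-zero eigenvalue has a plane -/
theorem exists_pl (hN : N * N = 0) (hY : Y * Y = 0) {l : L} (hl : l ≠ 0)
    (hroot : ((N * Y + Y * N).charpoly.map φ).IsRoot l) : ∃ π : Pl φ N Y, π.l = l := by
  set C := N * Y + Y * N with hC
  have hev : (Matrix.scalar ι l - C.map φ).det = 0 := by
    rw [← Matrix.eval_charpoly, Matrix.charpoly_map]; exact hroot
  obtain ⟨v, hv0, hv⟩ := Matrix.exists_mulVec_eq_zero_iff.2 hev
  rw [sub_mulVec, sub_eq_zero, Matrix.scalar_apply, ← Matrix.smul_one_eq_diagonal, Matrix.smul_mulVec, one_mulVec] at hv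
  set N' := N.map φ with hN'
  set Y' := Y.map φ with hY'
  have hC' : C.map φ = N' * Y' + Y' * N' := by
    show (N * Y + Y * N).map φ = _
    rw [Matrix.map_add φ (map_add φ), Matrix.map_mul, Matrix.map_mul]
  have hNN : N' * N' = 0 := by rw [hN', ← Matrix.map_mul, hN, Matrix.map_zero φ (map_zero φ)]
  have hYY : Y' * Y' = 0 := by rw [hY', ← Matrix.map_mul, hY, Matrix.map_zero φ (map_zero φ)]
  rw [hC'] at hv
  have hCen := cen_casimir hNN hYY
  obtain ⟨w, hw0, hw⟩ : ∃ w, N' *ᵥ w ≠ 0 ∧ (N' * Y' + Y' * N') *ᵥ w = l • w := by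
    by_cases h : N' *ᵥ v = 0
    · refine ⟨Y' *ᵥ v, fun e => ?_, ?_⟩
      · rw [add_mulVec, ← mulVec_mulVec, e, ← mulVec_mulVec, h, mulVec_zero, add_zero] at hv
        exact smul_ne_zero hl hv0 hv
      · rw [mulVec_mulVec, hCen.2, ← mulVec_mulVec, ← hv, mulVec_smul]
    · exact ⟨v, h, hv.symm⟩
  refine ⟨⟨l, N' *ᵥ w, hl, hw0, by rw [mulVec_mulVec, hNN, zero_mulVec], ?_⟩, rfl⟩
  have h1 : (N' * Y' + Y' * N') *ᵥ (N' *ᵥ w) = l • (N' *ᵥ w) := by
    rw [mulVec_mulVec, hCen.1, ← mulVec_mulVec, hw, mulVec_smul]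
  simp only [add_mulVec, ← mulVec_mulVec] at h1
  rw [show N' *ᵥ (N' *ᵥ w) = 0 by rw [mulVec_mulVec, hNN, zero_mulVec], mulVec_zero, add_zero] at h1
  exact h1

end CfsgLib.Perm.Trans.TensorPowerSp
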