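import Cfsg.Agent.Lib.Perm.Trans.TensorPowerSp.Plane

/-!
# Two one-parameter groups: the eigenvalues of the Casimir element
-/

set_option autoImplicit false
set_option linter.all false

namespace CfsgLib.Perm.Trans.TensorPowerSp

open scoped Matrix
open Matrix Cfsg.Geo CfsgLib.Perm.Asch CfsgLib.Perm.Trans CfsgLib.Perm.Trans.TensorPower CfsgLib.Perm.Dickson

universe u

section SL

variable {K : Type*} [Field K]

theorem trA_mul (x y : K) : trA x * trA y = trA (x + y) := Subtype.ext (by
  show (trA x).1 * (trA y).1 = _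
  simp [trA, Matrix.mul_fin_two, add_comm])

theorem trA_zero : trA (0 : K) = 1 := Subtype.ext (by
  show (trA (0 : K)).1 = (1 : Matrix (Fin 2) (Fin 2) K)
  simp [trA, Matrix.one_fin_two])

theorem trA_inj {x y : K} (h : trA x = trA y) : x = y := by
  have := congrFun (congrFun (congrArg Subtype.val h) 0) 1
  simpa [trA] using this

theorem trA_pow (x : K) (k : ℕ) : trA x ^ k = trA ((k : K) * x) := by
  induction k with
  | zero => rw [pow_zero, Nat.cast_zero, zero_mul, trA_zero]
  | succ k ih => rw [pow_succ, ih, trA_mul, Nat.cast_succ, add_mul, one_mul]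

/-- the upper unitriangular elements -/
def upU (K : Type*) [Field K] : Subgroup (SL2F K) where
  carrier := Set.range trA
  one_mem' := ⟨0, trA_zero⟩
  mul_mem' := by rintro _ _ ⟨x, rfl⟩ ⟨y, rfl⟩; exact ⟨x + y, (trA_mul x y).symm⟩
  inv_mem' := by
    rintro _ ⟨x, rfl⟩
    exact ⟨-x, (inv_eq_of_mul_eq_one_right (by rw [trA_mul, add_neg_cancel, trA_zero])).symm⟩

theorem mem_upU {g : SL2F K} : g ∈ upU K ↔ ∃ x, trA x = g := Iff.rfl

theorem upU_isPGroup (p : ℕ) [CharP K p] : IsPGroup p (upU K) := fun ⟨g, x, hx⟩ => ⟨1, Subtype.ext (by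
  show g ^ p ^ 1 = 1
  rw [← hx, pow_one, trA_pow, CharP.cast_eq_zero, zero_mul, trA_zero])⟩

/-- a `p`-group containing an upper unitriangular element is upper unitriangular -/
theorem upper_of_pgroup [Finite K] (p : ℕ) [Fact p.Prime] [CharP K p] (hp2 : p ≠ 2) (h2 : (2 : K) ≠ 0)
    {Q : Subgroup (SL2F K)} (hQ : IsPGroup p Q) {l : K} (hl : l ≠ 0) (hlQ : trA l ∈ Q) {g : SL2F K} (hg : g ∈ Q) :
    g ∈ upU K := by
  have hodd : Odd p := (Fact.out : p.Prime).odd_of_ne_two hp2
  have shape : ∀ w : SL2F K, w ∈ Q → ∀ x : K, x ≠ 0 → w * trA x = trA x * w → w ∈ upU K := by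
    intro w hw x hx e
    have e' := congrArg Subtype.val e
    rw [Matrix.SpecialLinearGroup.coe_mul, Matrix.SpecialLinearGroup.coe_mul] at e'
    have h00 := congrFun (congrFun e' 0) 0
    have h01 := congrFun (congrFun e' 0) 1
    simp [trA, Matrix.mul_apply, Fin.sum_univ_two] at h00 h01
    have w10 : w.1 1 0 = 0 := h00.resolve_left hx
    have w11 : w.1 1 1 = w.1 0 0 := by
      have : x * (w.1 0 0 - w.1 1 1) = 0 := by linear_combination h01
      exact (sub_eq_zero.1 ((mul_eq_zero.1 this).resolve_left hx)).symm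
    have hd : w.1 0 0 * w.1 0 0 = 1 := by
      have := w.2
      rw [det_fin_two, w10, w11, mul_zero, sub_zero] at this
      exact this
    obtain ⟨k, hk⟩ := hQ ⟨w, hw⟩
    have hk' : (w.1) ^ p ^ k = 1 := by
      have := congrArg (fun z : Q => (z : SL2F K).1) hk
      simpa using this
    rcases mul_self_eq_one_iff.1 hd with e1 | e1
    · exact ⟨w.1 0 1, Subtype.ext (by ext i j; fin_cases i <;> fin_cases j <;> simp [trA, w10, w11, e1])⟩
    · exfalso
      have hw' : w.1 = -(trA (-(w.1 0 1))).1 := by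
        ext i j; fin_cases i <;> fin_cases j <;> simp [trA, w10, w11, e1]
      rw [hw', (hodd.pow).neg_pow, ← Matrix.SpecialLinearGroup.coe_pow, trA_pow] at hk'
      have := congrFun (congrFun hk' 0) 0
      simp [trA] at this
      exact h2 (by linear_combination -this)
  haveI : Nontrivial Q := ⟨⟨⟨trA l, hlQ⟩, 1, fun e => hl (trA_inj (show trA l = trA 0 by
    rw [trA_zero]; exact congrArg Subtype.val e))⟩⟩
  haveI := hQ.center_nontrivial
  obtain ⟨⟨⟨z, hzQ⟩, hz⟩, hz1⟩ := exists_ne (1 : Subgroup.center Q)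
  have hcen : ∀ w : SL2F K, w ∈ Q → w * z = z * w := fun w hw =>
    congrArg Subtype.val (Subgroup.mem_center_iff.1 hz ⟨w, hw⟩)
  obtain ⟨x, hx⟩ := shape z hzQ l hl (hcen _ hlQ).symm
  refine shape g hg x (fun e => hz1 (Subtype.ext (Subtype.ext ?_))) (by rw [hx]; exact hcen g hg)
  show z = 1
  rw [← hx, e, trA_zero]

/-- a semisimple element of trace in the prime subfield power -/
theorem pow_semisimple (p : ℕ) [Fact p.Prime] [CharP K p] (h2 : (2 : K) ≠ 0) (g : SL2F K) {f : ℕ} {q : ℕ}
    (hq : q = p ^ f) (hodd : Odd q) (ht : (g.1 0 0 + g.1 1 1) ^ q = g.1 0 0 + g.1 1 1)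
    (hne : (g.1 0 0 + g.1 1 1) * (g.1 0 0 + g.1 1 1) ≠ 4) : g ^ (q * q - 1) = 1 := by
  have htwo : (2 : K) ^ q = 2 := by
    rw [hq, ← iterateFrobenius_def (R := K) p f 2, map_ofNat]
  set t := g.1 0 0 + g.1 1 1 with htdef
  set δ : K := t / 2 * (t / 2) - 1 with hδ
  have hδ0 : δ ≠ 0 := fun e => hne (by
    rw [hδ] at e
    field_simp at e
    linear_combination e)
  have hδq : δ ^ q = δ := by
    rw [hδ, hq, sub_pow_char_pow, one_pow, mul_pow, div_pow, ← hq, ht, htwo]
  obtain ⟨r, hr⟩ := hodd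
  have hη : δ ^ r * δ ^ r = 1 := by
    have e : δ ^ (2 * r) * δ = 1 * δ := by rw [← pow_succ, ← hr, hδq, one_mul]
    rw [← pow_add, ← two_mul]
    exact mul_right_cancel₀ hδ0 e
  set Z := g.1 - (t / 2) • (1 : Matrix (Fin 2) (Fin 2) K) with hZ
  have hd : g.1 0 0 * g.1 1 1 - g.1 0 1 * g.1 1 0 = 1 := by rw [← det_fin_two]; exact g.2
  have hZZ : Z * Z = δ • (1 : Matrix (Fin 2) (Fin 2) K) := by
    ext i j
    fin_cases i <;> fin_cases j <;>
      simp [hZ, hδ, htdef, Matrix.mul_apply, Fin.sum_univ_two] <;> field_simp <;>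
      first | ring1 | linear_combination (-4 : K) * hd
  have hZq : Z ^ q = δ ^ r • Z := by
    rw [hr, pow_succ, pow_mul, pow_two, hZZ, smul_pow, one_pow, Matrix.smul_mul, one_mul]
  have hg : g.1 = (t / 2) • (1 : Matrix (Fin 2) (Fin 2) K) + Z := by rw [hZ, add_sub_cancel]
  have hqq : g.1 ^ q = (t / 2) • (1 : Matrix (Fin 2) (Fin 2) K) + δ ^ r • Z := by
    rw [hg, hq, add_pow_char_pow_of_commute p f ((Commute.one_left Z).smul_left _), smul_pow, one_pow, ← hq, hZq,
      div_pow, ht, htwo]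
  have h4 : g.1 ^ (q * q) = g.1 := by
    rw [pow_mul, hqq, hq, add_pow_char_pow_of_commute p f (((Commute.one_left Z).smul_left _).smul_right _),
      smul_pow, one_pow, ← hq, smul_pow, hZq, smul_smul, div_pow, ht, htwo]
    conv_rhs => rw [hg]
    congr 1
    have hηq : (δ ^ r) ^ q = δ ^ r := by rw [← pow_mul, mul_comm, pow_mul, hδq]
    rw [hηq, hη, one_smul]
  have h1 : g ^ (q * q) = g := Subtype.ext (by rw [Matrix.SpecialLinearGroup.coe_pow]; exact h4)
  have hpos : 1 ≤ q * q := by subst hr; nlinarith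
  rw [← Nat.sub_add_cancel hpos, pow_succ] at h1
  exact mul_right_cancel (h1.trans (one_mul g).symm)

/-- a negative unipotent element to an even power -/
theorem pow_parabolic (g : SL2F K) (ht : g.1 0 0 + g.1 1 1 = -2) (k : ℕ) :
    (g ^ (2 * k)).1 = 1 + (2 * k : K) • (-g.1 - 1) := by
  have hd : g.1 0 0 * g.1 1 1 - g.1 0 1 * g.1 1 0 = 1 := by rw [← det_fin_two]; exact g.2
  set X := -g.1 - 1 with hX
  have hXX : X * X = 0 := by
    ext i j
    fin_cases i <;> fin_cases j <;> simp [hX, Matrix.mul_apply, Fin.sum_univ_two]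
    · linear_combination (g.1 0 0) * ht - hd
    · linear_combination (g.1 0 1) * ht
    · linear_combination (g.1 1 0) * ht
    · linear_combination (g.1 1 1) * ht - hd
  have hg : g.1 = -(1 + X) := by rw [hX]; abel
  have hsq : g.1 ^ 2 = 1 + (2 : K) • X := by
    rw [hg, neg_sq, pow_two, add_mul, one_mul, mul_add, mul_one, hXX, two_smul]; abel
  induction k with
  | zero => simp
  | succ k ih =>
    rw [Matrix.SpecialLinearGroup.coe_pow] at ih ⊢
    rw [mul_add, mul_one, pow_add, ih, hsq, add_mul, one_mul, mul_add, mul_one, Matrix.smul_mul, Matrix.mul_smul, hXX,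
      smul_zero, smul_zero, add_zero, Nat.cast_succ, mul_add, mul_one, add_smul]
    abel

/-- the conjugation turning a parabolic element into an upper one -/
theorem conj_parabolic {l : K} (hl : l ≠ 0) :
    (trC (-2 / l)).1 * (1 + (-1 : K) • (-!![1 + l * (-4 / l), l; -4 / l, 1] - 1)) * adjugate (trC (-2 / l)).1 =
      (trA l).1 := by
  have e : l * (-4 / l) = -4 := mul_div_cancel₀ _ hl
  rw [e]
  ext i j
  fin_cases i <;> fin_cases j <;>
    simp [trA, trC, adjugate_fin_two, Matrix.mul_apply, Fin.sum_univ_two, Matrix.one_apply, Matrix.vecMul, dotProduct] <;>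
    field_simp <;> ring

/-- a Sylow subgroup covers a `p`-quotient -/
theorem sylow_map_top {H G' : Type*} [Group H] [Group G'] [Finite H] [Finite G'] (p : ℕ) [Fact p.Prime] {f : H →* G'}
    (hf : Function.Surjective f) (hG : IsPGroup p G') (P : Sylow p H) : (P : Subgroup H).map f = ⊤ := by
  obtain ⟨k, hk⟩ := hG.index ((P : Subgroup H).map f)
  rw [← Subgroup.index_eq_one, hk]
  rcases Nat.eq_zero_or_pos k with rfl | hk0
  · exact pow_zero p
  exact absurd ((dvd_pow_self p (by omega)).trans (hk ▸ Subgroup.index_map_dvd (H := (P : Subgroup H)) hf))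
    P.not_dvd_index

end SL

variable {F : Type u} [Field F] [Fintype F] {ι : Type} [Fintype ι] [DecidableEq ι] {N Y : Matrix ι ι F}
  {hN : N * N = 0} {hY : Y * Y = 0}

/-- upper triangular elements of `p`-subgroups act by one parameter -/
def HasParam (p : ℕ) (N Y : Matrix ι ι F) (hN : N * N = 0) (hY : Y * Y = 0) : Prop :=
  ∀ (L : Type u) [Field L] [Finite L] (φ : F →+* L) (Q : Subgroup (EG N Y hN hY)), IsPGroup p Q →
    (∀ a : F, (⟨one1 N hN a, mem_EG_left a⟩ : EG N Y hN hY) ∈ Q) →
    (∀ h ∈ Q, ∀ π : Pl φ N Y, π.rho h ∈ upU L) → ∀ h ∈ Q, ∃ c : F, ∀ π : Pl φ N Y, π.rho h = trA (φ c * π.l)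

variable {p : ℕ} [Fact p.Prime] [CharP F p]

theorem param_pair (hp : HasParam p N Y hN hY) (h2 : (2 : F) ≠ 0) {L : Type u} [Field L] [Finite L] (φ : F →+* L)
    (π₁ π₂ : Pl φ N Y) {h : EG N Y hN hY} (h₁ : π₁.rho h ∈ upU L) (h₂ : π₂.rho h ∈ upU L) :
    ∃ c : F, π₁.rho h = trA (φ c * π₁.l) ∧ π₂.rho h = trA (φ c * π₂.l) := by
  classical
  haveI : CharP L p := charP_of_injective_ringHom φ.injective p
  have hp2 : p ≠ 2 := fun e => h2 (by have := CharP.cast_eq_zero F p; rw [e] at this; exact_mod_cast this)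
  have h2L : (2 : L) ≠ 0 := fun e => h2 (φ.injective (by rw [map_ofNat, map_zero, e]))
  let H : Subgroup (EG N Y hN hY) := (upU L).comap π₁.rho ⊓ (upU L).comap π₂.rho
  let f : H →* upU L × upU L :=
    MonoidHom.prod ((π₁.rho.comp H.subtype).codRestrict (upU L) fun x => x.2.1)
      ((π₂.rho.comp H.subtype).codRestrict (upU L) fun x => x.2.2)
  have hU : IsPGroup p (upU L × upU L) := by
    rintro ⟨⟨a, x, hx⟩, ⟨b, y, hy⟩⟩
    refine ⟨1, Prod.ext (Subtype.ext ?_) (Subtype.ext ?_)⟩
    · show a ^ p ^ 1 = 1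
      rw [← hx, pow_one, trA_pow, CharP.cast_eq_zero, zero_mul, trA_zero]
    · show b ^ p ^ 1 = 1
      rw [← hy, pow_one, trA_pow, CharP.cast_eq_zero, zero_mul, trA_zero]
  have hr : ∀ a : F, (⟨one1 N hN a, mem_EG_left a⟩ : EG N Y hN hY) ∈ H := fun a =>
    ⟨⟨φ a * π₁.l, (π₁.rho_left a).symm⟩, ⟨φ a * π₂.l, (π₂.rho_left a).symm⟩⟩
  let R : Subgroup H :=
    { carrier := Set.range fun a : F => (⟨⟨one1 N hN a, mem_EG_left a⟩, hr a⟩ : H)
      one_mem' := ⟨0, Subtype.ext (Subtype.ext (Units.ext (by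
        show (1 : Matrix ι ι F) + (0 : F) • N = 1
        rw [zero_smul, add_zero])))⟩
      mul_mem' := by rintro _ _ ⟨a, rfl⟩ ⟨b, rfl⟩; exact ⟨a + b, Subtype.ext (Subtype.ext (one1_mul N hN a b).symm)⟩
      inv_mem' := by
        rintro _ ⟨a, rfl⟩
        refine ⟨-a, (inv_eq_of_mul_eq_one_right (Subtype.ext (Subtype.ext ?_))).symm⟩
        show one1 N hN a * one1 N hN (-a) = 1
        rw [one1_mul, add_neg_cancel]
        exact Units.ext (by show (1 : Matrix ι ι F) + (0 : F) • N = 1; rw [zero_smul, add_zero]) }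
  have hpow : ∀ (a : F) (k : ℕ), one1 N hN a ^ k = one1 N hN ((k : F) * a) := fun a k => by
    induction k with
    | zero => exact Units.ext (by show (1 : Matrix ι ι F) = 1 + (((0 : ℕ) : F) * a) • N; simp)
    | succ k ih => rw [pow_succ, ih, one1_mul, Nat.cast_succ, add_mul, one_mul]
  have hR : IsPGroup p R := by
    rintro ⟨x, a, rfl⟩
    refine ⟨1, Subtype.ext (Subtype.ext (Subtype.ext ?_))⟩
    show one1 N hN a ^ p ^ 1 = 1
    rw [pow_one, hpow, CharP.cast_eq_zero, zero_mul]
    exact Units.ext (by show (1 : Matrix ι ι F) + (0 : F) • N = 1; rw [zero_smul, add_zero])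
  obtain ⟨P, hP⟩ := hR.exists_le_sylow
  have hG : IsPGroup p f.range := hU.to_subgroup _
  have htop := sylow_map_top p f.rangeRestrict_surjective hG P
  have hmem : f.rangeRestrict ⟨h, h₁, h₂⟩ ∈ (P : Subgroup H).map f.rangeRestrict := by rw [htop]; trivial
  obtain ⟨h', hh', he⟩ := hmem
  have he' : f h' = f ⟨h, h₁, h₂⟩ := congrArg Subtype.val he
  set Q := (P : Subgroup H).map H.subtype with hQdef
  have hQ : IsPGroup p Q := P.isPGroup'.map _
  have hrQ : ∀ a : F, (⟨one1 N hN a, mem_EG_left a⟩ : EG N Y hN hY) ∈ Q := fun a =>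
    ⟨⟨⟨one1 N hN a, mem_EG_left a⟩, hr a⟩, hP ⟨a, rfl⟩, rfl⟩
  obtain ⟨c, hc⟩ := hp L φ Q hQ hrQ (fun x hx π => upper_of_pgroup p hp2 h2L (hQ.map π.rho) (l := π.l) π.hl0
    ⟨_, hrQ 1, by rw [π.rho_left, map_one, one_mul]⟩ ⟨x, hx, rfl⟩) h' ⟨h', hh', rfl⟩
  refine ⟨c, ?_, ?_⟩
  · rw [← hc π₁]
    exact (congrArg (fun z : upU L × upU L => (z.1 : SL2F L)) he').symm
  · rw [← hc π₂]
    exact (congrArg (fun z : upU L × upU L => (z.2 : SL2F L)) he').symm

/-- the eigenvalues of the Casimir element -/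
theorem eigen_unique (hp : HasParam p N Y hN hY) (h2 : (2 : F) ≠ 0) (hq : 3 < Fintype.card F)
    (hn : ¬ IsNilpotent (N * Y + Y * N)) :
    ∃ (l : F) (k : ℕ), l ≠ 0 ∧ (N * Y + Y * N) ^ k * (N * Y + Y * N - l • 1) ^ k = 0 := by
  classical
  set C := N * Y + Y * N with hC
  let L := C.charpoly.SplittingField
  let φ : F →+* L := algebraMap F L
  haveI : Finite L := Module.finite_of_finite F
  haveI : CharP L p := charP_of_injective_ringHom φ.injective p
  have hp2 : p ≠ 2 := fun e => h2 (by have := CharP.cast_eq_zero F p; rw [e] at this; exact_mod_cast this)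
  have h2L : (2 : L) ≠ 0 := fun e => h2 (φ.injective (by rw [map_ofNat, map_zero, e]))
  have hsp : (C.charpoly.map φ).Splits := Polynomial.SplittingField.splits C.charpoly
  -- the eigenvalues are in the field
  have hrat : ∀ π : Pl φ N Y, ∃ m : F, φ m = π.l := by
    intro π
    obtain ⟨x, hx⟩ : ∃ x : Fˣ, (x : F) * x ≠ 1 := by
      by_contra hcon
      push Not at hcon
      have hsub : (Finset.univ : Finset F) ⊆ {0, 1, -1} := fun x _ => by
        rcases eq_or_ne x 0 with rfl | hx
        · simp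
        · rcases mul_self_eq_one_iff.1 (hcon (Units.mk0 x hx)) with e | e <;> simp at e <;> simp [e]
      have := (Finset.card_le_card hsub).trans Finset.card_le_three
      rw [Finset.card_univ] at this
      omega
    obtain ⟨a, ha0, ha⟩ : ∃ a : F, a ≠ 0 ∧ (φ a * π.l) ^ 2 ≠ -1 := by
      by_cases e : π.l ^ 2 = -1
      · refine ⟨(x : F), x.ne_zero, fun e' => hx (φ.injective ?_)⟩
        rw [map_mul, map_one]
        rw [mul_pow, e] at e'
        linear_combination -e'
      · exact ⟨1, one_ne_zero, by rw [map_one, one_mul]; exact e⟩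
    set l := φ a * π.l with hldef
    have hl : l ≠ 0 := mul_ne_zero (by simpa using ha0) π.hl0
    let L0 := Subfield.closure ({l} : Set L)
    let l0 : L0 := ⟨l, Subfield.subset_closure rfl⟩
    have hgen : Subfield.closure ({l0} : Set L0) = ⊤ := by
      rw [eq_top_iff]
      rintro ⟨b, hb⟩ -
      induction hb using Subfield.closure_induction with
      | mem b h => obtain rfl : b = l := h; exact Subfield.subset_closure rfl
      | one => exact one_mem (Subfield.closure ({l0} : Set L0))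
      | add b c hb hc ihb ihc => exact add_mem ihb ihc
      | neg b hb ihb => exact neg_mem ihb
      | inv b hb ihb => exact inv_mem ihb
      | mul b c hb hc ihb ihc => exact mul_mem ihb ihc
    haveI : CharP L0 p := (L0.subtype.charP_iff L0.subtype.injective _).2 inferInstance
    have h20 : (2 : L0) ≠ 0 := fun e => h2L (by
      have := congrArg L0.subtype e
      rwa [map_ofNat, map_zero] at this)
    set ι0 : SL2F L0 →* SL2F L := Matrix.SpecialLinearGroup.map L0.subtype with hι0
    have hι : ∀ z : L0, ι0 (trA z) = trA (z : L) := fun z => Subtype.ext (by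
      ext i j
      show L0.subtype ((trA z).1 i j) = (trA (z : L)).1 i j
      fin_cases i <;> fin_cases j <;> simp [trA])
    rcases transv_image_cases p h20 hp2 (l := l0) (fun e => hl (congrArg Subtype.val e)) hgen with h | ⟨-, hl2⟩
    swap
    · exact absurd (congrArg Subtype.val hl2) ha
    have hm : slToG2 (trA (1 : L0)) ∈ (Subgroup.closure {trA l0, (trB : SL2F L0)}).map slToG2 := by
      rw [h, ← slToG2_range]; exact ⟨_, rfl⟩
    obtain ⟨g, hg, hge⟩ := hm
    have hle : Subgroup.closure {trA l0, (trB : SL2F L0)} ≤ (π.rho (hN := hN) (hY := hY)).range.comap ι0 := by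
      rw [Subgroup.closure_le]
      rintro _ (rfl | rfl)
      · exact ⟨⟨one1 N hN a, mem_EG_left a⟩, by rw [π.rho_left, hι]⟩
      · refine ⟨⟨one1 Y hY 1, mem_EG_right 1⟩, ?_⟩
        rw [π.rho_right, map_one]
        exact Subtype.ext (by
          ext i j
          show (trC (1 : L)).1 i j = L0.subtype ((trB : SL2F L0).1 i j)
          fin_cases i <;> fin_cases j <;> simp [trC, trB])
    have hgp : g ^ (p + 1) = trA (1 : L0) := by
      set z := g * (trA (1 : L0))⁻¹ with hz
      have hz1 : slToG2 z = 1 := by rw [hz, map_mul, map_inv, hge, mul_inv_cancel]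
      have hzz := slToG2_eq_one z hz1
      clear_value z
      have hcomm : Commute z (trA (1 : L0)) := Subtype.ext (by
        rw [Matrix.SpecialLinearGroup.coe_mul, Matrix.SpecialLinearGroup.coe_mul]
        rcases hzz with e | e <;> simp [e])
      have hzp : z ^ (p + 1) = 1 := Subtype.ext (by
        rw [Matrix.SpecialLinearGroup.coe_pow]
        rcases hzz with e | e
        · rw [e, one_pow]; rfl
        · rw [e, (((Fact.out : p.Prime).odd_of_ne_two hp2).add_one).neg_one_pow]; rfl)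
      have e : g = z * trA (1 : L0) := by rw [hz, inv_mul_cancel_right]
      rw [e, hcomm.mul_pow, hzp, one_mul, trA_pow, Nat.cast_succ, CharP.cast_eq_zero, zero_add, one_mul]
    obtain ⟨h', hh'⟩ := hle (pow_mem hg (p + 1))
    rw [hgp, hι, OneMemClass.coe_one] at hh'
    obtain ⟨c, hc, -⟩ := param_pair hp h2 φ π π (h := h') ⟨1, hh'.symm⟩ ⟨1, hh'.symm⟩
    rw [hh'] at hc
    have h1 := trA_inj hc
    refine ⟨c⁻¹, ?_⟩
    rw [map_inv₀, inv_eq_of_mul_eq_one_right h1.symm]
  -- they are equal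
  have huniq : ∀ π₁ π₂ : Pl φ N Y, π₁.l = π₂.l := by
    intro π₁ π₂
    by_contra hne
    obtain ⟨m₁, hm₁⟩ := hrat π₁
    obtain ⟨m₂, hm₂⟩ := hrat π₂
    have hm0 : m₁ ≠ 0 := fun e => π₁.hl0 (by rw [← hm₁, e, map_zero])
    have hm20 : m₂ ≠ 0 := fun e => π₂.hl0 (by rw [← hm₂, e, map_zero])
    have hl1 := π₁.hl0
    set q := Fintype.card F with hqdef
    obtain ⟨n, -, hqf⟩ := FiniteField.card F p
    have hoddq : Odd q := by rw [hqdef, hqf]; exact ((Fact.out : p.Prime).odd_of_ne_two hp2).pow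
    set x : EG N Y hN hY := ⟨one1 N hN 1, mem_EG_left 1⟩ * ⟨one1 Y hY (-4 / m₁), mem_EG_right _⟩ with hx
    set μ : F := -2 / m₁ with hμ
    set h : EG N Y hN hY := ⟨one1 Y hY μ, mem_EG_right _⟩ * x ^ (q * q - 1) * (⟨one1 Y hY μ, mem_EG_right _⟩)⁻¹ with hh
    have hb : φ (-4 / m₁) = -4 / π₁.l := by rw [map_div₀, map_neg, map_ofNat, hm₁]
    have hρx : ∀ π : Pl φ N Y, (π.rho x).1 = !![1 + π.l * (-4 / π₁.l), π.l; -4 / π₁.l, 1] := fun π => by
      rw [hx, map_mul, π.rho_left, π.rho_right, map_one, one_mul, hb, Matrix.SpecialLinearGroup.coe_mul]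
      simp [trA, trC, Matrix.mul_fin_two]
    have hρ2 : π₂.rho h = trA 0 := by
      have hs : π₂.rho x ^ (q * q - 1) = 1 := by
        refine pow_semisimple p h2L _ (f := n) hqf hoddq ?_ ?_
        · rw [hρx π₂]
          simp only [Matrix.of_apply, Matrix.cons_val', Matrix.cons_val_zero, Matrix.cons_val_one,
            Matrix.cons_val_fin_one]
          rw [show 1 + π₂.l * (-4 / π₁.l) + 1 = φ (1 + m₂ * (-4 / m₁) + 1) by
            rw [map_add, map_add, map_mul, map_one, hb, hm₂], ← map_pow, FiniteField.pow_card]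
        · rw [hρx π₂]
          simp only [Matrix.of_apply, Matrix.cons_val', Matrix.cons_val_zero, Matrix.cons_val_one,
            Matrix.cons_val_fin_one]
          intro e
          have e' : (π₂.l * (-4 / π₁.l)) * (π₂.l * (-4 / π₁.l) + 4) = 0 := by linear_combination e
          have h4 : (4 : L) ≠ 0 := by rw [show (4 : L) = 2 * 2 by norm_num]; exact mul_ne_zero h2L h2L
          rcases mul_eq_zero.1 e' with e1 | e1
          · exact mul_ne_zero π₂.hl0 (div_ne_zero (neg_ne_zero.2 h4) hl1) e1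
          · apply hne
            have e2 := congrArg (· * π₁.l) e1
            simp only [add_mul, mul_assoc, div_mul_cancel₀ _ hl1, zero_mul] at e2
            have : (4 : L) * (π₁.l - π₂.l) = 0 := by linear_combination e2
            exact sub_eq_zero.1 ((mul_eq_zero.1 this).resolve_left h4)
      rw [hh, map_mul, map_mul, map_inv, map_pow, hs, mul_one, mul_inv_cancel, trA_zero]
    have hρ1 : π₁.rho h = trA π₁.l := by
      obtain ⟨k, hk⟩ : ∃ k, q * q - 1 = 2 * k := by
        obtain ⟨r, hr⟩ := hoddq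
        exact ⟨2 * r * r + 2 * r, by rw [hr]; ring_nf; omega⟩
      have hk1 : (2 * k : L) = -1 := by
        have hq0 : ((q * q : ℕ) : L) = 0 := by
          rw [Nat.cast_mul, hqdef, ← map_natCast φ, FiniteField.cast_card_eq_zero, map_zero, mul_zero]
        have : q * q = 2 * k + 1 := by
          have : 1 ≤ q * q := by nlinarith
          omega
        rw [this, Nat.cast_add, Nat.cast_mul, Nat.cast_one, Nat.cast_ofNat] at hq0
        linear_combination hq0
      have hp' : (π₁.rho x ^ (2 * k)).1 = 1 + (-1 : L) • (-(π₁.rho x).1 - 1) := by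
        rw [pow_parabolic _ ?_ k, hk1]
        rw [hρx π₁]
        simp only [Matrix.of_apply, Matrix.cons_val', Matrix.cons_val_zero, Matrix.cons_val_one,
          Matrix.cons_val_fin_one]
        rw [mul_div_cancel₀ _ hl1]
        ring
      refine Subtype.ext ?_
      rw [hh, map_mul, map_mul, map_inv, map_pow, π₁.rho_right, hk, Matrix.SpecialLinearGroup.coe_mul,
        Matrix.SpecialLinearGroup.coe_mul, hp', Matrix.SpecialLinearGroup.coe_inv, hρx π₁, hμ, map_div₀, map_neg,
        map_ofNat, hm₁]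
      exact conj_parabolic π₁.hl0
    obtain ⟨c, hc1, hc2⟩ := param_pair hp h2 φ π₁ π₂ (h := h) ⟨_, hρ1.symm⟩ ⟨_, hρ2.symm⟩
    rw [hρ1] at hc1
    rw [hρ2] at hc2
    have a1 := trA_inj hc1
    have a2 := (trA_inj hc2).symm
    rw [(mul_eq_zero.1 a2).resolve_right π₂.hl0, zero_mul] at a1
    exact hl1 a1
  obtain ⟨l', hl', hroot⟩ : ∃ l : L, l ≠ 0 ∧ (C.charpoly.map φ).IsRoot l := by
    by_contra hcon
    push Not at hcon
    have hz : ∀ r ∈ (C.charpoly.map φ).roots, r = 0 := fun r hr => by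
      by_contra h
      exact hcon r h (Polynomial.isRoot_of_mem_roots hr)
    have h1 := hsp.eq_prod_roots_of_monic ((C.charpoly_monic).map φ)
    rw [Multiset.map_congr rfl (g := fun _ : L => (Polynomial.X : Polynomial L))
      (fun r hr => by rw [hz r hr, map_zero, sub_zero]), Multiset.map_const',
      Multiset.prod_replicate] at h1
    refine hn ⟨(C.charpoly.map φ).roots.card, ?_⟩
    have hX : C.charpoly = Polynomial.X ^ (C.charpoly.map φ).roots.card := Polynomial.map_injective φ φ.injective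
      (by rw [Polynomial.map_pow, Polynomial.map_X]; exact h1)
    have h0 := C.aeval_self_charpoly
    rw [hX, map_pow, Polynomial.aeval_X] at h0
    exact h0
  obtain ⟨π₀, hπ₀⟩ := exists_pl hN hY hl' hroot
  obtain ⟨l, hl⟩ := hrat π₀
  rw [hπ₀] at hl
  refine ⟨l, (C.charpoly.map φ).roots.card, fun e => hl' (by rw [← hl, e, map_zero]), ?_⟩
  set P0 : Polynomial L := Polynomial.X * (Polynomial.X - Polynomial.C l') with hP0
  have hdvd : C.charpoly.map φ ∣ P0 ^ (C.charpoly.map φ).roots.card := by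
    nth_rewrite 1 [hsp.eq_prod_roots_of_monic ((C.charpoly_monic).map φ)]
    rw [← Multiset.prod_replicate, ← Multiset.map_const']
    refine Multiset.prod_dvd_prod_of_dvd _ _ fun r hr => ?_
    by_cases hr0 : r = 0
    · rw [hr0, map_zero, sub_zero]; exact dvd_mul_right _ _
    · obtain ⟨π, hπ⟩ := exists_pl hN hY hr0 (Polynomial.isRoot_of_mem_roots hr)
      rw [← hπ, huniq π π₀, hπ₀]
      exact dvd_mul_left _ _
  have hmap : P0 ^ (C.charpoly.map φ).roots.card =
      ((Polynomial.X * (Polynomial.X - Polynomial.C l)) ^ (C.charpoly.map φ).roots.card).map φ := by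
    rw [Polynomial.map_pow, Polynomial.map_mul, Polynomial.map_sub, Polynomial.map_X, Polynomial.map_C, hl, hP0]
  rw [hmap, Polynomial.map_dvd_map φ φ.injective C.charpoly_monic] at hdvd
  obtain ⟨R, hR⟩ := hdvd
  have h0 := congrArg (Polynomial.aeval C) hR
  rw [map_mul, C.aeval_self_charpoly, zero_mul, mul_pow, map_mul, map_pow, map_pow, Polynomial.aeval_X, map_sub,
    Polynomial.aeval_X, Polynomial.aeval_C, Algebra.algebraMap_eq_smul_one] at h0
  exact h0

end CfsgLib.Perm.Trans.TensorPowerSp
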