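import Cfsg.Agent.Lib.Perm.Trans.TensorPowerSp.Closure
import Cfsg.Agent.Lib.Perm.Trans.TensorPowerSp.Max
import Cfsg.Agent.Lib.Perm.Asch.Forms.SpLemmas

/-!
# The stabiliser of a symplectic tensor power is maximal in the orthogonal group of plus type
-/

set_option autoImplicit false
set_option linter.all false

namespace CfsgLib.Perm.Trans.TensorPowerSp

open scoped Matrix
open Matrix Cfsg.Geo CfsgLib.Perm.Asch CfsgLib.Perm.Trans CfsgLib.Perm.Trans.TensorPower CfsgLib.Perm.Trans.Quad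

variable {F : Type*} [Field F] [Fintype F] {n s : ℕ} {k : F} {R : ((Fin (s + 1) → Ix n) → F) → F}

/-- an element of `Ω` outside the wreath subgroup -/
theorem exists_outsideQ (h : TQ n (s + 1) k R) (hn : 1 ≤ n ∨ 3 ≤ s) :
    ∃ g ∈ omegaGL R, g ∉ tensorWreathStandard (2 * n + 2) (s + 1) F := by
  classical
  have hs := h.one_le
  set o : Fin (s + 1) → Ix n := fun _ => 0 with ho
  set d : Fin (s + 1) := ⟨0, by omega⟩ with hd
  set d' : Fin (s + 1) := ⟨1, by omega⟩ with hd'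
  have hdd : d ≠ d' := fun e => by simpa [hd, hd'] using congrArg Fin.val e
  obtain ⟨w, hw1, hwd, hwd'⟩ : ∃ w : Fin (s + 1) → Ix n, (∃ l, w l ≠ 1) ∧ w d ≠ 0 ∧ w d' ≠ 0 := by
    rcases hn with hn | hs3
    · set a : Ix n := ⟨2, by omega⟩ with ha
      exact ⟨fun _ => a, ⟨d, fun e => by simpa [ha] using congrArg Fin.val e⟩,
        fun e => by simpa [ha] using congrArg Fin.val e, fun e => by simpa [ha] using congrArg Fin.val e⟩
    · set d'' : Fin (s + 1) := ⟨2, by omega⟩ with hd''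
      exact ⟨Function.update (fun _ => 1) d'' 0, ⟨d'', by simp⟩,
        by rw [Function.update_of_ne (fun e => by simpa [hd, hd''] using congrArg Fin.val e)]; simp,
        by rw [Function.update_of_ne (fun e => by simpa [hd', hd''] using congrArg Fin.val e)]; simp⟩
  have hwo : w ≠ o := fun e => hwd (congrFun e d)
  have hso : sT n (s + 1) o = fun _ => 1 := funext fun _ => s1_zero
  have hws : w ≠ sT n (s + 1) o := fun e => by
    obtain ⟨l, hl⟩ := hw1
    exact hl (by rw [e, hso])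
  set y := sT n (s + 1) w with hy
  have hinv := (sgT (F := F) (n := n) (t := s + 1)).inv
  have hua : QuadraticMap.polar R (bv o) (bv y) = 0 := h.pol_bv_eq fun e => hwo (hinv.injective e)
  obtain ⟨g, hg, hgE⟩ := ein_omega h.nd h.card (h.bv_zero o) hua
  refine ⟨g, hg, fun htw => ?_⟩
  set μ := QuadraticMap.polar R (bv w) (bv y) with hμ
  have hμ0 : μ ≠ 0 := by
    rw [hμ, h.pol_bv, bv, hy, Pi.single_eq_same, mul_one]
    refine mul_ne_zero h.k0 fun e0 => ?_
    simpa [e0] using (sgT (F := F) (n := n) (t := s + 1)).sq w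
  have hgw : (g : Matrix (Fin (s + 1) → Ix n) (Fin (s + 1) → Ix n) F) *ᵥ bv w = bv w - μ • bv o := by
    have h1 : QuadraticMap.polar R (bv w) (bv o) = 0 :=
      h.pol_bv_eq fun e => hws (by rw [e, hinv])
    rw [hgE, h1, ← hμ, mul_zero, zero_smul, zero_smul, add_zero, sub_zero]
  obtain ⟨π, A, rfl⟩ := tw_shape htw
  obtain ⟨v, hv⟩ : ∃ v : Fin (s + 1) → Ix n → F, bv w - μ • bv o = TensorPower.pv v := by
    refine ⟨fun l => (fun i => (A i).val *ᵥ Pi.single (w i) 1) (π.symm l), hgw.symm.trans ?_⟩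
    rw [Units.val_mul, ← mulVec_mulVec, pureGL_coe, bv, pi_single_pv, pure_pv, permGL_coe]
    exact permMat_mulVec_pv π _
  have hval : ∀ z, TensorPower.pv v z = bv w z - μ * bv o z := fun z => (congrFun hv z).symm
  have hnz : ∀ {z}, TensorPower.pv v z ≠ 0 → ∀ l, v l (z l) ≠ 0 := fun {z} hz l e =>
    hz (Finset.prod_eq_zero (Finset.mem_univ l) e)
  have h1 : TensorPower.pv v w ≠ 0 := by
    rw [hval]; simp [bv, Pi.single_eq_of_ne hwo]
  have h3 : TensorPower.pv v o ≠ 0 := by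
    rw [hval]; simp [bv, Pi.single_eq_of_ne hwo.symm, hμ0]
  set z := Function.update o d (w d) with hz
  have h4 : TensorPower.pv v z ≠ 0 := Finset.prod_ne_zero_iff.2 fun l _ => by
    rcases eq_or_ne l d with rfl | hl
    · rw [hz, Function.update_self]; exact hnz h1 _
    · rw [hz, Function.update_of_ne hl]; exact hnz h3 _
  refine h4 ?_
  rw [hval]
  have hzw : z ≠ w := fun e => hwd' (by rw [← e, hz, Function.update_of_ne hdd.symm])
  have hzo : z ≠ o := fun e => hwd (by simpa [hz, ho] using congrFun e d)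
  simp [bv, Pi.single_eq_of_ne hzw, Pi.single_eq_of_ne hzo]

/-- the statement in standard coordinates -/
theorem plus_maximal_std (h : TQ n (s + 1) k R) (hd : (2 : F) ≠ 0 ∨ ((2 : F) = 0 ∧ 2 ≤ n))
    (hq : 1 ≤ n ∨ 3 < Fintype.card F) (hn : 1 ≤ n ∨ 3 ≤ s) :
    IsMaximalIn (omegaGL R) (tensorWreathStandard (2 * n + 2) (s + 1) F ⊓ omegaGL R) := by
  refine ⟨lt_of_le_not_ge inf_le_right fun hle => ?_, fun M hHM hMK => ?_⟩
  · obtain ⟨g, hg, hgn⟩ := exists_outsideQ h hn
    exact hgn (hle hg).1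
  by_cases hK : omegaGL R ≤ M
  · exact Or.inr (le_antisymm hMK hK)
  refine Or.inl (le_antisymm (le_inf ?_ hMK) hHM)
  have hMi : M ≤ Cfsg.isometryGroup F R := hMK.trans omegaGL_le_iso
  have hB : HasSBase M := fun A hA => hHM ⟨pure_mem_tw _, h.pure_omega hA⟩
  have hP : 3 ≤ s + 1 → HasSPerms M := fun hs π => hHM ⟨perm_mem_tw _, h.perm_omega (by omega) π⟩
  have hS : 3 ≤ s + 1 → HasSSim M := fun hs A hA => hHM ⟨pure_mem_tw _, h.sim_omega (by omega) hA⟩
  have hscal : Scal M := by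
    intro j C hC hm
    obtain ⟨Z, rfl⟩ := eq_emb j hC
    by_contra hcon
    push Not at hcon
    exact hK (omega_le_of_seed h hMi hB hP hn (seed_of_nonscalar h hd hB hP hMi (mem_smallS.2 hm)
      fun c hc => hcon c (by rw [hc, map_smul, map_one])))
  exact le_twS s M ⟨hd, hq, hB, hS, hP, hMi.trans h.iso_le, hscal⟩

theorem omegaGL_eq_comm {ι : Type} [Fintype ι] [DecidableEq ι] (Q : (ι → F) → F) :
    omegaGL Q = ⁅Cfsg.isometryGroup F Q, Cfsg.isometryGroup F Q⁆ := by
  rw [omegaGL]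
  exact Subgroup.map_subtype_commutator _

/-- the statement in arbitrary coordinates -/
theorem plus_tensor_wreath_maximal {ι : Type} [Fintype ι] [DecidableEq ι] {t : ℕ} (hd : (2 : F) ≠ 0 ∨ ((2 : F) = 0 ∧ 2 ≤ n))
    (hq : 1 ≤ n ∨ 3 < Fintype.card F) (ht : 2 ≤ t) (hn : 1 ≤ n ∨ 4 ≤ t) (hpar : (2 : F) = 0 ∨ Even t)
    (hcard : 5 ≤ Fintype.card ι) {Q : (ι → F) → F} (hQ : IsNondegenerateQuadraticForm Q)
    {f₁ : (Ix n → F) → (Ix n → F) → F} (hf₁ : IsSymplecticForm f₁) (e : ι ≃ (Fin t → Ix n)) (P : GL ι F)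
    (hT : IsTensorPowerFormStructure id (QuadraticMap.polar Q) f₁ e P)
    (hpure : ∀ xs : Fin t → (Ix n → F), Q ((P : Matrix ι ι F) *ᵥ ((fun a : Fin t → Ix n => ∏ i, xs i (a i)) ∘ e)) = 0) :
    IsMaximalIn (omegaGL Q) (tensorWreathSubgroup (2 * n + 2) t e P ⊓ omegaGL Q) := by
  classical
  obtain ⟨s, rfl⟩ : ∃ s, t = s + 1 := ⟨t - 1, by omega⟩
  obtain ⟨c, hc0, hT⟩ := hT
  simp only [id_eq] at hT
  obtain ⟨D, hD⟩ := exists_power_frameS (t := s + 1) hf₁
  set B : GL (Fin (s + 1) → Ix n) F := pureGL fun _ => D with hB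
  set P' : GL ι F := P * glReindex e.symm B⁻¹ with hP'
  let L : ((Fin (s + 1) → Ix n) → F) → (ι → F) := fun x => (P' : Matrix ι ι F) *ᵥ (x ∘ e)
  have hLadd : ∀ x y, L (x + y) = L x + L y := fun x y => by
    show _ *ᵥ ((x + y) ∘ e) = _ *ᵥ (x ∘ e) + _ *ᵥ (y ∘ e)
    rw [← mulVec_add]; rfl
  have hLsmul : ∀ (r : F) x, L (r • x) = r • L x := fun r x => by
    show _ *ᵥ ((r • x) ∘ e) = r • (_ *ᵥ (x ∘ e))
    rw [← mulVec_smul]; rfl
  set R : ((Fin (s + 1) → Ix n) → F) → F := fun x => Q (L x) with hR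
  have hRpol : ∀ x y, QuadraticMap.polar R x y = QuadraticMap.polar Q (L x) (L y) := fun x y => by
    simp only [QuadraticMap.polar, hR, hLadd]
  have hform' : ∀ x y, QuadraticMap.polar R x y = c * sform (eT n (s + 1) F) (sT n (s + 1)) x y := fun x y => by
    rw [hRpol]
    show QuadraticMap.polar Q (_ *ᵥ _) (_ *ᵥ _) = _
    rw [hP', Units.val_mul, ← mulVec_mulVec, ← mulVec_mulVec, glReindex_mulVecS, glReindex_mulVecS, hT, hD,
      mulVec_mulVec, mulVec_mulVec, gl_mul_inv, one_mulVec, one_mulVec]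
  set Φ : GL (Fin (s + 1) → Ix n) F ≃* GL ι F := (glReindex e.symm).trans (MulAut.conj P') with hΦ
  have hΦv : ∀ g x, (Φ g : Matrix ι ι F) *ᵥ L x =
      L ((g : Matrix (Fin (s + 1) → Ix n) (Fin (s + 1) → Ix n) F) *ᵥ x) := fun g x => by
    show ((P' * glReindex e.symm g * P'⁻¹ : GL ι F) : Matrix ι ι F) *ᵥ ((P' : Matrix ι ι F) *ᵥ (x ∘ e)) =
      (P' : Matrix ι ι F) *ᵥ _
    rw [Units.val_mul, Units.val_mul, ← mulVec_mulVec, ← mulVec_mulVec, mulVec_mulVec _ _ (P' : Matrix ι ι F),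
      gl_inv_mul, one_mulVec, glReindex_mulVecS]
  have hsurj : ∀ u : ι → F, ∃ x, u = L x := fun u =>
    ⟨(((P'⁻¹ : GL ι F) : Matrix ι ι F) *ᵥ u) ∘ e.symm, by
      show u = (P' : Matrix ι ι F) *ᵥ _
      rw [Function.comp_assoc, Equiv.symm_comp_self, Function.comp_id, mulVec_mulVec, gl_mul_inv, one_mulVec]⟩
  have h : TQ n (s + 1) c R := by
    refine
    { nd := ⟨fun r v => ?_, ⟨fun x y v => ?_, fun r x v => ?_, fun v x y => ?_, fun r v x => ?_⟩, fun v hv => ?_⟩
      k0 := hc0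
      pol := hform'
      base := fun x => ?_
      par := hpar
      two := ht
      card := by rwa [← Fintype.card_congr e] }
    · simp only [hR, hLsmul, hQ.smul]
    · simp only [hRpol, hLadd, hQ.polar_bilinear.add_left]
    · simp only [hRpol, hLsmul, hQ.polar_bilinear.smul_left]
    · simp only [hRpol, hLadd, hQ.polar_bilinear.add_right]
    · simp only [hRpol, hLsmul, hQ.polar_bilinear.smul_right]
    · have hv' : L v ≠ 0 := fun e0 => hv (by
        have h1 : (v ∘ e) = 0 := (gl_mulVec_eq_zero (g := P')).1 e0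
        funext a
        simpa using congrFun h1 (e.symm a))
      obtain ⟨⟨a, ha⟩, ⟨b, hb⟩⟩ := hQ.nondegenerate _ hv'
      obtain ⟨x, rfl⟩ := hsurj a
      obtain ⟨y, rfl⟩ := hsurj b
      exact ⟨⟨x, by rwa [hRpol]⟩, ⟨y, by rwa [hRpol]⟩⟩
    · show Q ((P' : Matrix ι ι F) *ᵥ _) = 0
      rw [hP', Units.val_mul, ← mulVec_mulVec, glReindex_mulVecS, pi_single_pv]
      have e2 : B⁻¹ = pureGL fun _ : Fin (s + 1) => D⁻¹ := by
        refine (eq_inv_of_mul_eq_one_left ?_).symm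
        rw [hB, pureGL_mul, show ((fun _ => D⁻¹) * fun _ => D : Fin (s + 1) → GL (Ix n) F) = 1 from
          funext fun _ => inv_mul_cancel D, pureGL_one]
      rw [e2, pureGL_coe, pure_pv]
      exact hpure _
  have hiso : ∀ g, Φ g ∈ Cfsg.isometryGroup F Q ↔ g ∈ Cfsg.isometryGroup F R := by
    intro g
    rw [Quad.mem_iso, Quad.mem_iso]
    constructor
    · intro hg x
      have := hg (L x)
      rwa [hΦv] at this
    · intro hg u
      obtain ⟨x, rfl⟩ := hsurj u
      rw [hΦv]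
      exact hg x
  have hI : (Cfsg.isometryGroup F R).map Φ.toMonoidHom = Cfsg.isometryGroup F Q := by
    ext g
    rw [Subgroup.mem_map_equiv, ← hiso, MulEquiv.apply_symm_apply]
  have hK : (omegaGL R).map Φ.toMonoidHom = omegaGL Q := by
    rw [omegaGL_eq_comm, omegaGL_eq_comm, Subgroup.map_commutator, hI]
  refine maximal_map Φ hK ?_ (plus_maximal_std h hd hq (hn.imp_right fun h4 => by omega))
  rw [Subgroup.map_inf _ _ _ Φ.injective, hK]
  congr 1
  have hfix : (tensorWreathStandard (2 * n + 2) (s + 1) F).map (MulAut.conj B⁻¹).toMonoidHom =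
      tensorWreathStandard (2 * n + 2) (s + 1) F := by
    have hQW : B ∈ tensorWreathStandard (2 * n + 2) (s + 1) F := pure_mem_tw _
    ext g
    rw [Subgroup.mem_map_equiv, MulAut.conj_symm_apply, inv_inv]
    constructor
    · intro hg
      have := mul_mem (mul_mem (inv_mem hQW) hg) hQW
      rwa [show B⁻¹ * (B * g * B⁻¹) * B = g by group] at this
    · exact fun hg => mul_mem (mul_mem hQW hg) (inv_mem hQW)
  rw [tensorWreathSubgroup]
  conv_rhs => rw [← hfix]
  rw [Subgroup.map_map, Subgroup.map_map]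
  congr 1
  refine MonoidHom.ext fun g => ?_
  show P' * glReindex e.symm g * P'⁻¹ = P * glReindex e.symm (B⁻¹ * g * B⁻¹⁻¹) * P⁻¹
  rw [inv_inv, hP', map_mul, map_mul, map_inv]
  group

end CfsgLib.Perm.Trans.TensorPowerSp
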