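import Cfsg.Agent.Lib.Perm.Trans.TensorPowerSp.Split

/-!
# Symplectic roots: centraliser and fusion
-/

set_option autoImplicit false
set_option linter.all false

namespace CfsgLib.Perm.Trans.TensorPowerSp

open scoped Matrix
open Matrix Cfsg.Geo CfsgLib.Perm.Asch CfsgLib.Perm.Trans CfsgLib.Perm.Trans.TensorPower

variable {F : Type*} [Field F] {n s t : ℕ}

/-- a root of the base group -/
def IsSRoot (r : GL (Fin t → Ix n) F) : Prop :=
  ∃ (i : Fin t) (u : Ix n → F) (hu : dual (e1 n F) (s1 n) u ⬝ᵥ u = 0) (c : F),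
    u ≠ 0 ∧ c ≠ 0 ∧ r = sl i (utv u hu c)

theorem root_coe {r : GL (Fin t → Ix n) F} {i : Fin t} {u : Ix n → F}
    {hu : dual (e1 n F) (s1 n) u ⬝ᵥ u = 0} {c : F} (he : r = sl i (utv u hu c)) :
    (r : Matrix (Fin t → Ix n) _ F) = 1 + c • slot i (vecMulVec u (dual (e1 n F) (s1 n) u)) := by
  rw [he, sl_coe, utv_coe, slot_add, slot_one, TensorPower.slot_smul]

theorem IsSRoot.mem_tw {r : GL (Fin t → Ix n) F} (hr : IsSRoot r) : r ∈ tensorWreathStandard (2 * n + 2) t F := by
  obtain ⟨i, u, hu, c, -, -, rfl⟩ := hr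
  exact sl_mem_tw i _

theorem IsSRoot.mem {M : Subgroup (GL (Fin t → Ix n) F)} (hB : HasSBase M)
    {r : GL (Fin t → Ix n) F} (hr : IsSRoot r) : r ∈ M := by
  obtain ⟨i, u, hu, c, -, -, rfl⟩ := hr
  exact hB.sl_mem i (utv_mem u hu c)

/-- a root becomes standard after a change inside the base group -/
theorem IsSRoot.to_standard {r : GL (Fin t → Ix n) F} (hr : IsSRoot r) :
    ∃ (i : Fin t) (A : GL (Ix n) F) (c : F), A ∈ u1 n F ∧ c ≠ 0 ∧ sl i A * r * (sl i A)⁻¹ = sl i (rt n c) := by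
  obtain ⟨i, u, hu, c, hu0, hc0, rfl⟩ := hr
  obtain ⟨A, hA, hAu⟩ := exists_move hu0
  refine ⟨i, A, -c, hA, neg_ne_zero.2 hc0, ?_⟩
  rw [sl_mul, ← sl_inv, sl_mul, utv_conj hA u hu (hu' := by rw [hAu]; exact e0_iso) c]
  congr 1
  exact Units.ext (by rw [utv_coe, rt_coe, hAu, vmv_e0, smul_neg, neg_smul])

/-! ### a shift by scalars -/

theorem eig_zero (hd : (2 : F) ≠ 0 ∨ ((2 : F) = 0 ∧ 2 ≤ n)) {l : Fin t} {Z : Matrix (Fin t → Ix n) (Fin t → Ix n) F} {k c : F}
    (hc : cj (sl l (rt n k)) Z = Z + c • 1) : c = 0 := by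
  have e := fixed_eq (rt_coe k) hc
  rw [TensorPower.slot_smul, slot_single_smul, one_smul] at e
  rcases hd with h2 | ⟨-, hn⟩
  swap
  · have hu : ((⟨2, by omega⟩ : Ix n)) ≠ 0 ∧ ((⟨2, by omega⟩ : Ix n)) ≠ 1 :=
      ⟨fun e => by simpa using congrArg Fin.val e, fun e => by simpa using congrArg Fin.val e⟩
    have haa := congrArg (blk l ⟨2, by omega⟩ ⟨2, by omega⟩) e
    simp only [blk_sub, blk_add, blk_smul, Matrix.smul_mul, Matrix.mul_smul, blk_sx_left, blk_sx_right, blk_one,
      blk_sx, smul_sub, smul_add] at haa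
    simp [hu.1, hu.2] at haa
    exact (smul_eq_zero.1 haa.symm).resolve_right one_mat_ne
  have h00 := congrArg (blk l 0 0) e
  have h11 := congrArg (blk l 1 1) e
  simp only [blk_sub, blk_add, blk_smul, Matrix.smul_mul, Matrix.mul_smul, blk_sx_left, blk_sx_right, blk_one,
    blk_sx, smul_sub, smul_add] at h00 h11
  simp at h00 h11
  have : (2 : F) • (c • (1 : Matrix (Fin t → Ix n) (Fin t → Ix n) F)) = 0 := by
    rw [two_smul]; nth_rewrite 1 [← h00]; rw [← h11]; abel
  rw [smul_smul, smul_eq_zero] at this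
  exact (mul_eq_zero.1 (this.resolve_right one_mat_ne)).resolve_left h2

/-- what commutes with the transvections of a factor commutes with the factor -/
theorem cm_of_transvections {l : Fin t} {C : Matrix (Fin t → Ix n) (Fin t → Ix n) F}
    (h : ∀ u : Ix n → F, slot l (vecMulVec u (dual (e1 n F) (s1 n) u)) * C =
      C * slot l (vecMulVec u (dual (e1 n F) (s1 n) u))) : Cm l C := by
  classical
  let Q : Matrix (Ix n) (Ix n) F → Prop := fun X => slot l X * C = C * slot l X
  have qmul : ∀ {X Y}, Q X → Q Y → Q (X * Y) := fun {X Y} hX hY => by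
    show slot l (X * Y) * C = C * slot l (X * Y)
    rw [← slot_mul, mul_assoc, hY, ← mul_assoc, hX, mul_assoc]
  have qadd : ∀ {X Y}, Q X → Q Y → Q (X + Y) := fun {X Y} hX hY => by
    show slot l (X + Y) * C = C * slot l (X + Y)
    rw [slot_add, add_mul, mul_add, hX, hY]
  have qsmul : ∀ {X} (c : F), Q X → Q (c • X) := fun {X} c hX => by
    show slot l (c • X) * C = C * slot l (c • X)
    rw [TensorPower.slot_smul, Matrix.smul_mul, Matrix.mul_smul, hX]
  have q01 : Q (Matrix.single 0 1 1) := by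
    have := qsmul (-1 : F) (h (Pi.single 0 1))
    rwa [vmv_e0, smul_neg, neg_one_smul, neg_neg] at this
  have q10 : Q (Matrix.single 1 0 1) := by
    have := h (Pi.single 1 1)
    rwa [dual_e1', vmv_single2, one_mul] at this
  have q00 : Q (Matrix.single 0 0 1) := by
    have := qmul q01 q10
    rwa [Matrix.single_mul_single_same, one_mul] at this
  have q11 : Q (Matrix.single 1 1 1) := by
    have := qmul q10 q01
    rwa [Matrix.single_mul_single_same, one_mul] at this
  have qmid : ∀ a : Ix n, a ≠ 0 → a ≠ 1 → Q (Matrix.single a 0 1) ∧ Q (Matrix.single 0 (s1 n a) 1) := by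
    intro a ha0 ha1
    obtain ⟨hb0, hb1⟩ := s1_mid ha0 ha1
    have hW : Q (-Matrix.single a 1 1 + Matrix.single 0 (s1 n a) (e1 n F (s1 n a))) := by
      have := qadd (h (Pi.single 0 1 + Pi.single a 1)) (qsmul (-1 : F) (qadd (h (Pi.single 0 1)) (h (Pi.single a 1))))
      simp only [dual_add, vecMulVec_add, add_vecMulVec, neg_one_smul] at this
      convert this using 1
      rw [dual_e0, dual_single sg1, vecMulVec_neg, vecMulVec_neg, vmv_single2, vmv_single2, vmv_single2, vmv_single2]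
      simp only [mul_one, one_mul]
      abel
    have hne : e1 n F (s1 n a) ≠ 0 := e1_ne _
    constructor
    · have := qsmul (-1 : F) (qmul hW q10)
      rwa [add_mul, neg_mul, Matrix.single_mul_single_same, Matrix.single_mul_single_of_ne (h := hb1),
        add_zero, mul_one, smul_neg, neg_one_smul, neg_neg] at this
    · have := qsmul (e1 n F (s1 n a))⁻¹ (qmul q01 (qmul q10 hW))
      rwa [mul_add, mul_neg, Matrix.single_mul_single_of_ne (h := ha0.symm), neg_zero, zero_add,
        Matrix.single_mul_single_same, Matrix.single_mul_single_same, one_mul, one_mul, Matrix.smul_single, smul_eq_mul,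
        inv_mul_cancel₀ hne] at this
  have qx0 : ∀ x, Q (Matrix.single x 0 1) := fun x => by
    by_cases h0 : x = 0
    · subst h0; exact q00
    by_cases h1 : x = 1
    · subst h1; exact q10
    exact (qmid x h0 h1).1
  have q0y : ∀ y, Q (Matrix.single 0 y 1) := fun y => by
    by_cases h0 : y = 0
    · subst h0; exact q00
    by_cases h1 : y = 1
    · subst h1; exact q01
    have := (qmid (s1 n y) (s1_mid h0 h1).1 (s1_mid h0 h1).2).2
    rwa [s1_inv] at this
  intro x y
  have := qmul (qx0 x) (q0y y)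
  rw [Matrix.single_mul_single_same, one_mul] at this
  exact this

/-- the induction hypothesis on the number of factors -/
def InnerS (n s : ℕ) (F : Type*) [Field F] [Fintype F] : Prop :=
  ∀ K : Subgroup (GL (Fin s → Ix n) F), SCtx K → K ≤ tensorWreathStandard (2 * n + 2) s F

/-- the overgroup on the other factors -/
def dropS (M : Subgroup (GL (Fin (s + 1) → Ix n) F)) (j : Fin (s + 1)) : Subgroup (GL (Fin s → Ix n) F) where
  carrier := {b | ∃ a : GL (Ix n) F, a ∈ u1 n F ∧ sl j a * embGL j b ∈ M}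
  one_mem' := ⟨1, one_mem _, by rw [sl_one, map_one, one_mul]; exact M.one_mem⟩
  mul_mem' := by
    rintro b b' ⟨a, ha, hab⟩ ⟨a', ha', hab'⟩
    refine ⟨a * a', mul_mem ha ha', ?_⟩
    have e : sl j (a * a') * embGL j (b * b') = sl j a * embGL j b * (sl j a' * embGL j b') := by
      rw [← sl_mul, map_mul]
      simp only [mul_assoc]
      rw [← mul_assoc (sl j a'), embGL_comm, mul_assoc]
    rw [e]; exact M.mul_mem hab hab'
  inv_mem' := by
    rintro b ⟨a, ha, hab⟩
    refine ⟨a⁻¹, inv_mem ha, ?_⟩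
    have e : sl j a⁻¹ * embGL j b⁻¹ = (sl j a * embGL j b)⁻¹ := by
      rw [embGL_comm j a b, _root_.mul_inv_rev, sl_inv, map_inv]
    rw [e]; exact M.inv_mem hab

theorem emb_slot (j : Fin (s + 1)) (l : Fin s) (X : Matrix (Ix n) (Ix n) F) :
    emb j (slot l X) = slot (j.succAbove l) X := by
  rw [slot, slot, emb_pure]
  congr 1
  funext k
  rcases Fin.eq_self_or_eq_succAbove j k with rfl | ⟨i, rfl⟩
  · rw [Fin.insertNth_apply_same, Pi.mulSingle_eq_of_ne (Fin.ne_succAbove k l)]
  · rw [Fin.insertNth_apply_succAbove]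
    rcases eq_or_ne i l with rfl | hi
    · simp
    · rw [Pi.mulSingle_eq_of_ne hi, Pi.mulSingle_eq_of_ne (Fin.succAbove_right_injective.ne hi)]

theorem perm_tw {j : Fin (s + 1)} {b : GL (Fin s → Ix n) F} (a : GL (Ix n) F)
    (hb : b ∈ tensorWreathStandard (2 * n + 2) s F) :
    sl j a * embGL j b ∈ tensorWreathStandard (2 * n + 2) (s + 1) F := by
  obtain ⟨π, A, rfl⟩ := tw_shape hb
  obtain ⟨π', hj, hπ⟩ := exists_extend j π
  rw [map_mul, embGL_perm j π π' hj hπ, embGL_pure]
  exact mul_mem (sl_mem_tw j a) (mul_mem (perm_mem_tw π') (pure_mem_tw _))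

variable [Fintype F] {M : Subgroup (GL (Fin (s + 1) → Ix n) F)}

local notation "BMat" => Matrix (Fin (s + 1) → Ix n) (Fin (s + 1) → Ix n) F

theorem SCtx.drop_scal (h : SCtx M) (j : Fin (s + 1)) : Scal (dropS M j) := by
  classical
  intro l C hC hm
  obtain ⟨b, ⟨a, ha, hab⟩, hbe⟩ := hm
  haveI : Nonempty (Ix n) := ⟨0⟩
  suffices hcm : ∀ k, k ≠ l → Cm k C by
    refine scalar_of_commute_slots C fun i p q => ?_
    rcases eq_or_ne i l with rfl | hi
    · exact (hC p q).symm
    · exact (hcm i hi p q).symm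
  intro k hk
  have hsh : ∀ T : GL (Ix n) F, T ∈ u1 n F → ∃ c : F, cj (sl k T) C = C + c • 1 := by
    intro T hT
    set D := C - cj (sl k T) C with hD
    have hfix : cj (sl k T) (sx l 0 1) = (sx l 0 1 : Matrix (Fin s → Ix n) (Fin s → Ix n) F) := cj_sl_slot_ne hk T _
    have hDc : Cm l D := fun u v => by
      rw [hD, mul_sub, sub_mul, hC, cm_cj (fun p q => cj_sl_slot_ne hk T _) hC]
    have hval : ((b * (sl k T * b⁻¹ * (sl k T)⁻¹) : GL (Fin s → Ix n) F) : Matrix (Fin s → Ix n) _ F) =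
        1 + sx l 0 1 * D := by
      have hsz : ∀ X, sx l 0 1 * C * (sx l 0 1 * X) = 0 := fun X => by rw [sxm_mul hC, if_neg (by simp)]
      rw [Units.val_mul, ← cj_coe, inv_one_add hbe (hsz C), hbe, cj_sub, cj_one, cj_mul, hfix, add_mul, one_mul,
        mul_sub, mul_one, hsz, sub_zero, hD, mul_sub]
      abel
    have hmem : embGL j (b * (sl k T * b⁻¹ * (sl k T)⁻¹)) ∈ M := by
      have hTm : embGL j (sl k T) ∈ M := by rw [embGL_sl]; exact h.base.sl_mem _ hT
      have e : embGL j (b * (sl k T * b⁻¹ * (sl k T)⁻¹)) =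
          sl j a * embGL j b * (embGL j (sl k T) * (sl j a * embGL j b)⁻¹ * (embGL j (sl k T))⁻¹) := by
        have h1 : Commute (sl j a) (embGL j b) := embGL_comm j a b
        have h2 : Commute (sl j a) (embGL j (sl k T)) := embGL_comm j a _
        simp only [map_mul, map_inv, _root_.mul_inv_rev]
        calc embGL j b * (embGL j (sl k T) * (embGL j b)⁻¹ * (embGL j (sl k T))⁻¹)
            = sl j a * (embGL j b * (embGL j (sl k T) * (embGL j b)⁻¹ * (embGL j (sl k T))⁻¹)) * (sl j a)⁻¹ := by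
              rw [(h1.mul_right ((h2.mul_right h1.inv_right).mul_right h2.inv_right)).eq, mul_inv_cancel_right]
          _ = _ := by
              rw [show sl j a * (embGL j b * (embGL j (sl k T) * (embGL j b)⁻¹ * (embGL j (sl k T))⁻¹)) * (sl j a)⁻¹ =
                sl j a * embGL j b * (embGL j (sl k T) * (embGL j b)⁻¹ * ((embGL j (sl k T))⁻¹ * (sl j a)⁻¹)) by
                  simp only [mul_assoc]]
              rw [← (h2.inv_inv).eq]
              simp only [mul_assoc]
      rw [e]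
      exact M.mul_mem hab (M.mul_mem (M.mul_mem hTm (M.inv_mem hab)) (M.inv_mem hTm))
    obtain ⟨c, hc⟩ := h.scal (j.succAbove l) (emb j D) (fun u v => by
      rw [sx, ← emb_slot, ← map_mul, ← map_mul]
      exact congrArg (emb j) (hDc u v)) ⟨_, hmem, by
      rw [embGL_coe, hval, map_add, map_one, map_mul, sx, emb_slot]; rfl⟩
    have hDe : D = c • 1 := emb_injective j (by rw [hc, map_smul, map_one])
    refine ⟨-c, ?_⟩
    rw [neg_smul, ← hDe, hD, neg_sub, add_sub_cancel]
  have hrt : ∀ x : F, cj (sl k (rt n x)) C = C := fun x => by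
    obtain ⟨c, hc⟩ := hsh _ (rt_mem x)
    rw [hc, eig_zero h.dich hc, zero_smul, add_zero]
  refine cm_of_transvections fun u => ?_
  rcases eq_or_ne u 0 with rfl | hu
  · rw [show vecMulVec (0 : Ix n → F) (dual (e1 n F) (s1 n) 0) = 0 by ext; simp [vecMulVec_apply], slot_zero, zero_mul,
      mul_zero]
  obtain ⟨A, hA, hAu⟩ := exists_move hu
  obtain ⟨α, hα⟩ := hsh _ hA
  have hT : cj (sl k (utv u (iso1 u) 1)) C = C := by
    have e : sl k A * sl k (utv u (iso1 u) 1) * (sl k A)⁻¹ = sl (t := s) k (rt n (-1)) := by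
      rw [sl_mul, ← sl_inv, sl_mul, utv_conj hA u _ (hu' := by rw [hAu]; exact e0_iso) 1]
      congr 1
      exact Units.ext (by rw [utv_coe, rt_coe, hAu, vmv_e0, smul_neg, neg_smul])
    have h1 := hrt (-1)
    rw [← e, ← cj_cj, ← cj_cj] at h1
    apply cj_injective (sl k A)
    calc cj (sl k A) (cj (sl k (utv u (iso1 u) 1)) C)
        = cj (sl k A) (cj (sl k (utv u (iso1 u) 1)) (cj (sl k A)⁻¹ (C + α • 1))) := by
          rw [← hα, cj_inv_cj]
      _ = cj (sl k A) C := by
          simp only [cj_add, cj_smul, cj_one]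
          rw [h1, hα]
  have e := fixed_eq (utv_coe u (iso1 u) 1) (c := (0 : F)) (by rw [hT, zero_smul, add_zero])
  rw [one_smul, zero_smul, sub_eq_zero] at e
  exact e

theorem SCtx.drop (h : SCtx M) (j : Fin (s + 1)) : SCtx (dropS M j) where
  dich := h.dich
  hq := h.hq
  base := fun A hA => by
    refine ⟨1, one_mem _, ?_⟩
    rw [sl_one, one_mul, embGL_pure]
    refine h.base _ fun l => ?_
    rcases Fin.eq_self_or_eq_succAbove j l with rfl | ⟨i, rfl⟩
    · rw [Fin.insertNth_apply_same]; exact one_mem _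
    · rw [Fin.insertNth_apply_succAbove]; exact hA i
  sim := fun hs A hA => by
    refine ⟨1, one_mem _, ?_⟩
    rw [sl_one, one_mul, embGL_pure]
    refine h.sim (by omega) _ ?_
    rwa [← embGL_pure, embGL_mem_iff]
  perms := fun hs π => by
    obtain ⟨π', hj, hπ⟩ := exists_extend j π
    exact ⟨1, one_mem _, by rw [sl_one, one_mul, embGL_perm j π π' hj hπ]; exact h.perms (by omega) π'⟩
  le := fun x hx => by
    obtain ⟨c, hc', hm⟩ := hx
    have h1 := mul_mem (inv_mem (sl_mem_uT j hc')) (h.le hm)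
    rw [inv_mul_cancel_left] at h1
    exact (embGL_mem_iff j).1 h1
  scal := h.drop_scal j

/-- the centraliser of a standard root -/
theorem SCtx.centraliser (h : SCtx M) (hin : InnerS n s F) {g : GL (Fin (s + 1) → Ix n) F} (hg : g ∈ M)
    {j : Fin (s + 1)} (hc : (g : BMat) * sx j 0 1 = sx j 0 1 * (g : BMat)) :
    g ∈ tensorWreathStandard (2 * n + 2) (s + 1) F := by
  obtain ⟨a, b, ha, hb, rfl⟩ := h.root_split_mem hg hc
  exact perm_tw a (hin _ (h.drop j) ⟨a, ha, hg⟩)

/-- a similitude with a given multiplier -/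
def dS (n : ℕ) {F : Type*} [Field F] (δ : Fˣ) : GL (Ix n) F := mono 1 fun y => if (y : ℕ) % 2 = 0 then δ else 1

theorem dS_adj (δ : Fˣ) : (dS n δ : Matrix (Ix n) (Ix n) F) * adj (e1 n F) (s1 n) (dS n δ : Matrix (Ix n) (Ix n) F) =
    (δ : F) • 1 := by
  refine mono_adj (fun y => rfl) fun y => ?_
  rw [Equiv.Perm.one_apply, sg1.sq, one_mul, s1_val]
  split_ifs <;> first | omega | simp

theorem cj_dS01 (δ : Fˣ) : cj (dS n δ) (Matrix.single 0 1 (1 : F)) = (δ : F) • Matrix.single (0 : Ix n) 1 1 := by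
  have e : (dS n δ : Matrix (Ix n) (Ix n) F) * Matrix.single 0 1 1 =
      ((δ : F) • Matrix.single (0 : Ix n) 1 1) * (dS n δ : Matrix (Ix n) (Ix n) F) := by
    have hd : (dS n δ : Matrix (Ix n) (Ix n) F) =
        Matrix.diagonal fun y : Ix n => ((if (y : ℕ) % 2 = 0 then δ else 1 : Fˣ) : F) := by
      ext x y
      rw [dS, mono_coe, Matrix.of_apply, Equiv.Perm.one_apply]
      by_cases hxy : x = y
      · subst hxy; rw [if_pos rfl, Matrix.diagonal_apply_eq]
      · rw [if_neg hxy, Matrix.diagonal_apply_ne _ hxy]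
    rw [hd]
    ext x y
    rw [Matrix.smul_mul, Matrix.diagonal_mul, Matrix.smul_apply, Matrix.mul_diagonal, Matrix.single_apply, smul_eq_mul]
    by_cases hxy : 0 = x ∧ 1 = y
    · obtain ⟨rfl, rfl⟩ := hxy; simp
    · rw [if_neg hxy]; simp
  rw [cj, e, mul_assoc, gl_mul_inv, mul_one]

theorem conj_perm_pure {t : ℕ} (π : Equiv.Perm (Fin t)) (A : Fin t → GL (Ix n) F) :
    permGL π * pureGL A * (permGL π)⁻¹ = pureGL (A ∘ π.symm) := by
  rw [mul_inv_eq_iff_eq_mul, pureGL_perm]
  congr 2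
  funext l
  simp

/-- conjugation by a similitude preserves isometries -/
theorem sim_conj_mem {A x : GL (Ix n) F} {ν : F} (hν : ν ≠ 0)
    (hA : (A : Matrix (Ix n) (Ix n) F) * adj (e1 n F) (s1 n) (A : Matrix (Ix n) (Ix n) F) = ν • 1)
    (hx : x ∈ u1 n F) : A * x * A⁻¹ ∈ u1 n F := by
  have h1 : adj (e1 n F) (s1 n) (A : Matrix (Ix n) (Ix n) F) = ν • ((A⁻¹ : GL (Ix n) F) : Matrix (Ix n) (Ix n) F) := by
    have := congrArg (((A⁻¹ : GL (Ix n) F) : Matrix (Ix n) (Ix n) F) * ·) hA
    simpa only [← mul_assoc, gl_inv_mul, one_mul, Matrix.mul_smul, mul_one] using this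
  have h2 : adj (e1 n F) (s1 n) ((A⁻¹ : GL (Ix n) F) : Matrix (Ix n) (Ix n) F) = ν⁻¹ • (A : Matrix (Ix n) (Ix n) F) := by
    have h3 : adj (e1 n F) (s1 n) ((A⁻¹ : GL (Ix n) F) : Matrix (Ix n) (Ix n) F) *
        adj (e1 n F) (s1 n) (A : Matrix (Ix n) (Ix n) F) = 1 := by
      rw [← adj_mul sg1, gl_mul_inv, adj_one sg1]
    have := congrArg (· * (A : Matrix (Ix n) (Ix n) F)) h3
    simp only [h1, Matrix.mul_smul, Matrix.smul_mul, mul_assoc, gl_inv_mul, mul_one, one_mul] at this
    rw [← this, smul_smul, inv_mul_cancel₀ hν, one_smul]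
  rw [mem_uSub, Units.val_mul, Units.val_mul, adj_mul sg1, adj_mul sg1, h1, h2, adj_of_mem hx]
  simp only [Matrix.smul_mul, Matrix.mul_smul, smul_smul, mul_inv_cancel₀ hν, one_smul, ← mul_assoc]
  rw [mul_assoc ((A : Matrix (Ix n) (Ix n) F) * _) _ (A : Matrix (Ix n) (Ix n) F), gl_inv_mul, mul_one,
    mul_assoc (A : Matrix (Ix n) (Ix n) F), gl_mul_inv, mul_one, gl_mul_inv]

/-- the setting carried over by a permutation of the factors -/
theorem SCtx.conj_perm (h : SCtx M) (π : Equiv.Perm (Fin (s + 1))) :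
    SCtx (M.comap (MulAut.conj (permGL π)).toMonoidHom) where
  dich := h.dich
  hq := h.hq
  base := fun A hA => by
    show permGL π * pureGL A * (permGL π)⁻¹ ∈ M
    rw [conj_perm_pure]
    exact h.base _ fun l => hA _
  sim := fun hs A hA => by
    show permGL π * pureGL A * (permGL π)⁻¹ ∈ M
    rw [conj_perm_pure]
    refine h.sim hs _ ?_
    rw [← conj_perm_pure]
    exact mul_mem (mul_mem (permGL_mem_uT π) hA) (inv_mem (permGL_mem_uT π))
  perms := fun hs τ => M.mul_mem (M.mul_mem (h.perms hs π) (h.perms hs τ)) (M.inv_mem (h.perms hs π))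
  le := fun x hx => by
    have h1 := h.le (show permGL π * x * (permGL π)⁻¹ ∈ M from hx)
    have h3 := mul_mem (mul_mem (inv_mem (permGL_mem_uT (n := n) (F := F) π)) h1) (permGL_mem_uT π)
    rwa [show (permGL π)⁻¹ * (permGL π * x * (permGL π)⁻¹) * permGL π = x by group] at h3
  scal := by
    intro j C hC hm
    obtain ⟨g, hg, he⟩ := hm
    have hsx : ∀ a b, cj (permGL π) (sx j a b) = (sx (π j) a b : BMat) := fun a b => by
      rw [sx, cj_permGL_slot]; rfl
    have hC' : Cm (π j) (cj (permGL π) C) := fun u v => by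
      rw [← hsx, ← cj_mul, hC, cj_mul]
    obtain ⟨c, hc⟩ := h.scal (π j) _ hC' ⟨permGL π * g * (permGL π)⁻¹, hg, by
      rw [← cj_coe, he, cj_add, cj_one, cj_mul, hsx]⟩
    exact ⟨c, cj_injective (permGL π) (by rw [hc, cj_smul, cj_one])⟩

/-- fusion of roots -/
theorem SCtx.fusion (h : SCtx M) (hin : InnerS n s F) {r g : GL (Fin (s + 1) → Ix n) F}
    (hr : IsSRoot r) (hg : g ∈ M) (hgr : IsSRoot (g * r * g⁻¹)) :
    g ∈ tensorWreathStandard (2 * n + 2) (s + 1) F := by
  classical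
  rcases Nat.eq_zero_or_pos s with rfl | hs0
  · exact tw_of_one (by omega) _
  obtain ⟨i, A, c, hA, hc0, hAr⟩ := hr.to_standard
  obtain ⟨j, B, d, hB, hd0, hBr⟩ := hgr.to_standard
  set g1 := sl j B * g * (sl i A)⁻¹ with hg1
  have hg1M : g1 ∈ M := M.mul_mem (M.mul_mem (h.base.sl_mem j hB) hg) (M.inv_mem (h.base.sl_mem i hA))
  have e1' : g1 * sl i (rt n c) * g1⁻¹ = sl j (rt n d) := by rw [← hAr, ← hBr, hg1]; group
  have e2 : cj g1 (sx i 0 1) = (d / c) • (sx j 0 1 : BMat) := by
    have e := congrArg Units.val e1'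
    rw [← cj_coe, sl_coe, sl_coe, rt_coe, rt_coe, slot_add, slot_add, slot_one, slot_one, cj_add, cj_one, add_right_inj,
      TensorPower.slot_smul, TensorPower.slot_smul, cj_smul] at e
    calc cj g1 (sx i 0 1) = c⁻¹ • (c • cj g1 (sx i 0 1)) := by rw [smul_smul, inv_mul_cancel₀ hc0, one_smul]
      _ = _ := by rw [show c • cj g1 (sx i 0 1) = d • sx j 0 1 from e, smul_smul, inv_mul_eq_div]
  haveI : Nontrivial (Fin (s + 1)) := Fin.nontrivial_iff_two_le.2 (by omega)
  obtain ⟨l, hli⟩ : ∃ l : Fin (s + 1), l ≠ i := exists_ne _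
  obtain ⟨δ, hδ⟩ : ∃ δ : Fˣ, δ = Units.mk0 (c / d) (div_ne_zero hc0 hd0) := ⟨_, rfl⟩
  obtain ⟨D, hD⟩ : ∃ D : Fin (s + 1) → GL (Ix n) F,
      D = Function.update (Function.update (fun _ => 1) i (dS n δ)) l (dS n δ⁻¹) := ⟨_, rfl⟩
  let ν : Fin (s + 1) → F := Function.update (Function.update (fun _ => 1) i (δ : F)) l ((δ⁻¹ : Fˣ) : F)
  have hDν : ∀ k, (D k : Matrix (Ix n) (Ix n) F) * adj (e1 n F) (s1 n) (D k : Matrix (Ix n) (Ix n) F) = ν k • 1 := by
    intro k
    rcases eq_or_ne k l with rfl | hkl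
    · simp [hD, ν, dS_adj]
    rcases eq_or_ne k i with rfl | hki
    · simp [hD, ν, hkl, dS_adj]
    simp [hD, ν, hkl, hki, adj_one sg1]
  have hDu : pureGL D ∈ uT n (s + 1) F := by
    rw [mem_uSub, pureGL_coe, adj_pure, pure_mul, show (fun k => (D k : Matrix (Ix n) (Ix n) F)) *
      (fun k => adj (e1 n F) (s1 n) (D k : Matrix (Ix n) (Ix n) F)) = fun k => ν k • 1 from funext hDν, pure_smul]
    rw [show ∏ k, ν k = 1 by
      rw [Finset.prod_update_of_mem (Finset.mem_univ _), Finset.prod_update_of_mem (by simp [Ne.symm hli])]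
      simp, one_smul]
    exact pure_one
  have hν0 : ∀ k, ν k ≠ 0 := fun k => by
    rcases eq_or_ne k l with rfl | hkl
    · simp [ν]
    rcases eq_or_ne k i with rfl | hki
    · simp [ν, hkl]
    simp [ν, hkl, hki]
  set g2 := g1 * pureGL D with hg2
  have hg2u : g2 ∈ uT n (s + 1) F := mul_mem (h.le hg1M) hDu
  have hg2N : ∀ k, ∀ a ∈ u1 n F, g2 * sl k a * g2⁻¹ ∈ M := fun k a ha => by
    rw [hg2, show g1 * pureGL D * sl k a * (g1 * pureGL D)⁻¹ = g1 * (pureGL D * sl k a * (pureGL D)⁻¹) * g1⁻¹ by group]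
    have e := conj_sl (1 : Equiv.Perm (Fin (s + 1))) D k a
    rw [permGL_one, one_mul, Equiv.Perm.one_apply] at e
    rw [e]
    exact M.mul_mem (M.mul_mem hg1M (h.base.sl_mem k (sim_conj_mem (hν0 k) (hDν k) ha))) (M.inv_mem hg1M)
  have e3 : cj g2 (sx i 0 1) = (sx j 0 1 : BMat) := by
    rw [hg2, ← cj_cj, sx, cj_pureGL_slot, hD, Function.update_of_ne hli.symm, Function.update_self, cj_dS01,
      TensorPower.slot_smul, cj_smul, show cj g1 (slot i (Matrix.single (0 : Ix n) 1 (1 : F))) = cj g1 (sx i 0 1) from rfl,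
      e2, smul_smul, hδ, Units.val_mk0, div_mul_div_cancel₀ hd0, div_self hc0, one_smul, sx]
  suffices hg2W : g2 ∈ tensorWreathStandard (2 * n + 2) (s + 1) F by
    have h4 : g = (sl j B)⁻¹ * (g2 * (pureGL D)⁻¹) * sl i A := by rw [hg2, hg1]; group
    rw [h4]
    exact mul_mem (mul_mem (inv_mem (sl_mem_tw _ _)) (mul_mem hg2W (inv_mem (pure_mem_tw _)))) (sl_mem_tw _ _)
  set π := Equiv.swap j i with hπ
  have e4 : cj (permGL π * g2) (sx i 0 1) = (sx i 0 1 : BMat) := by
    rw [← cj_cj, e3, sx, cj_permGL_slot, hπ, Equiv.swap_apply_left]; rfl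
  have e5 := congrArg (· * ((permGL π * g2 : GL (Fin (s + 1) → Ix n) F) : BMat)) e4
  simp only [cj, mul_assoc, gl_inv_mul, mul_one] at e5
  have hdone : permGL π * g2 ∈ tensorWreathStandard (2 * n + 2) (s + 1) F := by
    rcases Nat.lt_or_ge s 2 with hs2 | hs2
    · obtain rfl : s = 1 := by omega
      have hππ : permGL (κ := Ix n) (F := F) π * permGL π = 1 := by
        rw [permGL_mul, hπ, Equiv.swap_mul_self, permGL_one]
      obtain ⟨a, b, -, -, hab⟩ := (h.conj_perm π).root_split (j := i) (g := permGL π * g2)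
        (mul_mem (permGL_mem_uT π) hg2u) (fun l a ha => by
          show permGL π * (permGL π * g2 * sl l a * (permGL π * g2)⁻¹) * (permGL π)⁻¹ ∈ M
          rw [show permGL π * (permGL π * g2 * sl l a * (permGL π * g2)⁻¹) * (permGL π)⁻¹ =
            (permGL π * permGL π) * (g2 * sl l a * g2⁻¹) * (permGL π * permGL π)⁻¹ by group, hππ, one_mul, inv_one,
            mul_one]
          exact hg2N l a ha) e5
      rw [hab]
      exact perm_tw a (tw_of_one (by omega) b)
    · exact h.centraliser hin (M.mul_mem (h.perms (by omega) π) (M.mul_mem hg1M (h.sim (by omega) D hDu))) e5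
  have := mul_mem (inv_mem (perm_mem_tw (m := 2 * n + 2) (F := F) π)) hdone
  rwa [inv_mul_cancel_left] at this

/-- the centraliser of a root -/
theorem SCtx.root_centraliser (h : SCtx M) (hin : InnerS n s F) {r g : GL (Fin (s + 1) → Ix n) F}
    (hr : IsSRoot r) (hg : g ∈ M) (hc : g * r = r * g) : g ∈ tensorWreathStandard (2 * n + 2) (s + 1) F :=
  h.fusion hin hr hg (by rwa [hc, mul_inv_cancel_right])

end CfsgLib.Perm.Trans.TensorPowerSp
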