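import Cfsg.Agent.Lib.Perm.Trans.TensorPowerSp.Omega

/-!
# A non-scalar cofactor gives an Eichler transformation
-/

set_option autoImplicit false
set_option linter.all false

namespace CfsgLib.Perm.Trans.TensorPowerSp

open scoped Matrix
open Matrix Cfsg.Geo CfsgLib.Perm.Asch CfsgLib.Perm.Trans CfsgLib.Perm.Trans.TensorPower

variable {F : Type*} [Field F] {n s t : ℕ} {M : Subgroup (GL (Fin t → Ix n) F)}

local notation "Mat" => Matrix (Fin t → Ix n) (Fin t → Ix n) F

/-- the commutator of two pure elements, transformed factor by factor, with two results -/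
theorem comm_pure2 (hB : HasSBase M) {c a b : F} {P Q R1 R2 : Fin t → Matrix (Ix n) (Ix n) F}
    {Rd : Matrix (Ix n) (Ix n) F} (d : Fin t)
    (gs : Fin t → List (GL (Ix n) F))
    (hX : Mem1 M (c • CfsgLib.Perm.Asch.pure P)) (hY : Mem1 M (c • CfsgLib.Perm.Asch.pure Q))
    (hPP : ∃ l, P l * P l = 0) (hQQ : ∃ l, Q l * Q l = 0) (hPQP : ∃ l, P l * Q l * P l = 0)
    (hQPQ : ∃ l, Q l * P l * Q l = 0) (hgs : ∀ l, ∀ g ∈ gs l, g ∈ u1 n F) (hd : gs d = []) (hR : Rd * Rd = 0)
    (ha : R1 d = a • Rd) (hb : R2 d = b • Rd)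
    (h1 : ∀ l, dd (gs l) (P l * Q l) = R1 l) (h2 : ∀ l, dd (gs l) (Q l * P l) = R2 l) :
    Mem1 M ((c * c) • (CfsgLib.Perm.Asch.pure R1 - CfsgLib.Perm.Asch.pure R2 : Mat)) := by
  classical
  have hz : ∀ {A : Fin t → Matrix (Ix n) (Ix n) F}, (∃ l, A l = 0) → (CfsgLib.Perm.Asch.pure A : Mat) = 0 :=
    fun {A} ⟨l, hl⟩ => pure_eq_zero hl
  have hm := comm_two_sided hX hY
    (by rw [Matrix.smul_mul, Matrix.mul_smul, pure_mul, hz (by simpa using hPP), smul_zero, smul_zero])
    (by rw [Matrix.smul_mul, Matrix.mul_smul, pure_mul, hz (by simpa using hQQ), smul_zero, smul_zero])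
    (by simp only [Matrix.smul_mul, Matrix.mul_smul, pure_mul]; rw [hz (by simpa using hPQP), smul_zero, smul_zero, smul_zero])
    (by simp only [Matrix.smul_mul, Matrix.mul_smul, pure_mul]; rw [hz (by simpa using hQPQ), smul_zero, smul_zero, smul_zero])
  have hd1 := h1 d
  have hd2 := h2 d
  rw [hd, dd_nil, ha] at hd1
  rw [hd, dd_nil, hb] at hd2
  let A : Finset (Fin t) → Fin t → Matrix (Ix n) (Ix n) F := fun L l =>
    if l ∈ L then dd (gs l) (P l * Q l) else P l * Q l
  let B : Finset (Fin t) → Fin t → Matrix (Ix n) (Ix n) F := fun L l =>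
    if l ∈ L then dd (gs l) (Q l * P l) else Q l * P l
  let Φ : Finset (Fin t) → Mat := fun L =>
    (c * c) • CfsgLib.Perm.Asch.pure (A L) - (c * c) • CfsgLib.Perm.Asch.pure (B L)
  have hall : ∀ L, Φ L ∈ facG M d Rd hR := by
    intro L
    induction L using Finset.induction_on with
    | empty =>
      refine ⟨?_, ?_⟩
      · convert hm using 1
        rw [Matrix.smul_mul, Matrix.mul_smul, Matrix.smul_mul, Matrix.mul_smul, pure_mul, pure_mul, smul_smul, smul_smul]
        simp only [Φ, A, B, Finset.notMem_empty, if_false]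
        rfl
      · obtain ⟨eA, cA⟩ := pure_at (A ∅) d
        obtain ⟨eB, cB⟩ := pure_at (B ∅) d
        refine ⟨(c * c * a) • CfsgLib.Perm.Asch.pure (Function.update (A ∅) d 1) -
          (c * c * b) • CfsgLib.Perm.Asch.pure (Function.update (B ∅) d 1), fun u v => ?_, ?_⟩
        · rw [mul_sub, sub_mul, Matrix.mul_smul, Matrix.mul_smul, Matrix.smul_mul, Matrix.smul_mul, cA, cB]
        · simp only [Φ]
          rw [eA, eB, show A ∅ d = a • Rd from hd1, show B ∅ d = b • Rd from hd2, TensorPower.slot_smul,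
            TensorPower.slot_smul, mul_sub, Matrix.smul_mul, Matrix.smul_mul, Matrix.mul_smul, Matrix.mul_smul,
            smul_smul, smul_smul]
    | @insert l L hl ih =>
      have key : dd ((gs l).map (sl l)) (Φ L) = Φ (insert l L) := by
        simp only [Φ]
        rw [map_sub, dd_pureL, dd_pureL]
        congr 3 <;>
        · funext k
          rcases eq_or_ne k l with rfl | hk
          · simp [A, B, hl]
          · simp [A, B, hk]
      rw [← key]
      rcases eq_or_ne l d with rfl | hld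
      · rw [hd]; exact ih
      refine dd_mem (fun g hg Y hY => ?_) ih
      obtain ⟨x, hx, rfl⟩ := List.mem_map.1 hg
      exact cj_mem_facG hld (hB.sl_mem l (hgs l x hx)) hY
  have := (hall Finset.univ).1
  simp only [Φ, A, B, Finset.mem_univ, if_true, h1, h2] at this
  rwa [smul_sub]

/-- the projection to a pair, or to two pairs -/
def dP (a : Ix n) : Matrix (Ix n) (Ix n) F :=
  if a = 0 then Matrix.single 0 0 1 + Matrix.single 1 1 1
  else (Matrix.single 0 0 1 + Matrix.single a a 1) + (Matrix.single 1 1 1 + Matrix.single (s1 n a) (s1 n a) 1)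

/-- the operator of the differing factor -/
def wdf (a : Ix n) (F : Type*) [Field F] : GL (Ix n) F := if a = 0 then wl n F else wl n F * midW a F

theorem wdf_mem (a : Ix n) : wdf a F ∈ u1 n F := by
  unfold wdf; split_ifs <;> [exact wl_mem; exact mul_mem wl_mem (midW_mem a)]

theorem diff_overlap {a : Ix n} (h1 : a ≠ 1) :
    ∃ (ε : F) (D1 D2 : Matrix (Ix n) (Ix n) F), ε ≠ 0 ∧ D1 + D2 = dP a ∧
      pt a * cj (wdf a F) (pt a) = ε • D1 ∧ cj (wdf a F) (pt a) * pt a = ε • D2 := by
  by_cases h0 : a = 0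
  · subst h0
    refine ⟨-1, Matrix.single 0 0 1, Matrix.single 1 1 1, neg_ne_zero.2 one_ne_zero, by rw [dP, if_pos rfl], ?_, ?_⟩
    · rw [wdf, if_pos rfl, pt, if_pos rfl, cj_wl01, mul_neg, Matrix.single_mul_single_same, mul_one, neg_one_smul]
    · rw [wdf, if_pos rfl, pt, if_pos rfl, cj_wl01, neg_mul, Matrix.single_mul_single_same, mul_one, neg_one_smul]
  obtain ⟨hb0, hb1⟩ := s1_mid h0 h1
  have hwe : ∀ x : Ix n, x ≠ 0 → x ≠ 1 → (wl n F : Matrix (Ix n) (Ix n) F) *ᵥ Pi.single x 1 = Pi.single x 1 := fun x x0 x1 => by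
    rw [wl, mono_mulVec_single, Equiv.swap_apply_of_ne_of_ne x0 x1, wd, if_neg x1, Units.val_one]
  have hQ : cj (wdf a F) (pt a : Matrix (Ix n) (Ix n) F) =
      Matrix.single (s1 n a) 0 1 - Matrix.single 1 a (e1 n F a) := by
    rw [wdf, if_neg h0, show midW a F = wk a F by rw [wk, if_neg h0], ← cj_cj, cj_wk_pt h1, qt, if_neg h0, ← wed_e0,
      TensorPower.cj_neg, cj_wed wl_mem, wl_e0, hwe _ hb0 hb1, wed, dual_e1', dual_single sg1, s1_inv, mul_one,
      vmv_single2, vmv_single2, one_mul, one_mul, neg_sub]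
  refine ⟨-e1 n F a, Matrix.single 0 0 1 + Matrix.single a a 1,
    Matrix.single 1 1 1 + Matrix.single (s1 n a) (s1 n a) 1, neg_ne_zero.2 (e1_ne a), by rw [dP, if_neg h0], ?_, ?_⟩
  · rw [hQ, pt, if_neg h0, za, sub_mul, mul_sub, mul_sub, Matrix.single_mul_single_same,
      Matrix.single_mul_single_same, Matrix.single_mul_single_of_ne (h := hb1.symm),
      Matrix.single_mul_single_of_ne (h := hb1), smul_add, Matrix.smul_single, Matrix.smul_single, smul_eq_mul, mul_one,
      one_mul, mul_one, ← Matrix.single_neg, ← Matrix.single_neg]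
    abel
  · rw [hQ, pt, if_neg h0, za, sub_mul, mul_sub, mul_sub, Matrix.single_mul_single_same,
      Matrix.single_mul_single_same, Matrix.single_mul_single_of_ne (h := Ne.symm h0),
      Matrix.single_mul_single_of_ne (h := h0), smul_add, Matrix.smul_single, Matrix.smul_single, smul_eq_mul, mul_one,
      one_mul, mul_one, ← Matrix.single_neg, ← Matrix.single_neg]
    abel

/-- a step with one differing factor -/
theorem step_diff (hB : HasSBase M) {T : Finset (Fin t)} {κ : Fin t → Ix n} {c : F} (hc : c ≠ 0)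
    (hκ : ∀ l, κ l ≠ 1) (hm : Mem1 M (pat T κ c)) (π : Equiv.Perm (Fin t)) (hπM : permGL π ∈ M)
    (hπ : ∀ l ∈ T, π l ∈ T → π l = l) {l0 d : Fin t} (hl0T : l0 ∈ T) (hdT : d ∈ T) (hld : l0 ≠ d) (hdπ : π d = d)
    (hl0 : π l0 ≠ l0 ∨ κ l0 ≠ 0) (hsign : (2 : F) = 0 ∨ Odd ((T.erase d).filter fun l => π l = l).card) :
    ∃ c' : F, c' ≠ 0 ∧ Mem1 M (c' • CfsgLib.Perm.Asch.pure (Function.update ((T ∪ T.map π.toEmbedding).piecewise
      (fun l => pt (F := F) (if l ∈ T then (if π l = l then 0 else κ l) else κ (π.symm l))) 1) d (dP (κ d)))) := by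
  classical
  set U := T.map π.toEmbedding with hU
  have hUmem : ∀ l, l ∈ U ↔ π.symm l ∈ T := fun l => by rw [hU, Finset.mem_map_equiv]
  have hover : ∀ l, l ∈ T → l ∈ U → π.symm l = l ∧ π l = l := fun l hl hl' => by
    have h1 := hπ _ ((hUmem l).1 hl') (by rwa [Equiv.apply_symm_apply])
    rw [Equiv.apply_symm_apply] at h1
    exact ⟨h1.symm, π.symm_apply_eq.1 h1.symm |>.symm⟩
  have hdU : d ∈ U := (hUmem d).2 (by rwa [π.symm_apply_eq.2 hdπ.symm])
  obtain ⟨ε, D1, D2, hε, hD, hd1, hd2⟩ := diff_overlap (F := F) (hκ d)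
  let P : Fin t → Matrix (Ix n) (Ix n) F := T.piecewise (fun l => pt (κ l)) 1
  let W : Fin t → GL (Ix n) F := fun l => if l ∈ T ∧ l ∈ U then (if l = d then wdf (κ l) F else wk (κ l) F) else 1
  let Q : Fin t → Matrix (Ix n) (Ix n) F := fun l => if l ∈ U then cj (W l) (pt (κ (π.symm l))) else 1
  have hY : Mem1 M (c • CfsgLib.Perm.Asch.pure Q) := by
    have h1 := (hm.conj hπM).conj (hB.pure_mem W fun l => by
      simp only [W]; split_ifs <;> [exact wdf_mem _; exact wk_mem _; exact one_mem _])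
    convert h1 using 1
    rw [pat, cj_smul, cj_permGL_pure, cj_smul, cj_pureGL]
    congr 2
    funext l
    by_cases hlU : l ∈ U
    · simp [Q, hlU, Finset.piecewise, (hUmem l).1 hlU]
    · simp [Q, W, hlU, Finset.piecewise, mt (hUmem l).2 hlU, cj_one]
  let R : Fin t → Matrix (Ix n) (Ix n) F := (T ∪ U).piecewise
    (fun l => pt (F := F) (if l ∈ T then (if π l = l then 0 else κ l) else κ (π.symm l))) 1
  let gs : Fin t → List (GL (Ix n) F) := fun l => if l ∈ T ∧ l ∈ U ∧ l ≠ d then ops (κ l) F else []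
  let e : Fin t → F := fun l =>
    if l = d then ε else if l ∈ T ∧ l ∈ U then (if κ l = 0 then 1 else e1 n F (κ l)) else 1
  let ζ : Fin t → F := fun l => if l ∈ T ∧ l ∈ U ∧ l ≠ d then -1 else 1
  have hW : ∀ l, l ∈ T → l ∈ U → l ≠ d → Q l = qt (κ l) := fun l hl hl' hne => by
    simp only [Q, W, hl, hl', hne, if_true, if_false, and_self, (hover l hl hl').1]
    exact cj_wk_pt (hκ l)
  have hcases : ∀ l, dd (gs l) (P l * Q l) = e l • Function.update R d D1 l ∧
      dd (gs l) (Q l * P l) = (ζ l * e l) • Function.update R d D2 l := by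
    intro l
    rcases eq_or_ne l d with rfl | hne
    · simp only [gs, e, ζ, Q, W, P, hdT, hdU, (hover l hdT hdU).1, ne_eq, not_true_eq_false, and_false, if_false, if_true,
        and_self, Function.update_self, dd_nil, Finset.piecewise_eq_of_mem, one_mul]
      exact ⟨hd1, hd2⟩
    rw [Function.update_of_ne hne, Function.update_of_ne hne]
    by_cases hlT : l ∈ T <;> by_cases hlU : l ∈ U
    · have hp : π l = l := (hover l hlT hlU).2
      rw [hW l hlT hlU hne]
      simp only [P, R, gs, e, ζ, hlT, hlU, hp, hne, ne_eq, not_false_eq_true, and_self, if_true, if_false, Finset.mem_union,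
        or_self, Finset.piecewise_eq_of_mem, Finset.piecewise]
      constructor
      · rw [overlap_one (hκ l)]; simp [pt]
      · rw [overlap_two (hκ l)]; simp [pt]
    · have hp : π l ≠ l := fun e' => hlU ((hUmem l).2 (by rwa [π.symm_apply_eq.2 e'.symm]))
      simp [P, Q, R, gs, e, ζ, hlT, hlU, hp, hne, Finset.piecewise, dd_nil]
    · simp [P, Q, W, R, gs, e, ζ, hlT, hlU, hne, Finset.piecewise, dd_nil, cj]
    · simp [P, Q, R, gs, e, ζ, hlT, hlU, hne, Finset.piecewise, dd_nil]
  have hgs : ∀ l, ∀ g ∈ gs l, g ∈ u1 n F := by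
    intro l g hg
    simp only [gs, ops] at hg
    split_ifs at hg
    · rw [List.mem_singleton.1 hg]; exact rt_mem 1
    · simp at hg
    · simp at hg
  have hPsq : ∀ l ∈ T, P l * P l = 0 := fun l hl => by simp [P, hl, Finset.piecewise, pt_sq (hκ l)]
  have hπl0 : π l0 ∈ U := (hUmem _).2 (by rwa [Equiv.symm_apply_apply])
  have hπne : π l0 ≠ d := fun e' => hld (π.injective (e'.trans hdπ.symm))
  have hQsq : Q (π l0) * Q (π l0) = 0 := by
    by_cases hT : π l0 ∈ T
    · rw [hW _ hT hπl0 hπne]; exact qt_sq (hκ _)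
    · simp [Q, W, hπl0, hT, cj, pt_sq (hκ l0)]
  have hd : gs l0 = [] ∧ R l0 * R l0 = 0 ∧ P l0 * Q l0 * P l0 = 0 := by
    by_cases hp : π l0 = l0
    · have hk := hl0.resolve_left (not_not.2 hp)
      have hu : l0 ∈ U := by simpa [hp] using hπl0
      rw [hW l0 hl0T hu hld]
      simp only [gs, ops, R, P, hl0T, hu, hp, hk, hld, ne_eq, not_false_eq_true, and_self, if_true, if_false,
        Finset.mem_union, or_self, Finset.piecewise, true_and]
      refine ⟨pt_sq (by simp), ?_⟩
      rw [pt, if_neg hk, qt, if_neg hk, mul_neg, za_mul hk (hκ l0), neg_smul, neg_neg, Matrix.smul_mul, za, mul_sub,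
        Matrix.single_mul_single_of_ne (h := (hκ l0).symm),
        Matrix.single_mul_single_of_ne (h := show (1 : Ix n) ≠ 0 by simp), sub_zero, smul_zero]
    · have hu : l0 ∉ U := fun hl' => hp (hover l0 hl0T hl').2
      simp [gs, R, P, Q, hl0T, hu, hp, Finset.piecewise, pt_sq (hκ l0)]
  have hQPQ : Q (π l0) * P (π l0) * Q (π l0) = 0 := by
    by_cases hp : π l0 = l0
    · have hk := hl0.resolve_left (not_not.2 hp)
      rw [hp] at hπl0 hπne ⊢
      rw [hW l0 hl0T hπl0 hπne]
      simp only [P, hl0T, if_true, Finset.piecewise]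
      have h := za_mul (F := F) (s1_mid hk (hκ l0)).1 (s1_mid hk (hκ l0)).2
      rw [s1_inv] at h
      rw [pt, if_neg hk, qt, if_neg hk, neg_mul, h, neg_mul, Matrix.smul_mul, za, mul_neg, mul_sub,
        Matrix.single_mul_single_of_ne (h := (s1_mid hk (hκ l0)).2.symm),
        Matrix.single_mul_single_of_ne (h := show (1 : Ix n) ≠ 0 by simp)]
      simp
    · have hu : π l0 ∉ T := fun hm' => hp (hπ l0 hl0T hm')
      rw [show P (π l0) = 1 from Finset.piecewise_eq_of_notMem _ _ _ hu, mul_one, hQsq]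
  have hres := comm_pure2 hB (R1 := fun l => e l • Function.update R d D1 l)
    (R2 := fun l => (ζ l * e l) • Function.update R d D2 l) (Rd := R l0) l0 gs hm hY ⟨l0, hPsq l0 hl0T⟩ ⟨_, hQsq⟩
    ⟨l0, hd.2.2⟩ ⟨_, hQPQ⟩ hgs hd.1 hd.2.1 (by simp [Function.update_of_ne hld]; rfl)
    (by simp [Function.update_of_ne hld]; rfl) (fun l => (hcases l).1) (fun l => (hcases l).2)
  have hζ : ∏ l, ζ l = -1 := by
    rcases hsign with h2 | hodd
    · have h11 : (-1 : F) = 1 := by linear_combination -h2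
      rw [h11]
      exact Finset.prod_eq_one fun l _ => by simp only [ζ, h11, ite_self]
    rw [Finset.prod_ite, Finset.prod_const_one, mul_one, Finset.prod_const]
    refine Odd.neg_one_pow ?_
    convert hodd using 2
    ext l
    simp only [Finset.mem_filter, Finset.mem_univ, true_and, Finset.mem_erase]
    exact ⟨fun h => ⟨⟨h.2.2, h.1⟩, (hover l h.1 h.2.1).2⟩,
      fun h => ⟨h.1.2, (hUmem l).2 (by rw [π.symm_apply_eq.2 h.2.symm]; exact h.1.2), h.1.1⟩⟩
  have he : (∏ l, e l) ≠ 0 := Finset.prod_ne_zero_iff.2 fun l _ => by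
    simp only [e]
    split_ifs <;> first | exact hε | exact one_ne_zero | exact e1_ne _
  refine ⟨c * c * ∏ l, e l, mul_ne_zero (mul_ne_zero hc hc) he, ?_⟩
  convert hres using 1
  rw [pure_smul, pure_smul, Finset.prod_mul_distrib, hζ, neg_one_mul, neg_smul, sub_neg_eq_add, ← updL_apply,
    ← updL_apply, ← updL_apply, ← smul_add, ← map_add, hD, smul_smul]

/-- the Eichler element that is grown -/
def HasSeed (M : Subgroup (GL (Fin t → Ix n) F)) : Prop :=
  ∃ (d : Fin t) (c : F), c ≠ 0 ∧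
    Mem1 M (c • CfsgLib.Perm.Asch.pure (Function.update (fun _ => Matrix.single 0 1 1) d (dP 0)) : Mat)

/-- a pattern on all factors with a root and a self-adjoint factor -/
theorem univ_seed (hB : HasSBase M) (hpar : (2 : F) = 0 ∨ Even t) {κ : Fin t → Ix n} {c : F} (hc : c ≠ 0)
    (hκ : ∀ l, κ l ≠ 1) (hm : Mem1 M (pat Finset.univ κ c)) {d l0 : Fin t} (hd : κ d = 0) (hl0 : κ l0 ≠ 0) :
    HasSeed M := by
  classical
  have hld : l0 ≠ d := fun e => hl0 (e ▸ hd)
  obtain ⟨c', hc', h'⟩ := step_diff hB hc hκ hm 1 (by rw [permGL_one]; exact one_mem _) (fun _ _ _ => rfl)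
    (Finset.mem_univ l0) (Finset.mem_univ d) hld rfl (Or.inr hl0) (hpar.imp id fun ht => by
      simp only [Equiv.Perm.one_apply, Finset.filter_true, Finset.card_erase_of_mem (Finset.mem_univ d), Finset.card_univ,
        Fintype.card_fin]
      obtain ⟨k, hk⟩ := ht
      have := d.pos
      exact ⟨k - 1, by omega⟩)
  refine ⟨d, c', hc', ?_⟩
  convert h' using 4
  · funext l
    simp [Finset.piecewise, pt]
  · rw [hd]

/-- one factor of a difference becomes self-adjoint -/
theorem za_of_diff (hn : 2 ≤ n) (hB : HasSBase M) {A : Fin t → Matrix (Ix n) (Ix n) F} {d l0 : Fin t} (hld : l0 ≠ d)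
    (hl0 : A l0 * A l0 = 0) {a : Ix n} (ha : a ≠ 1) {c : F}
    (hm : Mem1 M (c • CfsgLib.Perm.Asch.pure (Function.update A d (dP a)))) :
    ∃ b : Ix n, b ≠ 0 ∧ b ≠ 1 ∧ Mem1 M (c • CfsgLib.Perm.Asch.pure (Function.update A d (za b))) := by
  classical
  obtain ⟨b, hb0, hb1, hba, hbs⟩ : ∃ b : Ix n, b ≠ 0 ∧ b ≠ 1 ∧ b ≠ a ∧ b ≠ s1 n a := by
    obtain ⟨b, -, hb⟩ := Finset.exists_mem_notMem_of_card_lt_card (s := ({0, 1, a, s1 n a} : Finset (Ix n)))
      (t := Finset.univ) (by
        have h4 : ({0, 1, a, s1 n a} : Finset (Ix n)).card ≤ 4 := Finset.card_le_four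
        rw [Finset.card_univ, Fintype.card_fin]; omega)
    simp only [Finset.mem_insert, Finset.mem_singleton, not_or] at hb
    exact ⟨b, hb.1, hb.2.1, hb.2.2.1, hb.2.2.2⟩
  refine ⟨b, hb0, hb1, ?_⟩
  set A' := Function.update A d (dP a) with hA'
  have hX : (c • CfsgLib.Perm.Asch.pure A' : Mat) ∈ facG M l0 (A l0) hl0 := by
    refine ⟨hm, ?_⟩
    obtain ⟨eA, cA⟩ := pure_at A' l0
    refine ⟨c • CfsgLib.Perm.Asch.pure (Function.update A' l0 1), fun u v => by rw [Matrix.mul_smul, Matrix.smul_mul, cA], ?_⟩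
    rw [Matrix.mul_smul, ← show A' l0 = A l0 by rw [hA', Function.update_of_ne hld], ← eA]
  have hY := dd_mem (gs := [eta b hb0 hb1 (1 : F)].map (sl d)) (fun g hg Y hY => by
    obtain ⟨x, hx, rfl⟩ := List.mem_map.1 hg
    exact cj_mem_facG hld.symm (hB.sl_mem d (by rw [List.mem_singleton.1 hx]; exact eta_mem _ _ _)) hY) hX
  have hY' := hY.1
  rw [dd_pureL, hA', Function.update_self, Function.update_idem] at hY'
  convert hY' using 4
  obtain ⟨hb0', hb1'⟩ := s1_mid hb0 hb1
  have hba' : s1 n b ≠ a := fun e => hbs (by rw [← e, s1_inv])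
  have hbs' : s1 n b ≠ s1 n a := fun e => hba (s1_inv.injective e)
  rw [dd_single, df_apply, cj, inv_one_add (eta_coe hb0 hb1 1) (etaN_sq hb0 hb1 1), eta_coe]
  have hN : (etaN b 1 : Matrix (Ix n) (Ix n) F) * dP a = Matrix.single b 1 1 := by
    unfold dP etaN
    split_ifs <;>
      simp [add_mul, mul_add, Matrix.single_mul_single_of_ne, hb0', hb1', hba', hbs', (show (1 : Ix n) ≠ 0 by simp),
        ha.symm, fun h0 : a ≠ 0 => (s1_mid h0 ha).2.symm, *]
  have hN' : dP a * (etaN b 1 : Matrix (Ix n) (Ix n) F) = Matrix.single 0 (s1 n b) (e1 n F b) := by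
    unfold dP etaN
    split_ifs <;>
      simp [add_mul, mul_add, Matrix.single_mul_single_of_ne, hb0.symm, hb1.symm, hba.symm, hbs.symm,
        (show (1 : Ix n) ≠ 0 by simp), fun h0 : a ≠ 0 => (s1_mid h0 ha).1, *]
  rw [show (1 + (etaN b 1 : Matrix (Ix n) (Ix n) F)) * dP a * (1 - etaN b 1) - dP a =
    etaN b 1 * dP a - dP a * etaN b 1 - etaN b 1 * dP a * etaN b 1 by noncomm_ring, hN, hN', za]
  have e3 : Matrix.single b 1 (1 : F) * (etaN b 1 : Matrix (Ix n) (Ix n) F) = 0 := by
    simp [etaN, mul_add, Matrix.single_mul_single_of_ne, hb1.symm, (show (1 : Ix n) ≠ 0 by simp)]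
  rw [e3, sub_zero]

/-- in characteristic two a pattern with a root grows to all factors -/
theorem seed_two (h2 : (2 : F) = 0) (hn : 2 ≤ n) (hB : HasSBase M) (hP : HasSPerms M) {T : Finset (Fin t)}
    {κ : Fin t → Ix n} {c : F} (hc : c ≠ 0) (hκ : ∀ l, κ l ≠ 1) {x : Fin t} (hxT : x ∈ T) (hx : κ x = 0)
    (hcard : 2 ≤ T.card) (hrest : T = Finset.univ → ∃ l, κ l ≠ 0) (hm : Mem1 M (pat T κ c)) : HasSeed M := by
  classical
  by_cases hfull : T = Finset.univ
  · subst hfull
    obtain ⟨l, hl⟩ := hrest rfl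
    exact univ_seed hB (Or.inl h2) hc hκ hm hx hl
  obtain ⟨b, hb⟩ : ∃ b, b ∉ T := by
    by_contra hcon
    push Not at hcon
    exact hfull (Finset.eq_univ_of_forall hcon)
  obtain ⟨d, hdT, hdx⟩ := Finset.exists_mem_ne (show 1 < T.card by omega) x
  have hxb : x ≠ b := fun e => hb (e ▸ hxT)
  have hdb : d ≠ b := fun e => hb (e ▸ hdT)
  set π := Equiv.swap x b with hπ
  have hπo : ∀ l, l ≠ x → l ≠ b → π l = l := fun l h1 h3 => Equiv.swap_apply_of_ne_of_ne h1 h3
  have hπx : π x = b := Equiv.swap_apply_left _ _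
  obtain ⟨c', hc', h'⟩ := step_diff hB hc hκ hm π (hP π) (fun l hl hl' => by
      rcases eq_or_ne l x with rfl | hne
      · exact absurd (hπx ▸ hl') hb
      · exact hπo l hne fun e => hb (e ▸ hl))
    hxT hdT hdx.symm (hπo d hdx hdb) (Or.inl (by rw [hπx]; exact hxb.symm)) (Or.inl h2)
  have hU : T ∪ T.map π.toEmbedding = insert b T := by
    ext y
    rw [Finset.mem_union, Finset.mem_map_equiv, Finset.mem_insert, hπ, Equiv.symm_swap]
    constructor
    · rintro (hy | hy)
      · exact Or.inr hy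
      · by_cases hyb : y = b
        · exact Or.inl hyb
        refine Or.inr ?_
        by_cases hyx : y = x
        · exact hyx ▸ hxT
        rwa [Equiv.swap_apply_of_ne_of_ne hyx hyb] at hy
    · rintro (rfl | hy)
      · exact Or.inr (by rwa [Equiv.swap_apply_right])
      · exact Or.inl hy
  rw [hU] at h'
  obtain ⟨a, ha0, ha1, h''⟩ := za_of_diff hn hB hdx.symm (by
    simp only [Finset.piecewise, Finset.mem_insert_of_mem hxT, hxT, hπx, hxb.symm, if_true, if_false]
    exact pt_sq (hκ x)) (hκ d) h'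
  let κ' : Fin t → Ix n := fun l =>
    if l = d then a else if l ∈ T then (if π l = l then 0 else κ l) else κ (π.symm l)
  refine seed_two h2 hn hB hP (T := insert b T) (κ := κ') hc' (fun l => ?_) (Finset.mem_insert_of_mem hxT) (x := x) ?_
    (by rw [Finset.card_insert_of_notMem hb]; omega) (fun _ => ⟨d, by simp [κ', ha0]⟩) ?_
  · simp only [κ']
    split_ifs <;> [exact ha1; simp; exact hκ _; exact hκ _]
  · simp [κ', hdx.symm, hxT, hx]
  · rw [pat]
    convert h'' using 4
    funext l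
    rcases eq_or_ne l d with rfl | hl
    · simp [κ', Finset.piecewise, hdT, pt, ha0]
    · simp [κ', Finset.piecewise, hl]
termination_by t - T.card
decreasing_by
  have h1 := (insert b T).card_le_univ
  rw [Fintype.card_fin] at h1
  rw [Finset.card_insert_of_notMem hb] at h1 ⊢
  omega

/-- in odd characteristic a pattern on not all factors gives the seed -/
theorem seed_odd (h2 : (2 : F) ≠ 0) (hB : HasSBase M) (hP : HasSPerms M) (hM : M ≤ uT n t F) (ht : Even t)
    {T : Finset (Fin t)} {κ : Fin t → Ix n} {c : F} (hT : 2 ≤ T.card) (hne : T ≠ Finset.univ) (hc : c ≠ 0)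
    (hκ : ∀ l, κ l ≠ 1) (hm : Mem1 M (pat T κ c)) : HasSeed M := by
  classical
  obtain ⟨T₁, c₁, hc₁, hT₁, hodd₁, h₁⟩ := roots_of_pattern h2 hB hP hM hT (Or.inl hne) hc hκ hm
  obtain ⟨T₂, c₂, hc₂, hT₂, hodd₂, h₂⟩ := grow_roots h2 hB hP hM hT₁ hodd₁ hc₁ h₁
  have hlt : T₂.card < t := by
    have h3 := T₂.card_le_univ
    rw [Fintype.card_fin] at h3
    rcases h3.lt_or_eq with h4 | h4
    · exact h4
    · exact absurd (h4.symm ▸ ht) (Nat.not_even_iff_odd.2 hodd₂)
  obtain ⟨b, hb⟩ : ∃ b, b ∉ T₂ := by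
    by_contra hcon
    push Not at hcon
    rw [Finset.eq_univ_of_forall hcon, Finset.card_univ, Fintype.card_fin] at hlt
    omega
  have hle3 : 2 < t := by
    have := T₁.card_le_univ
    rw [Fintype.card_fin] at this; omega
  obtain ⟨x, hx⟩ := Finset.card_pos.1 (show 0 < T₂.card by omega)
  obtain ⟨d, hdT, hdx⟩ := Finset.exists_mem_ne (show 1 < T₂.card by omega) x
  have hdb : d ≠ b := fun e => hb (e ▸ hdT)
  set π := Equiv.swap x b with hπ
  have hπx : π x = b := Equiv.swap_apply_left _ _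
  have hπo : ∀ l, l ≠ x → l ∈ T₂ → π l = l := fun l h1 h3 => Equiv.swap_apply_of_ne_of_ne h1 fun e => hb (e ▸ h3)
  have hfix : ((T₂.erase d).filter fun l => π l = l) = (T₂.erase d).erase x := by
    ext l
    simp only [Finset.mem_filter, Finset.mem_erase]
    constructor
    · rintro ⟨hl, e⟩
      exact ⟨fun h => by subst h; rw [hπx] at e; exact hb (e ▸ hl.2), hl⟩
    · rintro ⟨h1, hl⟩
      exact ⟨hl, hπo l h1 hl.2⟩
  obtain ⟨c', hc', h'⟩ := step_diff hB hc₂ (fun _ => by simp) h₂ π (hP π) (fun l hl hl' => by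
      rcases eq_or_ne l x with rfl | hne'
      · exact absurd (hπx ▸ hl') hb
      · exact hπo l hne' hl)
    hx hdT hdx.symm (hπo d hdx hdT) (Or.inl (by rw [hπx]; exact fun e => hb (e ▸ hx))) (Or.inr (by
      rw [hfix, Finset.card_erase_of_mem (Finset.mem_erase.2 ⟨hdx.symm, hx⟩), Finset.card_erase_of_mem hdT]
      obtain ⟨k, hk⟩ := hodd₂
      exact ⟨k - 1, by omega⟩))
  refine ⟨d, c', hc', ?_⟩
  have hall : ∀ l, l ∈ T₂ ∪ T₂.map π.toEmbedding := by
    intro l
    rw [Finset.mem_union, Finset.mem_map_equiv]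
    by_cases hl : l ∈ T₂
    · exact Or.inl hl
    refine Or.inr ?_
    have hlb : l = b := by
      have h3 : T₂ = Finset.univ.erase b := Finset.eq_of_subset_of_card_le (fun y hy => Finset.mem_erase.2
        ⟨fun e => hb (e ▸ hy), Finset.mem_univ y⟩) (by
        rw [Finset.card_erase_of_mem (Finset.mem_univ b), Finset.card_univ, Fintype.card_fin]; omega)
      by_contra hlb
      exact hl (h3 ▸ Finset.mem_erase.2 ⟨hlb, Finset.mem_univ l⟩)
    rwa [hlb, hπ, Equiv.symm_swap, Equiv.swap_apply_right]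
  convert h' using 4
  funext l
  simp [Finset.piecewise, hall l, pt]

variable [Fintype F] {k : F} {R : ((Fin (s + 1) → Ix n) → F) → F} {K : Subgroup (GL (Fin (s + 1) → Ix n) F)}

/-- the roots in all factors do not give an isometry -/
theorem no_full_roots (h : TQ n (s + 1) k R) (hK : K ≤ Cfsg.isometryGroup F R) {κ : Fin (s + 1) → Ix n} {c : F}
    (hc : c ≠ 0) (hκ : ∀ l, κ l = 0) (hm : Mem1 K (pat Finset.univ κ c)) : False := by
  classical
  obtain ⟨g, hg, he⟩ := hm
  rw [pat, Finset.piecewise_univ, show (fun l => pt (κ l)) = fun _ => Matrix.single (0 : Ix n) 1 (1 : F)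
    from funext fun l => by rw [hκ l, pt, if_pos rfl], pure_single, Matrix.smul_single, smul_eq_mul, mul_one] at he
  have h1 := Quad.mem_iso.1 (hK hg) (Pi.single (fun _ => 1) 1)
  rw [he, add_mulVec, one_mulVec, single_mulVec, h.base] at h1
  have e : Function.update (0 : (Fin (s + 1) → Ix n) → F) (fun _ => (0 : Ix n))
      (c * (Pi.single (fun _ => (1 : Ix n)) (1 : F) : (Fin (s + 1) → Ix n) → F) fun _ => 1) =
      c • Pi.single (fun _ => (0 : Ix n)) 1 := by
    rw [Pi.single_eq_same, ← Pi.single_smul, smul_eq_mul]; rfl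
  rw [e, Quad.qadd h.nd, Quad.qsmul h.nd, h.base, h.base, Quad.psmul_right h.nd, h.pol, sform, single_dotProduct,
    one_mul, dual_single sgT, mul_one] at h1
  rw [show sT n (s + 1) (fun _ => (0 : Ix n)) = fun _ => 1 from funext fun _ => s1_zero, Pi.single_eq_same] at h1
  simp [hc, h.k0, eT, e1_one] at h1

/-- a non-scalar cofactor gives the seed -/
theorem seed_of_nonscalar (h : TQ n (s + 1) k R) (hd : (2 : F) ≠ 0 ∨ ((2 : F) = 0 ∧ 2 ≤ n)) (hB : HasSBase K)
    (hP : 3 ≤ s + 1 → HasSPerms K) (hK : K ≤ Cfsg.isometryGroup F R) {j : Fin (s + 1)}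
    {Z : Matrix (Fin s → Ix n) (Fin s → Ix n) F} (hZ : Z ∈ smallS K j) (hne : ∀ c : F, Z ≠ c • 1) : HasSeed K := by
  classical
  obtain ⟨T, κ, c, hT, hc, hκ, ⟨x, hxT, hx⟩, hm⟩ := pattern_with_root hd hB hZ hne
  have hrest : T = Finset.univ → ∃ l, κ l ≠ 0 := fun e => by
    by_contra hcon
    push Not at hcon
    exact no_full_roots h hK hc hcon (e ▸ hm)
  by_cases hfull : T = Finset.univ
  · obtain ⟨l, hl⟩ := hrest hfull
    exact univ_seed hB h.par hc hκ (hfull ▸ hm) hx hl
  have h3 : 3 ≤ s + 1 := by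
    by_contra hlt
    refine hfull (Finset.eq_univ_of_card _ ?_)
    have := T.card_le_univ
    rw [Fintype.card_fin] at this ⊢
    omega
  rcases hd with h2 | ⟨h2, hn⟩
  · exact seed_odd h2 hB (hP h3) (hK.trans h.iso_le) (h.par.resolve_left h2) hT hfull hc hκ hm
  · exact seed_two h2 hn hB (hP h3) hc hκ hxT hx hT hrest hm

end CfsgLib.Perm.Trans.TensorPowerSp
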