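import Cfsg.Agent.Lib.Perm.Trans.TensorPowerSp.Centre

/-!
# Elements commuting with a root split off the factor of the root
-/

set_option autoImplicit false
set_option linter.all false

namespace CfsgLib.Perm.Trans.TensorPowerSp

open scoped Matrix
open Matrix Cfsg.Geo CfsgLib.Perm.Asch CfsgLib.Perm.Trans CfsgLib.Perm.Trans.TensorPower

variable {F : Type*} [Field F] {n s t : ℕ}

theorem exists_sq_ne_one [Fintype F] (h3 : 3 < Fintype.card F) : ∃ x : Fˣ, (x : F) * x ≠ 1 := by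
  classical
  by_contra hcon
  push Not at hcon
  have hsub : (Finset.univ : Finset F) ⊆ {0, 1, -1} := fun x _ => by
    rcases eq_or_ne x 0 with rfl | hx
    · simp
    · rcases mul_self_eq_one_iff.1 (hcon (Units.mk0 x hx)) with e | e <;> simp at e <;> simp [e]
  have := (Finset.card_le_card hsub).trans Finset.card_le_three
  rw [Finset.card_univ] at this
  omega

theorem vmv_dual_mul {u v : Ix n → F} (h : dual (e1 n F) (s1 n) u ⬝ᵥ v = 0) :
    vecMulVec u (dual (e1 n F) (s1 n) u) * vecMulVec v (dual (e1 n F) (s1 n) v) = 0 := by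
  rw [vecMulVec_mul_vecMulVec, h, zero_smul, vmv_zero_right]

variable [Fintype F] {M : Subgroup (GL (Fin (s + 1) → Ix n) F)}

local notation "BMat" => Matrix (Fin (s + 1) → Ix n) (Fin (s + 1) → Ix n) F

/-- the moved roots minus the root -/
theorem hcomm_vec {j : Fin (s + 1)} {C' : BMat}
    (hcm : ∀ T : GL (Ix n) F, T ∈ u1 n F →
      dual (e1 n F) (s1 n) (Pi.single 0 1) ⬝ᵥ ((T : Matrix (Ix n) (Ix n) F) *ᵥ Pi.single 0 (1 : F)) = 0 →
      Mem1 M (slot j (vecMulVec ((T : Matrix (Ix n) (Ix n) F) *ᵥ Pi.single 0 1)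
          (dual (e1 n F) (s1 n) ((T : Matrix (Ix n) (Ix n) F) *ᵥ Pi.single 0 1)) -
        vecMulVec (Pi.single 0 1) (dual (e1 n F) (s1 n) (Pi.single 0 1))) * C'))
    {v : Ix n → F} (hv : v ≠ 0) (hev : dual (e1 n F) (s1 n) (Pi.single 0 1) ⬝ᵥ v = 0) :
    Mem1 M (slot j (vecMulVec v (dual (e1 n F) (s1 n) v) -
      vecMulVec (Pi.single 0 1) (dual (e1 n F) (s1 n) (Pi.single 0 1))) * C') := by
  obtain ⟨A, hA, hAv⟩ := exists_move hv
  have e : ((A⁻¹ : GL (Ix n) F) : Matrix (Ix n) (Ix n) F) *ᵥ Pi.single 0 1 = v := by rw [← hAv, gl_inv_mulVec]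
  have := hcm A⁻¹ (inv_mem hA) (by rw [e]; exact hev)
  rwa [e] at this

/-- the five-term identity: a multiple of the cofactor of the root -/
theorem split_even (h : SCtx M) {j : Fin (s + 1)} {C' : BMat}
    (H : (∀ T : GL (Ix n) F, T ∈ u1 n F →
      dual (e1 n F) (s1 n) (Pi.single 0 1) ⬝ᵥ ((T : Matrix (Ix n) (Ix n) F) *ᵥ Pi.single 0 (1 : F)) = 0 →
      Mem1 M (slot j (vecMulVec ((T : Matrix (Ix n) (Ix n) F) *ᵥ Pi.single 0 1)
          (dual (e1 n F) (s1 n) ((T : Matrix (Ix n) (Ix n) F) *ᵥ Pi.single 0 1)) -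
        vecMulVec (Pi.single 0 1) (dual (e1 n F) (s1 n) (Pi.single 0 1))) * C')) ∧ Cm j C')
    (hn : 2 ≤ n) : ∃ d : F, d ≠ 0 ∧ Mem1 M (sx j 0 1 * (d • C')) := by
  classical
  obtain ⟨hcm, hC'⟩ := H
  set a : Ix n := ⟨2, by omega⟩ with hadef
  set b : Ix n := ⟨4, by omega⟩ with hbdef
  have ha0 : a ≠ 0 := fun e => by simpa [hadef] using congrArg Fin.val e
  have hb0 : b ≠ 0 := fun e => by simpa [hbdef] using congrArg Fin.val e
  have hba : b ≠ a := fun e => by simpa [hadef, hbdef] using congrArg Fin.val e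
  let I : Finset (Ix n) := {0, a, b}
  have horth : ∀ x ∈ I, ∀ y ∈ I, s1 n x ≠ y := by
    intro x hx y hy e
    have h0 : ∀ z ∈ I, (z : ℕ) % 2 = 0 := by
      intro z hz
      simp only [I, Finset.mem_insert, Finset.mem_singleton] at hz
      rcases hz with rfl | rfl | rfl <;> simp [hadef, hbdef]
    have := congrArg Fin.val e
    rw [s1_val, if_pos (h0 x hx)] at this
    have := h0 x hx
    have := h0 y hy
    omega
  -- vectors supported on the three indices
  let W : (Ix n → F) → Prop := fun v => ∀ x, x ∉ I → v x = 0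
  have hW : ∀ {v w}, W v → W w → dual (e1 n F) (s1 n) v ⬝ᵥ w = 0 := fun {v w} hv hw =>
    Finset.sum_eq_zero fun x _ => by
      by_cases hx : x ∈ I
      · rw [dual, hv (s1 n x) (fun hs => horth x hx _ hs rfl), mul_zero, zero_mul]
      · rw [hw x hx, mul_zero]
  have hWs : ∀ x ∈ I, W (Pi.single x (1 : F)) := fun x hx y hy => Pi.single_eq_of_ne (fun e : y = x => hy (by rwa [e])) _
  have hWa : ∀ {v w}, W v → W w → W (v + w) := fun {v w} hv hw x hx => by rw [Pi.add_apply, hv x hx, hw x hx, add_zero]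
  set e0 : Ix n → F := Pi.single 0 1 with he0
  set ea : Ix n → F := Pi.single a 1 with hea
  set eb : Ix n → F := Pi.single b 1 with heb
  have w0 : W e0 := hWs 0 (by simp [I])
  have wa : W ea := hWs a (by simp [I])
  have wb : W eb := hWs b (by simp [I])
  let P : (Ix n → F) → Matrix (Ix n) (Ix n) F := fun v => vecMulVec v (dual (e1 n F) (s1 n) v)
  let D : (Ix n → F) → BMat := fun v => slot j (P v - P e0) * C'
  have hPP : ∀ {v w}, W v → W w → P v * P w = 0 := fun {v w} hv hw => vmv_dual_mul (hW hv hw)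
  have hDD : ∀ {v w}, W v → W w → D v * D w = 0 := fun {v w} hv hw => by
    simp only [D]
    rw [mul_assoc, ← mul_assoc C', ← comm_slot_of_units hC', mul_assoc (slot j _) C', ← mul_assoc, slot_mul,
      sub_mul, mul_sub, mul_sub, hPP hv hw, hPP hv w0, hPP w0 hw, hPP w0 w0]
    simp [slot_zero]
  have hm : ∀ {v}, v ≠ 0 → W v → Mem1 M (D v) := fun {v} h0 hv => hcomm_vec hcm h0 (hW w0 hv)
  have hne : ∀ {v : Ix n → F} (x : Ix n), v x ≠ 0 → v ≠ 0 := fun x hx e => hx (by rw [e]; rfl)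
  obtain ⟨g1, hg1, e1'⟩ := hm (hne a (by simp [hea, he0, ha0])) (hWa w0 wa)
  obtain ⟨g2, hg2, e2'⟩ := hm (hne b (by simp [heb, he0, hb0])) (hWa w0 wb)
  obtain ⟨g3, hg3, e3'⟩ := hm (hne a (by simp [hea, heb, he0, ha0, hba.symm])) (hWa (hWa w0 wa) wb)
  obtain ⟨g4, hg4, e4'⟩ := hm (hne a (by simp [hea, heb, hba.symm])) (hWa wa wb)
  obtain ⟨g5, hg5, e5'⟩ := hm (hne a (by simp [hea])) wa
  obtain ⟨g6, hg6, e6'⟩ := hm (hne b (by simp [heb])) wb
  have i3 := inv_one_add e3' (hDD (hWa (hWa w0 wa) wb) (hWa (hWa w0 wa) wb))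
  have i5 := inv_one_add e5' (hDD wa wa)
  have i6 := inv_one_add e6' (hDD wb wb)
  have hsum : D (e0 + ea) + D (e0 + eb) - D (e0 + ea + eb) + D (ea + eb) - D ea - D eb = slot j (P e0) * C' := by
    simp only [D, ← add_mul, ← sub_mul, ← slot_add, ← slot_sub]
    congr 2
    simp only [P, dual_add, vecMulVec_add, add_vecMulVec]
    abel
  refine ⟨-1, by simp, g1 * g2 * g3⁻¹ * g4 * g5⁻¹ * g6⁻¹,
    M.mul_mem (M.mul_mem (M.mul_mem (M.mul_mem (M.mul_mem hg1 hg2) (M.inv_mem hg3)) hg4) (M.inv_mem hg5))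
      (M.inv_mem hg6), ?_⟩
  rw [Units.val_mul, Units.val_mul, Units.val_mul, Units.val_mul, Units.val_mul, e1', e2', i3, e4', i5, i6,
    show sx j 0 1 * ((-1 : F) • C') = slot j (P e0) * C' by
      rw [Matrix.mul_smul, sx, show P e0 = -Matrix.single (0 : Ix n) 1 (1 : F) from vmv_e0, ← slotHom_apply, ← slotHom_apply,
        map_neg, neg_mul, neg_one_smul], ← hsum]
  have k1 := hWa w0 wa
  have k2 := hWa w0 wb
  have k3 := hWa k1 wb
  have k4 := hWa wa wb
  simp only [mul_add, add_mul, mul_sub, sub_mul, mul_one, one_mul, mul_assoc, hDD k1 k2, hDD k1 k3, hDD k1 k4, hDD k1 wa,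
    hDD k1 wb, hDD k2 k3, hDD k2 k4, hDD k2 wa, hDD k2 wb, hDD k3 k4, hDD k3 wa, hDD k3 wb, hDD k4 wa, hDD k4 wb,
    hDD wa wb, mul_zero, sub_zero, add_zero, zero_add]
  abel

/-- the two-term identity in odd characteristic -/
theorem split_odd (h : SCtx M) {j : Fin (s + 1)} {C' : BMat}
    (H : (∀ T : GL (Ix n) F, T ∈ u1 n F →
      dual (e1 n F) (s1 n) (Pi.single 0 1) ⬝ᵥ ((T : Matrix (Ix n) (Ix n) F) *ᵥ Pi.single 0 (1 : F)) = 0 →
      Mem1 M (slot j (vecMulVec ((T : Matrix (Ix n) (Ix n) F) *ᵥ Pi.single 0 1)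
          (dual (e1 n F) (s1 n) ((T : Matrix (Ix n) (Ix n) F) *ᵥ Pi.single 0 1)) -
        vecMulVec (Pi.single 0 1) (dual (e1 n F) (s1 n) (Pi.single 0 1))) * C')) ∧ Cm j C')
    (h2 : (2 : F) ≠ 0) (hn : 1 ≤ n) : ∃ d : F, d ≠ 0 ∧ Mem1 M (sx j 0 1 * (d • C')) := by
  classical
  obtain ⟨hcm, hC'⟩ := H
  set a : Ix n := ⟨2, by omega⟩ with hadef
  have ha0 : a ≠ 0 := fun e => by simpa [hadef] using congrArg Fin.val e
  have ha1 : a ≠ 1 := fun e => by simpa [hadef] using congrArg Fin.val e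
  set e0 : Ix n → F := Pi.single 0 1 with he0
  set ea : Ix n → F := Pi.single a 1 with hea
  let P : (Ix n → F) → Matrix (Ix n) (Ix n) F := fun v => vecMulVec v (dual (e1 n F) (s1 n) v)
  have d0a : dual (e1 n F) (s1 n) e0 ⬝ᵥ ea = 0 := by rw [he0, hea, dual_e0]; simp [ha1.symm, ha1]
  have da0 : dual (e1 n F) (s1 n) ea ⬝ᵥ e0 = 0 := by rw [dual_dot sg1, d0a, mul_zero]
  have z1 : ∀ (k l : F), dual (e1 n F) (s1 n) (e0 + k • ea) ⬝ᵥ (e0 + l • ea) = 0 := fun k l => by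
    simp [dual_add, dual_smul, dotProduct_add, add_dotProduct, dotProduct_smul, smul_dotProduct, iso1, d0a, da0]
  have hne : ∀ k : F, e0 + k • ea ≠ 0 := fun k e => by
    have := congrFun e 0
    simp [he0, hea, ha0.symm] at this
  have z2 : ∀ k : F, dual (e1 n F) (s1 n) (e0 + k • ea) ⬝ᵥ e0 = 0 := fun k => by simpa using z1 k 0
  have z3 : ∀ k : F, dual (e1 n F) (s1 n) e0 ⬝ᵥ (e0 + k • ea) = 0 := fun k => by simpa using z1 0 k
  obtain ⟨x, hx, hxe⟩ := hcomm_vec hcm (hne 1) (z3 1)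
  obtain ⟨y, hy, hye⟩ := hcomm_vec hcm (hne (-1)) (z3 (-1))
  have hzero : slot j (P (e0 + (1 : F) • ea) - P e0) * C' * (slot j (P (e0 + (-1 : F) • ea) - P e0) * C') = 0 := by
    rw [mul_assoc, ← mul_assoc C', ← comm_slot_of_units hC', mul_assoc (slot j _) C', ← mul_assoc, slot_mul,
      sub_mul, mul_sub, mul_sub, vmv_dual_mul (z1 _ _), vmv_dual_mul (z2 _), vmv_dual_mul (z3 _),
      vmv_dual_mul e0_iso]
    simp [slot_zero]
  obtain ⟨A, hA, hAe⟩ := exists_move (u := ea) (by simp [hea])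
  refine ⟨-2, neg_ne_zero.2 h2, ?_⟩
  have hsum : Mem1 M (slot j ((2 : F) • P ea) * C') := by
    refine ⟨x * y, M.mul_mem hx hy, ?_⟩
    rw [Units.val_mul, hxe, hye, add_mul, one_mul, mul_add, mul_one, hzero, add_zero, add_assoc, ← add_mul, ← slot_add]
    congr 3
    simp only [P, one_smul, neg_one_smul, dual_add, dual_neg, vecMulVec_add, add_vecMulVec, vecMulVec_neg,
      neg_vecMulVec, two_smul]
    abel
  convert hsum.conj (h.base.sl_mem j hA) using 1
  rw [cj_mul, cj_eq_self (g := sl j A) (X := C') (by rw [sl_coe]; exact comm_slot_of_units hC' _), cj_sl_slot, cj_smul,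
    cj_vmv_dual hA, hAe, sx, vmv_e0, ← slotHom_apply, ← slotHom_apply, smul_neg, map_neg, map_smul, neg_mul,
    Matrix.smul_mul, Matrix.mul_smul, neg_smul]

/-- an element of `M` commuting with a root is a product of isometries -/
theorem SCtx.root_split (h : SCtx M) {g : GL (Fin (s + 1) → Ix n) F} (hg : g ∈ uT n (s + 1) F)
    (hN : ∀ l, ∀ b ∈ u1 n F, g * sl l b * g⁻¹ ∈ M)
    {j : Fin (s + 1)} (hc : (g : BMat) * sx j 0 1 = sx j 0 1 * (g : BMat)) :
    ∃ (a : GL (Ix n) F) (b : GL (Fin s → Ix n) F), a ∈ u1 n F ∧ b ∈ uT n s F ∧ g = sl j a * embGL j b := by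
  classical
  have hcb : ∀ x y, ∃ c : F, ¬ (x = 0 ∧ y = 1) → blk j x y (g : BMat) = c • blk j 0 0 (g : BMat) := fun x y => by
    by_cases hxy : x = 0 ∧ y = 1
    · exact ⟨0, fun hn => absurd hxy hn⟩
    · obtain ⟨c, hc'⟩ := h.blocks hg hN hc x y hxy; exact ⟨c, fun _ => hc'⟩
  choose α hα using hcb
  obtain ⟨hr, hcl, h11⟩ := root_shape hc
  obtain ⟨hr', hcl', h11'⟩ := root_shape (inv_comm hc)
  set B := blk j 0 0 (g : BMat) with hB
  set B' := blk j 0 0 ((g⁻¹ : GL (Fin (s + 1) → Ix n) F) : BMat) with hB'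
  have hBB : B' * B = 1 := by
    have e := sum_blk_mul j 0 0 ((g⁻¹ : GL (Fin (s + 1) → Ix n) F) : BMat) (g : BMat)
    rwa [gl_inv_mul, blk_one, if_pos rfl, Finset.sum_eq_single 0 (fun e _ he => by rw [hcl e he, mul_zero]) (by simp)] at e
  let Bu : GL (Fin (s + 1) → Ix n) F := ⟨B, B', mul_eq_one_comm.1 hBB, hBB⟩
  have hBc : Cm j B := cm_blk j 0 0 _
  have hBu : Bu ∈ uT n (s + 1) F := by
    rw [mem_uSub]
    show B * adj (eT n (s + 1) F) (sT n (s + 1)) B = 1
    rw [hB, adj_blk, adj_of_mem hg, s1_zero, h11', e1_zero, mul_one, one_smul]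
    exact mul_eq_one_comm.1 hBB
  -- the scalar part
  set h₁ := Bu⁻¹ * g with hh₁
  have hh₁u : h₁ ∈ uT n (s + 1) F := mul_mem (inv_mem hBu) hg
  have hh₁b : ∀ x y, blk j x y (h₁ : BMat) = B' * blk j x y (g : BMat) := fun x y => by
    rw [hh₁, Units.val_mul, blk_left (B := ((Bu⁻¹ : GL (Fin (s + 1) → Ix n) F) : BMat))]
    · rfl
    · exact cm_blk j 0 0 _
  have hh₁s : ∀ x y, ¬ (x = 0 ∧ y = 1) → blk j x y (h₁ : BMat) = α x y • 1 := fun x y hxy => by
    rw [hh₁b, hα x y hxy, Matrix.mul_smul, hBB]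
  set C := blk j 0 1 (h₁ : BMat) with hC
  have h100 : blk j 0 0 (h₁ : BMat) = 1 := by rw [hh₁b, hBB]
  have h1x0 : ∀ x, x ≠ 0 → blk j x 0 (h₁ : BMat) = 0 := fun x hx => by rw [hh₁b, hcl x hx, mul_zero]
  have hCc : Cm j C := cm_blk j 0 1 _
  have hCs : adj (eT n (s + 1) F) (sT n (s + 1)) C = C := by
    set v : Ix n → F := fun f => if f = 0 ∨ f = 1 then 0 else α 0 f with hv
    have hterm : ∀ f, blk j 0 f (h₁ : BMat) * blk j f 1 ((h₁⁻¹ : GL (Fin (s + 1) → Ix n) F) : BMat) =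
        (if f = 0 then -adj (eT n (s + 1) F) (sT n (s + 1)) C else 0) + (if f = 1 then C else 0) -
          (dual (e1 n F) (s1 n) v f * v f) • (1 : BMat) := fun f => by
      rw [inv_blk hh₁u, e1_one, s1_one]
      by_cases f0 : f = 0
      · subst f0
        rw [s1_zero, e1_zero, ← hC, h100, one_mul, one_mul, if_pos rfl, if_neg (by simp), neg_one_smul]
        simp [hv]
      by_cases f1 : f = 1
      · subst f1
        rw [s1_one, e1_one, ← hC, h100, adj_one sgT, if_neg (by simp), if_pos rfl]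
        simp [hv]
      rw [if_neg f0, if_neg f1, hh₁s 0 f (fun e => f1 e.2), hh₁s 0 (s1 n f) (fun e => (s1_mid f0 f1).2 e.2), adj_smul,
        adj_one sgT, smul_smul, Matrix.smul_mul, one_mul, smul_smul, add_zero, zero_sub, ← neg_smul]
      simp only [hv, dual, f0, f1, (s1_mid f0 f1).1, (s1_mid f0 f1).2, or_self, if_false]
      congr 1
      ring
    have e := sum_blk_mul j 0 1 (h₁ : BMat) ((h₁⁻¹ : GL (Fin (s + 1) → Ix n) F) : BMat)
    rw [gl_mul_inv, blk_one, if_neg (by simp), Finset.sum_congr rfl fun f _ => hterm f, Finset.sum_sub_distrib,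
      Finset.sum_add_distrib, Finset.sum_ite_eq', Finset.sum_ite_eq', if_pos (Finset.mem_univ _),
      if_pos (Finset.mem_univ _), ← Finset.sum_smul,
      show ∑ f, dual (e1 n F) (s1 n) v f * v f = 0 from iso1 v, zero_smul, sub_zero, neg_add_eq_sub,
      sub_eq_zero] at e
    exact e.symm
  have hsz : sx j 0 1 * C * (sx j 0 1 * C) = 0 := by rw [sxm_mul hCc, if_neg (by simp)]
  let u : GL (Fin (s + 1) → Ix n) F := ⟨1 + sx j 0 1 * C, 1 - sx j 0 1 * C,
    by rw [add_mul, one_mul, mul_sub, mul_one, hsz, sub_zero, sub_add_cancel],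
    by rw [sub_mul, one_mul, mul_add, mul_one, hsz, add_zero, add_sub_cancel_right]⟩
  have hue : (u : BMat) = 1 + sx j 0 1 * C := rfl
  have huie : ((u⁻¹ : GL (Fin (s + 1) → Ix n) F) : BMat) = 1 - sx j 0 1 * C := rfl
  have hu : u ∈ uT n (s + 1) F := mem_of_one_add hue hsz (by
    rw [adj_mul sgT, hCs, adj_sx01, mul_neg, hCc])
  obtain ⟨Y, hY⟩ : ∃ Y : Matrix (Ix n) (Ix n) F,
      ((h₁ * u⁻¹ : GL (Fin (s + 1) → Ix n) F) : BMat) = slot j Y := eq_slot_of_blk j fun x y => by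
    rw [Units.val_mul, huie, mul_sub, mul_one, ← mul_assoc]
    have e : (h₁ : BMat) * sx j 0 1 = sx j 0 1 := ext_blk j fun x y => by
      rw [blk_sx_right, blk_sx]
      by_cases hy : y = 1 <;> by_cases hx : x = 0 <;> simp [hx, hy, h100, h1x0]
    rw [e, blk_sub, blk_right hCc, blk_sx]
    by_cases hxy : x = 0 ∧ y = 1
    · rw [if_pos hxy, one_mul, hxy.1, hxy.2, ← hC, sub_self]
      exact ⟨0, (zero_smul _ _).symm⟩
    · rw [if_neg hxy, zero_mul, sub_zero]
      exact ⟨α x y, hh₁s x y hxy⟩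
  obtain ⟨a, ha⟩ := exists_sl (Nat.succ_pos _) hY
  have hau : a ∈ u1 n F := (sl_mem_iff j).1 (ha ▸ mul_mem hh₁u (inv_mem hu))
  have hcomB : ∀ b : GL (Ix n) F, Bu * sl j b = sl j b * Bu := fun b => Units.ext (by
    rw [Units.val_mul, Units.val_mul, sl_coe]; exact (comm_slot_of_units hBc _).symm)
  have hgK : g = sl j a * Bu * u := by rw [← hcomB, ← ha, hh₁]; group
  have hg' : ∀ T, T ∈ u1 n F → Bu * u * sl j T * (Bu * u)⁻¹ ∈ M := fun T hT => by
    have hsa := h.base.sl_mem j hau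
    have := M.mul_mem (M.mul_mem (M.inv_mem hsa) (hN j T hT)) hsa
    rwa [hgK, show (sl j a)⁻¹ * (sl j a * Bu * u * sl j T * (sl j a * Bu * u)⁻¹) * sl j a =
      Bu * u * sl j T * (Bu * u)⁻¹ by group] at this
  have hfix : ∀ (b : GL (Ix n) F) {X : BMat}, Cm j X → cj (sl j b) X = X := fun b X hX =>
    cj_eq_self (by rw [sl_coe]; exact comm_slot_of_units hX _)
  have hBsx : ∀ X, cj Bu (slot j X) = (slot j X : BMat) := fun X => cj_eq_self (comm_slot_of_units hBc X).symm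
  set C' := cj Bu C with hC'
  have hC'c : Cm j C' := cm_cj (fun p q => hBsx _) hCc
  -- commutators with the base
  have hcomm : ∀ T : GL (Ix n) F, T ∈ u1 n F → Mem1 M (cj Bu ((u : BMat) * (1 - slot j (cj T (Matrix.single 0 1 1)) * C) - 1)) :=
    fun T hT => ⟨Bu * u * sl j T * (Bu * u)⁻¹ * (sl j T)⁻¹,
      M.mul_mem (hg' T hT) (M.inv_mem (h.base.sl_mem j hT)), by
      have e : Bu * u * sl j T * (Bu * u)⁻¹ * (sl j T)⁻¹ = Bu * (u * (sl j T * u⁻¹ * (sl j T)⁻¹)) * Bu⁻¹ := by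
        have h1 : Commute Bu (sl j T) := hcomB T
        rw [_root_.mul_inv_rev]
        simp only [mul_assoc]
        rw [(h1.inv_inv).eq]
      rw [e, ← cj_coe, Units.val_mul, ← cj_coe, huie, cj_sub, cj_one, cj_mul (sl j T), hfix T hCc, sx, cj_sl_slot,
        show (1 : BMat) + cj Bu ((u : BMat) * (1 - slot j (cj T (Matrix.single 0 1 1)) * C) - 1) =
          cj Bu ((u : BMat) * (1 - slot j (cj T (Matrix.single 0 1 1)) * C)) by
          rw [cj_sub, cj_one, add_sub_cancel]]⟩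
  have hcomm' : (∀ T : GL (Ix n) F, T ∈ u1 n F →
      dual (e1 n F) (s1 n) (Pi.single 0 1) ⬝ᵥ ((T : Matrix (Ix n) (Ix n) F) *ᵥ Pi.single 0 (1 : F)) = 0 →
      Mem1 M (slot j (vecMulVec ((T : Matrix (Ix n) (Ix n) F) *ᵥ Pi.single 0 1)
          (dual (e1 n F) (s1 n) ((T : Matrix (Ix n) (Ix n) F) *ᵥ Pi.single 0 1)) -
        vecMulVec (Pi.single 0 1) (dual (e1 n F) (s1 n) (Pi.single 0 1))) * C')) ∧ Cm j C' := by
    refine ⟨fun T hT horth => ?_, hC'c⟩
    let P : (Ix n → F) → Matrix (Ix n) (Ix n) F := fun w => vecMulVec w (dual (e1 n F) (s1 n) w)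
    have hP0 : Matrix.single (0 : Ix n) 1 (1 : F) = -P (Pi.single 0 1) := by simp only [P, vmv_e0, neg_neg]
    convert hcomm T hT using 1
    rw [hP0, cj_neg, cj_vmv_dual hT, hue,
      show slot j (-P ((T : Matrix (Ix n) (Ix n) F) *ᵥ Pi.single 0 1)) =
        -(slot j (P ((T : Matrix (Ix n) (Ix n) F) *ᵥ Pi.single 0 1)) : BMat) by
          rw [← slotHom_apply, map_neg, slotHom_apply],
      show sx j 0 1 = -(slot j (P (Pi.single 0 1)) : BMat) by
        rw [sx, hP0, ← slotHom_apply, map_neg, slotHom_apply], neg_mul, neg_mul, sub_neg_eq_add, add_mul, one_mul,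
      mul_add, mul_one, neg_mul, mul_assoc (slot j (P (Pi.single 0 1))), ← mul_assoc C,
      ← comm_slot_of_units hCc (P ((T : Matrix (Ix n) (Ix n) F) *ᵥ Pi.single 0 1)),
      mul_assoc (slot j (P ((T : Matrix (Ix n) (Ix n) F) *ᵥ Pi.single 0 1))), ← mul_assoc (slot j (P (Pi.single 0 1))),
      slot_mul, vmv_dual_mul horth, slot_zero, zero_mul]
    rw [show (1 : BMat) + slot j (P ((T : Matrix (Ix n) (Ix n) F) *ᵥ Pi.single 0 1)) * C +
        (-(slot j (P (Pi.single 0 1)) * C) + -0) - 1 =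
      slot j (P ((T : Matrix (Ix n) (Ix n) F) *ᵥ Pi.single 0 1) - P (Pi.single 0 1)) * C by
        rw [slot_sub, sub_mul]; abel, cj_mul, hBsx]
  -- the remaining cofactor is scalar
  obtain ⟨z, hz⟩ : ∃ z : F, C = z • 1 := by
    suffices ∃ (d : F), d ≠ 0 ∧ Mem1 M (sx j 0 1 * (d • C')) by
      obtain ⟨d, hd, hm⟩ := this
      obtain ⟨c, hc'⟩ := h.scal j _ (hC'c.smul d) hm
      refine ⟨d⁻¹ * c, cj_injective Bu ?_⟩
      rw [cj_smul, cj_one, mul_smul, ← hc', smul_smul, inv_mul_cancel₀ hd, one_smul]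
    rcases Nat.lt_or_ge n 2 with hn2 | hn2
    · have h2 : (2 : F) ≠ 0 := h.dich.resolve_right (by omega)
      rcases h.hq with hn | h3
      swap
      · obtain ⟨x, hx⟩ := exists_sq_ne_one h3
        refine ⟨1 - (x : F) * x, sub_ne_zero.2 (Ne.symm hx), ?_⟩
        convert hcomm _ (tor_mem x) using 1
        rw [cj_tor01, TensorPower.slot_smul, Matrix.smul_mul, hue, add_mul, one_mul, mul_sub, mul_one]
        simp only [Matrix.mul_smul]
        rw [show sx j 0 1 * C * (slot j (Matrix.single 0 1 1) * C) = 0 from hsz, smul_zero, sub_zero,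
          show (1 : BMat) - ((x : F) * x) • (slot j (Matrix.single 0 1 1) * C) + sx j 0 1 * C - 1 =
            (1 - (x : F) * x) • (sx j 0 1 * C) by
            rw [sub_smul, one_smul]; show _ = _ - ((x : F) * x) • (slot j _ * C); abel,
          cj_smul, cj_mul, sx, hBsx]
      · exact split_odd h hcomm' h2 hn
    · exact split_even h hcomm' hn2
  obtain ⟨b, hb⟩ := exists_embGL j (x := Bu) hBc
  have hue' : u = sl j (rt n z) := Units.ext (by
    rw [sl_coe, rt_coe, slot_add, slot_one, TensorPower.slot_smul, hue, hz, Matrix.mul_smul, mul_one]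
    rfl)
  refine ⟨a * rt n z, b, mul_mem hau (rt_mem z), (embGL_mem_iff j).1 (hb ▸ hBu), ?_⟩
  rw [hgK, hue', hb, mul_assoc, ← embGL_comm, ← mul_assoc, sl_mul]

/-- an element of `M` commuting with a root splits -/
theorem SCtx.root_split_mem (h : SCtx M) {g : GL (Fin (s + 1) → Ix n) F} (hg : g ∈ M)
    {j : Fin (s + 1)} (hc : (g : BMat) * sx j 0 1 = sx j 0 1 * (g : BMat)) :
    ∃ (a : GL (Ix n) F) (b : GL (Fin s → Ix n) F), a ∈ u1 n F ∧ b ∈ uT n s F ∧ g = sl j a * embGL j b :=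
  h.root_split (h.le hg) (fun l b hb => M.mul_mem (M.mul_mem hg (h.base.sl_mem l hb)) (M.inv_mem hg)) hc

end CfsgLib.Perm.Trans.TensorPowerSp
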