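import Cfsg.Agent.Lib.Perm.Trans.TensorPower.Odd

/-!
# Adjoints for a form with a signed monomial Gram matrix
-/

set_option autoImplicit false
set_option linter.all false

namespace CfsgLib.Perm.Trans.TensorPowerSp

open scoped Matrix
open Matrix Cfsg.Geo CfsgLib.Perm.Asch CfsgLib.Perm.Trans CfsgLib.Perm.Trans.TensorPower

variable {F : Type*} [Field F]

section General

variable {ι : Type} [Fintype ι] [DecidableEq ι]

/-- signs `ε` on the involution `S`, with constant product `δ` on its pairs -/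
structure Sg (ε : ι → F) (S : ι → ι) (δ : F) : Prop where
  inv : Function.Involutive S
  sq : ∀ x, ε x * ε x = 1
  pr : ∀ x, ε x * ε (S x) = δ

/-- the adjoint for the form `∑ v x * ε x * w (S x)` -/
def adj (ε : ι → F) (S : ι → ι) (X : Matrix ι ι F) : Matrix ι ι F :=
  Matrix.of fun x y => ε x * ε y * X (S y) (S x)

/-- the functional of a vector -/
def dual (ε : ι → F) (S : ι → ι) (u : ι → F) : ι → F := fun x => ε x * u (S x)

variable {ε : ι → F} {S : ι → ι} {δ : F}

omit [Fintype ι] [DecidableEq ι] in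
theorem adj_apply (X : Matrix ι ι F) (x y : ι) : adj ε S X x y = ε x * ε y * X (S y) (S x) := rfl

omit [Fintype ι] [DecidableEq ι] in
theorem adj_add (X Y : Matrix ι ι F) : adj ε S (X + Y) = adj ε S X + adj ε S Y := by ext; simp [adj_apply, mul_add]

omit [Fintype ι] [DecidableEq ι] in
theorem adj_sub (X Y : Matrix ι ι F) : adj ε S (X - Y) = adj ε S X - adj ε S Y := by ext; simp [adj_apply, mul_sub]

omit [Fintype ι] [DecidableEq ι] in
theorem adj_neg (X : Matrix ι ι F) : adj ε S (-X) = -adj ε S X := by ext; simp [adj_apply]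

omit [Fintype ι] [DecidableEq ι] in
theorem adj_smul (c : F) (X : Matrix ι ι F) : adj ε S (c • X) = c • adj ε S X := by
  ext; simp [adj_apply]; ring

omit [Fintype ι] [DecidableEq ι] in
theorem adj_zero : adj ε S (0 : Matrix ι ι F) = 0 := by ext; simp [adj_apply]

omit [Fintype ι] in
theorem adj_one (h : Sg ε S δ) : adj ε S (1 : Matrix ι ι F) = 1 := by
  ext x y
  by_cases e : x = y
  · subst e; simp [adj_apply, h.sq]
  · simp [adj_apply, Matrix.one_apply_ne e, Matrix.one_apply_ne (fun e' => e (h.inv.injective e').symm)]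

omit [Fintype ι] [DecidableEq ι] in
theorem adj_adj (h : Sg ε S δ) (X : Matrix ι ι F) : adj ε S (adj ε S X) = X := by
  ext x y
  rw [adj_apply, adj_apply, h.inv, h.inv]
  have hδ : δ * δ = 1 := by rw [← h.pr x]; linear_combination (ε x * ε x) * h.sq (S x) + h.sq x
  linear_combination (ε y * ε (S y) * X x y) * h.pr x + X x y * δ * h.pr y + X x y * hδ

omit [DecidableEq ι] in
theorem adj_mul (h : Sg ε S δ) (X Y : Matrix ι ι F) : adj ε S (X * Y) = adj ε S Y * adj ε S X := by
  ext x y
  rw [adj_apply, Matrix.mul_apply, Matrix.mul_apply, Finset.mul_sum]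
  refine Fintype.sum_equiv h.inv.toPerm _ _ fun z => ?_
  rw [adj_apply, adj_apply, Function.Involutive.coe_toPerm, h.inv]
  linear_combination (-(ε x * ε y * X (S y) z * Y z (S x))) * h.sq (S z)

omit [Fintype ι] in
theorem adj_single (h : Sg ε S δ) (a b : ι) (c : F) :
    adj ε S (Matrix.single a b c) = Matrix.single (S b) (S a) (ε (S b) * ε (S a) * c) := by
  ext x y
  rw [adj_apply, Matrix.single_apply, Matrix.single_apply, mul_ite, mul_zero]
  split_ifs with h1 h2 h2
  · rw [h1.1, h1.2, h.inv, h.inv]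
  · exact absurd ⟨by rw [h1.2, h.inv], by rw [h1.1, h.inv]⟩ h2
  · exact absurd ⟨by rw [← h2.2, h.inv], by rw [← h2.1, h.inv]⟩ h1
  · rfl

omit [Fintype ι] [DecidableEq ι] in
theorem dual_add (u w : ι → F) : dual ε S (u + w) = dual ε S u + dual ε S w := funext fun x => mul_add _ _ _

omit [Fintype ι] [DecidableEq ι] in
theorem dual_smul (c : F) (u : ι → F) : dual ε S (c • u) = c • dual ε S u :=
  funext fun x => by simp [dual]; ring

omit [Fintype ι] in
theorem dual_single (h : Sg ε S δ) (a : ι) (c : F) :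
    dual ε S (Pi.single a c) = Pi.single (S a) (ε (S a) * c) := by
  funext x
  rw [dual, Pi.single_apply, Pi.single_apply, mul_ite, mul_zero]
  split_ifs with h1 h2 h2
  · rw [h2]
  · exact absurd (by rw [← h1, h.inv]) h2
  · exact absurd (by rw [h2, h.inv]) h1
  · rfl

omit [Fintype ι] [DecidableEq ι] in
theorem dual_dual (h : Sg ε S δ) (u : ι → F) : dual ε S (dual ε S u) = δ • u := by
  funext x
  rw [dual, dual, h.inv, ← mul_assoc, h.pr, Pi.smul_apply, smul_eq_mul]

omit [Fintype ι] [DecidableEq ι] in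
theorem dual_eq_zero (h : Sg ε S δ) {u : ι → F} (e : dual ε S u = 0) : u = 0 := funext fun y => by
  have := congrFun e (S y)
  rw [dual, h.inv, Pi.zero_apply, mul_eq_zero] at this
  exact this.resolve_left fun e0 => by simpa [e0] using h.sq (S y)

omit [Fintype ι] [DecidableEq ι] in
theorem adj_vecMulVec (h : Sg ε S δ) (u w : ι → F) :
    adj ε S (vecMulVec u (dual ε S w)) = δ • vecMulVec w (dual ε S u) := by
  ext x y
  rw [adj_apply, vecMulVec_apply, Matrix.smul_apply, vecMulVec_apply, dual, dual, h.inv, smul_eq_mul]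
  linear_combination (ε y * u (S y) * w x) * h.pr x

omit [DecidableEq ι] in
theorem dual_dot (h : Sg ε S δ) (u w : ι → F) : dual ε S u ⬝ᵥ w = δ * (dual ε S w ⬝ᵥ u) := by
  rw [dotProduct, dotProduct, Finset.mul_sum]
  refine Fintype.sum_equiv h.inv.toPerm _ _ fun x => ?_
  rw [dual, dual, Function.Involutive.coe_toPerm, h.inv, ← h.pr x]
  linear_combination (-(ε x * u (S x) * w x)) * h.sq (S x)

omit [DecidableEq ι] in
theorem dual_mulVec (h : Sg ε S δ) (X : Matrix ι ι F) (u : ι → F) :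
    dual ε S (X *ᵥ u) = dual ε S u ᵥ* adj ε S X := by
  funext y
  rw [dual, mulVec, vecMul, dotProduct, dotProduct, Finset.mul_sum]
  refine Fintype.sum_equiv h.inv.toPerm _ _ fun z => ?_
  rw [dual, adj_apply, Function.Involutive.coe_toPerm, h.inv]
  linear_combination (-(ε y * X (S y) z * u z)) * h.sq (S z)

/-- the isometries -/
def uSub (h : Sg ε S δ) : Subgroup (GL ι F) where
  carrier := {g | (g : Matrix ι ι F) * adj ε S (g : Matrix ι ι F) = 1}
  one_mem' := by show (1 : GL ι F).val * _ = 1; rw [Units.val_one, adj_one h, one_mul]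
  mul_mem' := by
    intro a b ha hb
    show (a * b : GL ι F).val * adj ε S (a * b : GL ι F).val = 1
    rw [Units.val_mul, adj_mul h, mul_assoc, ← mul_assoc (b : Matrix ι ι F), hb, one_mul, ha]
  inv_mem' := by
    intro a ha
    have h1 : adj ε S (a : Matrix ι ι F) = ((a⁻¹ : GL ι F) : Matrix ι ι F) := by
      have := congrArg (((a⁻¹ : GL ι F) : Matrix ι ι F) * ·) ha
      simpa only [← mul_assoc, gl_inv_mul, one_mul, mul_one] using this
    show ((a⁻¹ : GL ι F) : Matrix ι ι F) * adj ε S ((a⁻¹ : GL ι F) : Matrix ι ι F) = 1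
    rw [← h1, adj_adj h, h1, gl_inv_mul]

variable {h : Sg ε S δ}

theorem mem_uSub {g : GL ι F} : g ∈ uSub h ↔ (g : Matrix ι ι F) * adj ε S (g : Matrix ι ι F) = 1 := Iff.rfl

theorem adj_of_mem {g : GL ι F} (hg : g ∈ uSub h) :
    adj ε S (g : Matrix ι ι F) = ((g⁻¹ : GL ι F) : Matrix ι ι F) := by
  have := congrArg (((g⁻¹ : GL ι F) : Matrix ι ι F) * ·) (mem_uSub.1 hg)
  simpa only [← mul_assoc, gl_inv_mul, one_mul, mul_one] using this

theorem adj_cj {g : GL ι F} (hg : g ∈ uSub h) (X : Matrix ι ι F) :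
    adj ε S (cj g X) = cj g (adj ε S X) := by
  rw [cj, cj, adj_mul h, adj_mul h, ← adj_of_mem hg, adj_adj h, mul_assoc]

/-- an isometry moves the dual vector along -/
theorem dual_image {g : GL ι F} (hg : g ∈ uSub h) (u : ι → F) :
    dual ε S ((g : Matrix ι ι F) *ᵥ u) = dual ε S u ᵥ* ((g⁻¹ : GL ι F) : Matrix ι ι F) := by
  rw [dual_mulVec h, adj_of_mem hg]

theorem cj_vmv_dual {g : GL ι F} (hg : g ∈ uSub h) (u w : ι → F) :
    cj g (vecMulVec u (dual ε S w)) =
      vecMulVec ((g : Matrix ι ι F) *ᵥ u) (dual ε S ((g : Matrix ι ι F) *ᵥ w)) := by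
  rw [dual_image hg, cj, mul_vecMulVec, vecMulVec_mul]

/-- the skew adjoint condition of a square-zero element -/
theorem adj_of_one_add {g : GL ι F} {X : Matrix ι ι F} (hg : g ∈ uSub h) (he : (g : Matrix ι ι F) = 1 + X)
    (hX : X * X = 0) : adj ε S X = -X := by
  have h' := adj_of_mem hg
  rw [he, adj_add, adj_one h, inv_one_add he hX, sub_eq_add_neg, add_right_inj] at h'
  exact h'

theorem mem_of_one_add {g : GL ι F} {X : Matrix ι ι F} (he : (g : Matrix ι ι F) = 1 + X)
    (hX : X * X = 0) (hθ : adj ε S X = -X) : g ∈ uSub h := by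
  rw [mem_uSub, he, adj_add, adj_one h, hθ, ← sub_eq_add_neg, add_mul, one_mul, mul_sub, mul_one, hX, sub_zero,
    sub_add_cancel]

end General

/-! ### the coordinates of a tensor power -/

variable {n t : ℕ}

/-- the index of one factor -/
abbrev Ix (n : ℕ) := Fin (2 * n + 2)

/-- hyperbolic pairs -/
def s1 (n : ℕ) (x : Ix n) : Ix n :=
  if h : (x : ℕ) % 2 = 0 then ⟨(x : ℕ) + 1, by omega⟩ else ⟨(x : ℕ) - 1, by omega⟩

/-- the signs of the pairs -/
def e1 (n : ℕ) (F : Type*) [Field F] (x : Ix n) : F := if (x : ℕ) % 2 = 0 then 1 else -1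

/-- the same in every factor -/
def sT (n t : ℕ) : (Fin t → Ix n) → (Fin t → Ix n) := fun x l => s1 n (x l)

/-- the signs of the tensor power -/
def eT (n t : ℕ) (F : Type*) [Field F] (x : Fin t → Ix n) : F := ∏ l, e1 n F (x l)

theorem s1_val (x : Ix n) : (s1 n x : ℕ) = if (x : ℕ) % 2 = 0 then (x : ℕ) + 1 else (x : ℕ) - 1 := by
  unfold s1; split_ifs <;> rfl

theorem s1_inv : Function.Involutive (s1 n) := fun x => Fin.ext (by
  rw [s1_val, s1_val]; split_ifs <;> omega)

theorem sg1 : Sg (e1 n F) (s1 n) (-1) where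
  inv := s1_inv
  sq x := by unfold e1; split_ifs <;> simp
  pr x := by
    unfold e1
    rw [s1_val]
    split_ifs <;> first | omega | simp

theorem sgT : Sg (eT n t F) (sT n t) ((-1) ^ t) where
  inv x := funext fun l => s1_inv (x l)
  sq x := by rw [eT, ← Finset.prod_mul_distrib]; exact Finset.prod_eq_one fun l _ => sg1.sq _
  pr x := by
    rw [eT, eT, ← Finset.prod_mul_distrib, Finset.prod_congr rfl fun l _ => show e1 n F (x l) * e1 n F (sT n t x l) = -1
      from sg1.pr _]
    simp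

theorem s1_zero : s1 n 0 = 1 := Fin.ext (by rw [s1_val]; simp)

theorem s1_one : s1 n 1 = 0 := by rw [← s1_zero, s1_inv]

theorem e1_zero : e1 n F 0 = 1 := by simp [e1]

theorem e1_one : e1 n F 1 = -1 := by simp [e1]

theorem zero_ne_one' : (0 : Ix n) ≠ 1 := by simp

theorem s1_ne (x : Ix n) : s1 n x ≠ x := fun e => by
  have := congrArg Fin.val e
  rw [s1_val] at this
  split_ifs at this <;> omega

theorem s1_mid {a : Ix n} (h0 : a ≠ 0) (h1 : a ≠ 1) : s1 n a ≠ 0 ∧ s1 n a ≠ 1 :=
  ⟨fun e => h1 (by rw [← s1_inv a, e, s1_zero]), fun e => h0 (by rw [← s1_inv a, e, s1_one])⟩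

theorem adj_pure (A : Fin t → Matrix (Ix n) (Ix n) F) :
    adj (eT n t F) (sT n t) (CfsgLib.Perm.Asch.pure A) =
      CfsgLib.Perm.Asch.pure (fun l => adj (e1 n F) (s1 n) (A l)) := by
  ext x y
  rw [adj_apply, pure_apply, pure_apply, eT, eT, ← Finset.prod_mul_distrib, ← Finset.prod_mul_distrib]
  rfl

theorem adj_slot (i : Fin t) (X : Matrix (Ix n) (Ix n) F) :
    adj (eT n t F) (sT n t) (slot i X) = slot i (adj (e1 n F) (s1 n) X) := by
  rw [slot, slot, adj_pure]
  congr 1
  funext l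
  rcases eq_or_ne l i with rfl | hl
  · simp
  · simp [Pi.mulSingle_eq_of_ne hl, adj_one sg1]

theorem adj_sx01 (i : Fin t) :
    adj (eT n t F) (sT n t) (sx i 0 1) = -(sx i 0 1 : Matrix (Fin t → Ix n) (Fin t → Ix n) F) := by
  rw [sx, adj_slot, adj_single sg1, s1_zero, s1_one, e1_zero, e1_one, one_mul, mul_one, ← Matrix.single_neg,
    ← slotHom_apply, map_neg, slotHom_apply]

theorem adj_permMat (π : Equiv.Perm (Fin t)) :
    adj (eT n t F) (sT n t) (permMat π : Matrix (Fin t → Ix n) _ F) = permMat π⁻¹ := by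
  have key : ∀ x y : Fin t → Ix n, (sT n t x = fun l => sT n t y (π l)) ↔ (y = fun l => x (π⁻¹ l)) := fun x y =>
    ⟨fun h => funext fun l => s1_inv.injective (by simpa [sT] using (congrFun h (π⁻¹ l)).symm),
      fun h => funext fun l => by rw [h]; simp [sT]⟩
  ext x y
  rw [adj_apply, permMat, permMat, Matrix.of_apply, Matrix.of_apply, mul_ite, mul_one, mul_zero]
  split_ifs with h1 h2 h2
  · have e : eT n t F y = eT n t F x := by
      rw [(key x y).1 h1]
      exact Fintype.prod_equiv π⁻¹ _ _ fun l => rfl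
    rw [e, sgT.sq]
  · exact absurd ((key x y).1 h1) h2
  · exact absurd ((key x y).2 h2) h1
  · rfl

/-- the isometries of one factor -/
abbrev u1 (n : ℕ) (F : Type*) [Field F] : Subgroup (GL (Ix n) F) := uSub (sg1 (F := F) (n := n))

/-- the isometries of the tensor power -/
abbrev uT (n t : ℕ) (F : Type*) [Field F] : Subgroup (GL (Fin t → Ix n) F) := uSub (sgT (F := F) (n := n) (t := t))

theorem pureGL_mem_uT {A : Fin t → GL (Ix n) F} (hA : ∀ l, A l ∈ u1 n F) : pureGL A ∈ uT n t F := by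
  rw [mem_uSub, pureGL_coe, adj_pure, pure_mul, ← pure_one]
  congr 1
  funext l
  exact mem_uSub.1 (hA l)

theorem sl_mem_uT (i : Fin t) {a : GL (Ix n) F} (ha : a ∈ u1 n F) : sl i a ∈ uT n t F := by
  rw [mem_uSub, sl_coe, adj_slot, slot_mul, mem_uSub.1 ha]
  exact slot_one i

theorem sl_mem_iff (i : Fin t) {a : GL (Ix n) F} : sl i a ∈ uT n t F ↔ a ∈ u1 n F := by
  refine ⟨fun h => ?_, sl_mem_uT i⟩
  rw [mem_uSub, sl_coe, adj_slot, slot_mul, ← slot_one i] at h
  haveI : Nonempty (Ix n) := ⟨0⟩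
  exact slot_injective i h

theorem permGL_mem_uT (π : Equiv.Perm (Fin t)) : (permGL π : GL (Fin t → Ix n) F) ∈ uT n t F := by
  rw [mem_uSub, permGL_coe, adj_permMat, ← permGL_coe π, ← permGL_coe π⁻¹, ← Units.val_mul, permGL_mul, mul_inv_cancel,
    permGL_one, Units.val_one]

end CfsgLib.Perm.Trans.TensorPowerSp
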