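import Cfsg.Agent.Lib.Perm.Trans.TensorPowerSp.Class
import Cfsg.Agent.Lib.Perm.Trans.TensorPowerSp.Alg
import Cfsg.Agent.Lib.Perm.Trans.TensorPowerSp.PlaneSL

/-!
# Two-dimensional factors
-/

set_option autoImplicit false
set_option linter.all false

namespace CfsgLib.Perm.Trans.TensorPowerSp

open scoped Matrix
open Matrix Cfsg.Geo CfsgLib.Perm.Asch CfsgLib.Perm.Trans CfsgLib.Perm.Trans.TensorPower CfsgLib.Perm.Dickson

universe u

variable {F : Type u} [Field F] {s : ℕ}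

local notation "BMat" => Matrix (Fin (s + 1) → Ix 0) (Fin (s + 1) → Ix 0) F

theorem sum_ix0 {α : Type*} [AddCommMonoid α] (f : Ix 0 → α) : ∑ x, f x = f 0 + f 1 := Fin.sum_univ_two f

theorem sx_sum0 (i : Fin (s + 1)) : sx i 0 0 + sx i 1 1 = (1 : BMat) := by
  rw [← sum_ix0 (fun r : Ix 0 => (sx i r r : BMat)), sx_sum]

theorem sx01_kill (i : Fin (s + 1)) {X : BMat} (hX : Cm i X) (h : sx i 0 1 * X = 0) : X = 0 := by
  have e : ∀ r : Ix 0, sx i r r * X = 0 := fun r => by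
    have h1 : sx i r 0 * (sx i 0 1 * X) * sx i 1 r = 0 := by rw [h, Matrix.mul_zero, Matrix.zero_mul]
    rwa [← mul_assoc, sx_mul, if_pos rfl, mul_assoc, ← hX, ← mul_assoc, sx_mul, if_pos rfl] at h1
  rw [← one_mul X, ← sx_sum0 i, add_mul, e, e, add_zero]

theorem ker_sx01 (i : Fin (s + 1)) (X : BMat) (h : sx i 0 1 * X = 0) : ∃ X', X = sx i 0 1 * X' := by
  have e : sx i 1 1 * X = 0 := by
    have h1 : sx i 1 0 * (sx i 0 1 * X) = 0 := by rw [h, Matrix.mul_zero]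
    rwa [← mul_assoc, sx_mul, if_pos rfl] at h1
  refine ⟨sx i 1 0 * X, ?_⟩
  rw [← mul_assoc, sx_mul, if_pos rfl]
  conv_lhs => rw [← one_mul X, ← sx_sum0 i, add_mul, e, add_zero]

theorem comm01_shape (i : Fin (s + 1)) {X : BMat} (h : X * sx i 0 1 = sx i 0 1 * X) :
    X = blk i 0 0 X + sx i 0 1 * blk i 0 1 X := by
  obtain ⟨hr, hc, h11⟩ := root_shape h
  conv_lhs => rw [← blk_sum i X, sum_ix0, sum_ix0, sum_ix0, hc 1 (by simp), Matrix.mul_zero, zero_add, h11]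
  conv_rhs => arg 1; rw [← one_mul (blk i 0 0 X), ← sx_sum0 i, add_mul]
  abel

/-- two-dimensional factors have odd characteristic -/
theorem SCtx.h2' [Fintype F] {M : Subgroup (GL (Fin (s + 1) → Ix 0) F)} (h : SCtx M) : (2 : F) ≠ 0 :=
  h.dich.resolve_right (by omega)

/-- an element centralising the factor of the root acts trivially on the planes -/
theorem plane_trivial [Fintype F] (i : Fin (s + 1)) {Y : BMat} {hN : (sx i 0 1 : BMat) * sx i 0 1 = 0} {hY : Y * Y = 0}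
    {L : Type u} [Field L] {φ : F →+* L} (π : Pl φ (sx i 0 1 : BMat) Y)
    {z : EG (sx i 0 1 : BMat) Y hN hY} (hz : Cm i (((z : GL (Fin (s + 1) → Ix 0) F) : BMat) - 1)) {k : ℕ} (hk : Odd k)
    (hzk : z ^ k = 1) {x : L} (hx : π.rho z = trA x) : x = 0 := by
  obtain ⟨g, hg⟩ := z
  obtain ⟨v1, v2⟩ := π.vec_of_rho hx
  obtain ⟨hc1, hc2⟩ := π.casimir hN hY
  have hHN : (sx i 0 1 : BMat) * ((g : BMat) - 1) = ((g : BMat) - 1) * sx i 0 1 := hz 0 1
  have hcN := (cen_casimir hN hY).1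
  have hfix := eg_fix hg (by simp only [sub_mul, mul_sub, one_mul, mul_one] at hHN; exact (sub_left_inj.1 hHN).symm) hk
    (congrArg Subtype.val hzk)
  have hcg := eg_comm hg
  set C := (sx i 0 1 : BMat) * Y + Y * sx i 0 1 with hC
  set H := (g : BMat) - 1 with hH
  have hCH : Commute (C ^ 4) H := (hcg.pow_left 4).sub_right (Commute.one_right _)
  have hshape := comm01_shape i (X := C ^ 4) ((Commute.pow_left (show Commute C (sx i 0 1) from hcN) 4).eq)
  set A := blk i 0 0 (C ^ 4) with hA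
  set D := blk i 0 1 (C ^ 4) with hD
  have hAc : Cm i A := cm_blk i 0 0 _
  have hDc : Cm i D := cm_blk i 0 1 _
  have hzc : Cm i H := hz
  have hA0 : A * H = 0 := by
    refine sx01_kill i (hAc.mul hzc) ?_
    rw [hAc.mul hzc]
    rw [hshape, add_mul, add_mul, hDc 0 1, mul_assoc D, hzc 0 1, mul_assoc D, mul_assoc H (sx i 0 1), hN, Matrix.mul_zero,
      Matrix.mul_zero, add_zero] at hfix
    exact hfix
  have hX : C ^ 4 * H = D * H * sx i 0 1 := by
    rw [hshape, add_mul, hA0, zero_add, hDc 0 1, mul_assoc, hzc 0 1, mul_assoc]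
  set e2 := Y.map φ *ᵥ π.e1 with he2
  have q1 : H.map φ *ᵥ π.e1 = 0 := by
    rw [hH, Matrix.map_sub φ (map_sub φ), Matrix.map_one φ (map_zero φ) (map_one φ), sub_mulVec, one_mulVec, v1, sub_self]
  have q2 : H.map φ *ᵥ e2 = x • π.e1 := by
    rw [hH, Matrix.map_sub φ (map_sub φ), Matrix.map_one φ (map_zero φ) (map_one φ), sub_mulVec, one_mulVec, v2,
      add_sub_cancel_right]
  have l1 : (C ^ 4 * H).map φ *ᵥ e2 = (x * π.l ^ 4) • π.e1 := by
    have hp : ∀ m : ℕ, (C ^ m).map φ *ᵥ π.e1 = π.l ^ m • π.e1 := fun m => by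
      induction m with
      | zero => rw [pow_zero, pow_zero, Matrix.map_one φ (map_zero φ) (map_one φ), one_mulVec, one_smul]
      | succ m ih => rw [pow_succ, Matrix.map_mul, ← mulVec_mulVec, hc1, mulVec_smul, ih, smul_smul, pow_succ']
    rw [Matrix.map_mul, ← mulVec_mulVec, q2, mulVec_smul, hp, smul_smul]
  have l2 : (C ^ 4 * H).map φ *ᵥ e2 = 0 := by
    rw [hX, Matrix.map_mul, ← mulVec_mulVec, he2, π.hle, mulVec_smul, Matrix.map_mul, ← mulVec_mulVec, q1, mulVec_zero,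
      smul_zero]
  rw [l1] at l2
  exact (mul_eq_zero.1 ((smul_eq_zero.1 l2).resolve_right π.he0)).resolve_right (pow_ne_zero _ π.hl0)

theorem utv_zero_coord {u : Ix 0 → F} (hu1 : u 1 = 0) :
    vecMulVec u (dual (e1 0 F) (s1 0) u) = (-(u 0 * u 0)) • Matrix.single (0 : Ix 0) 1 (1 : F) := by
  have e : u = u 0 • Pi.single (0 : Ix 0) (1 : F) := funext fun x => by
    fin_cases x
    · simp
    · simpa using hu1
  conv_lhs => rw [e, dual_smul, vecMulVec_smul, smul_vecMulVec, smul_smul, vmv_e0, smul_neg]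
  rw [neg_smul]

theorem utv_off_coord {u : Ix 0 → F} (hu1 : u 1 ≠ 0) {c : F} (hc : c ≠ 0) :
    ∃ P Q : Matrix (Ix 0) (Ix 0) F,
      1 = P * (c • vecMulVec u (dual (e1 0 F) (s1 0) u)) + Q * Matrix.single 0 1 1 := by
  set d := dual (e1 0 F) (s1 0) u with hd
  have hd0 : d 0 ≠ 0 := by rw [hd, dual, e1_zero, s1_zero]; simpa using hu1
  refine ⟨(c * u 1 * d 0)⁻¹ • Matrix.single 0 1 1, Matrix.single 1 0 1 - (d 1 / d 0) • 1, ?_⟩
  have e : Matrix.single (0 : Ix 0) 1 (1 : F) * vecMulVec u d = u 1 • (d 0 • Matrix.single 0 0 1 + d 1 • Matrix.single 0 1 1) := by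
    ext a b
    fin_cases a <;> fin_cases b <;> simp [Matrix.mul_apply, vecMulVec_apply, Matrix.single_apply, sum_ix0]
  rw [Matrix.smul_mul, Matrix.mul_smul, e, sub_mul, Matrix.single_mul_single_same, mul_one, Matrix.smul_mul, one_mul]
  ext a b
  fin_cases a <;> fin_cases b <;> simp [Matrix.single_apply, Matrix.one_apply] <;> field_simp <;> ring

variable [Fintype F] {M : Subgroup (GL (Fin (s + 1) → Ix 0) F)}

theorem sl_rt_eq (i : Fin (s + 1)) (hN : (sx i 0 1 : BMat) * sx i 0 1 = 0) (a : F) :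
    sl i (rt 0 a) = one1 (sx i 0 1 : BMat) hN a := Units.ext (by
  rw [sl_coe, rt_coe, one1_coe, slot_add, slot_one, TensorPower.slot_smul]; rfl)

theorem SCtx.has_param (h : SCtx M) (hin : InnerS 0 s F) (p : ℕ) [Fact p.Prime] [CharP F p] (hp2 : p ≠ 2)
    (i : Fin (s + 1)) {Y : BMat} {hN : (sx i 0 1 : BMat) * sx i 0 1 = 0} {hY : Y * Y = 0}
    (hle : EG (sx i 0 1 : BMat) Y hN hY ≤ M) : HasParam p (sx i 0 1 : BMat) Y hN hY := by
  intro L _ _ φ Q hQ hR hup z hz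
  classical
  by_cases hne : Nonempty (Pl φ (sx i 0 1 : BMat) Y)
  swap
  · exact ⟨0, fun π => absurd ⟨π⟩ hne⟩
  obtain ⟨π₀⟩ := hne
  obtain ⟨r, hr⟩ : ∃ r, r = sl i (rt 0 (1 : F)) := ⟨_, rfl⟩
  have hrr : IsSRoot r := ⟨i, Pi.single 0 1, e0_iso, -1, by simp, by simp, by rw [hr, rt]⟩
  have hrQ : (⟨r, by rw [hr, sl_rt_eq i hN]; exact mem_EG_left 1⟩ : EG (sx i 0 1 : BMat) Y hN hY) ∈ Q := by
    have := hR 1
    convert this using 2
    rw [hr, sl_rt_eq i hN]
  set Q' := Q.map (EG (sx i 0 1 : BMat) Y hN hY).subtype with hQ'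
  have hQM : Q' ≤ M := by
    rintro _ ⟨w, -, rfl⟩; exact hle w.2
  have hQt := h.p_group_le hin (hQ.map _) hQM hrr ⟨_, hrQ, rfl⟩
  obtain ⟨g, hg⟩ := z
  have hgM : g ∈ M := hle hg
  have hgt := hQt ⟨_, hz, rfl⟩
  have hcls := h.cls hrr hgM (mul_mem (mul_mem hgt hrr.mem_tw) (inv_mem hgt))
  -- the conjugate root
  obtain ⟨r1, hr1⟩ : ∃ r1 : EG (sx i 0 1 : BMat) Y hN hY, r1 = ⟨g, hg⟩ * ⟨r, by rw [hr, sl_rt_eq i hN]; exact mem_EG_left 1⟩ * ⟨g, hg⟩⁻¹ :=
    ⟨_, rfl⟩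
  have hr1c : (r1 : GL (Fin (s + 1) → Ix 0) F) = g * r * g⁻¹ := by rw [hr1]; rfl
  have hr1Q : r1 ∈ Q := hr1 ▸ mul_mem (mul_mem hz hrQ) (inv_mem hz)
  have hρr : ∀ π : Pl φ (sx i 0 1 : BMat) Y, π.rho r1 = trA π.l := fun π => by
    obtain ⟨x, hx⟩ := hup _ hz π
    have er : π.rho (⟨r, by rw [hr, sl_rt_eq i hN]; exact mem_EG_left 1⟩ : EG (sx i 0 1 : BMat) Y hN hY) = trA π.l := by
      have := π.rho_left (hN := hN) (hY := hY) (1 : F)
      rw [map_one, one_mul] at this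
      rw [← this]
      congr 2
      rw [hr, sl_rt_eq i hN]
    rw [hr1, map_mul, map_mul, map_inv, er, ← hx, trA_mul, add_comm, ← trA_mul, mul_inv_cancel_right]
  obtain ⟨k, u, hu, c, hu0, hc0, he⟩ := hcls
  have hcoe := root_coe he
  rw [← hr1c] at hcoe
  have hki : k = i := by
    by_contra hki
    obtain ⟨m, hm⟩ := hQ ⟨r1, hr1Q⟩
    refine π₀.hl0 (plane_trivial i π₀ (z := r1) ?_ ((Fact.out : p.Prime).odd_of_ne_two hp2).pow
      (congrArg Subtype.val hm) (hρr π₀))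
    rw [hcoe, add_sub_cancel_left]
    exact (show Cm i (slot k (vecMulVec u (dual (e1 0 F) (s1 0) u))) from fun a b => slot_comm (Ne.symm hki) _ _).smul c
  subst hki
  have hu1 : u 1 = 0 := by
    by_contra hu1
    obtain ⟨P, Q0, hPQ⟩ := utv_off_coord hu1 hc0
    obtain ⟨v1, -⟩ := π₀.vec_of_rho (hρr π₀)
    have e1 : (c • slot k (vecMulVec u (dual (e1 0 F) (s1 0) u)) : BMat).map φ *ᵥ π₀.e1 = 0 := by
      rw [hcoe, Matrix.map_add φ (map_add φ), Matrix.map_one φ (map_zero φ) (map_one φ), add_mulVec, one_mulVec] at v1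
      exact add_eq_left.1 v1
    have e := congrArg (fun X => (slot k X : BMat).map φ *ᵥ π₀.e1) hPQ
    simp only [slot_one, slot_add, ← slot_mul, TensorPower.slot_smul, Matrix.map_one φ (map_zero φ) (map_one φ),
      Matrix.map_add φ (map_add φ), Matrix.map_mul, add_mulVec, one_mulVec, ← mulVec_mulVec] at e
    rw [e1, slot_single, π₀.hNe, mulVec_zero, mulVec_zero, add_zero] at e
    exact π₀.he0 e
  rw [utv_zero_coord hu1, TensorPower.slot_smul, smul_smul, slot_single] at hcoe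
  generalize c * -(u 0 * u 0) = d at hcoe
  have hd1 : d = 1 := by
    have e : r1 = ⟨one1 (sx k 0 1 : BMat) hN d, mem_EG_left d⟩ := Subtype.ext (Units.ext hcoe)
    have e' := hρr π₀
    rw [e, π₀.rho_left] at e'
    have := trA_inj e'
    exact φ.injective (by rw [map_one]; exact mul_right_cancel₀ π₀.hl0 (this.trans (one_mul _).symm))
  have hcomm : (g : BMat) * sx k 0 1 = sx k 0 1 * (g : BMat) := by
    have e : g * r * g⁻¹ = r := by
      rw [← hr1c]; exact Units.ext (by rw [hcoe, hd1, hr, sl_rt_eq k hN, one1_coe])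
    have e' := congrArg (fun w : GL (Fin (s + 1) → Ix 0) F => (w : BMat)) (mul_inv_eq_iff_eq_mul.1 e)
    simp only [Units.val_mul, hr, sl_rt_eq k hN, one1_coe, one_smul, mul_add, add_mul, mul_one, one_mul] at e'
    exact add_left_cancel e'
  obtain ⟨a, b, ha, hb, hab⟩ := h.root_split_mem hgM hcomm
  have hae : (a : Matrix (Ix 0) (Ix 0) F) * Matrix.single 0 1 1 = Matrix.single 0 1 1 * (a : Matrix (Ix 0) (Ix 0) F) := by
    have e : cj g (sx k 0 1) = (sx k 0 1 : BMat) := cj_eq_self hcomm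
    rw [hab, ← cj_cj, cj_embGL_sx, sx, cj_sl_slot] at e
    have := congrArg (· * (a : Matrix (Ix 0) (Ix 0) F)) (slot_injective k e)
    simpa only [cj, mul_assoc, gl_inv_mul, mul_one] using this
  have h10 : (a : Matrix (Ix 0) (Ix 0) F) 1 0 = 0 := by
    have := congrFun (congrFun hae 1) 1
    simpa [Matrix.mul_apply, sum_ix0, Matrix.single_apply] using this
  have h11 : (a : Matrix (Ix 0) (Ix 0) F) 1 1 = (a : Matrix (Ix 0) (Ix 0) F) 0 0 := by
    have := congrFun (congrFun hae 0) 1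
    simpa [Matrix.mul_apply, sum_ix0, Matrix.single_apply] using this.symm
  have hdet : (a : Matrix (Ix 0) (Ix 0) F) 0 0 * (a : Matrix (Ix 0) (Ix 0) F) 0 0 = 1 := by
    have e := congrFun (congrFun (mem_uSub.1 ha) 0) 0
    simpa [Matrix.mul_apply, sum_ix0, adj_apply, s1_zero, s1_one, e1_zero, e1_one, h10, h11] using e
  generalize hα : (a : Matrix (Ix 0) (Ix 0) F) 0 0 = α at h11 hdet
  generalize hβ : (a : Matrix (Ix 0) (Ix 0) F) 0 1 = β
  have hmat : (a : Matrix (Ix 0) (Ix 0) F) = α • 1 + β • Matrix.single 0 1 1 := by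
    ext x y
    fin_cases x <;> fin_cases y <;> simp [Matrix.one_apply, Matrix.single_apply, hα, hβ, h10, h11]
  refine ⟨α * β, fun π => ?_⟩
  obtain ⟨x, hx⟩ := hup _ hz π
  obtain ⟨z', hz'⟩ : ∃ z' : EG (sx k 0 1 : BMat) Y hN hY, z' = ⟨g, hg⟩ * ⟨one1 (sx k 0 1 : BMat) hN (-(α * β)), mem_EG_left _⟩ :=
    ⟨_, rfl⟩
  have hz'Q : z' ∈ Q := hz' ▸ mul_mem hz (hR _)
  obtain ⟨m, hm⟩ := hQ ⟨z', hz'Q⟩
  have hcm : Cm k (((z' : GL (Fin (s + 1) → Ix 0) F) : BMat) - 1) := by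
    have e : ((z' : GL (Fin (s + 1) → Ix 0) F) : BMat) = α • emb k (b : Matrix (Fin s → Ix 0) (Fin s → Ix 0) F) := by
      rw [hz']
      show ((g * one1 (sx k 0 1 : BMat) hN (-(α * β)) : GL (Fin (s + 1) → Ix 0) F) : BMat) = _
      rw [Units.val_mul, hab, Units.val_mul, sl_coe, embGL_coe, one1_coe, mul_assoc, mul_add, mul_one,
        Matrix.mul_smul, ← emb_comm_units, hmat, slot_add, TensorPower.slot_smul, TensorPower.slot_smul, slot_one,
        slot_single, add_mul, mul_add, mul_add]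
      simp only [Matrix.smul_mul, Matrix.mul_smul, one_mul, ← mul_assoc, hN, zero_mul, smul_zero, add_zero, smul_smul]
      match_scalars <;> first | ring1 | linear_combination β * hdet | linear_combination (-β) * hdet
    rw [e, sub_eq_add_neg]
    exact (Cm.smul (fun a b => emb_comm_units k _ a b) α).add (cm_one k).neg
  have hρ : π.rho z' = trA (x + φ (-(α * β)) * π.l) := by rw [hz', map_mul, ← hx, π.rho_left, trA_mul]
  have h0 := plane_trivial k π hcm ((Fact.out : p.Prime).odd_of_ne_two hp2).pow (congrArg Subtype.val hm) hρ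
  rw [← hx]
  congr 1
  rw [map_neg, neg_mul, ← sub_eq_add_neg, sub_eq_zero] at h0
  exact h0

/-- the blocks after a twist in the factor -/
theorem blk_cj_sl (i : Fin (s + 1)) (A : GL (Ix 0) F) (c a : Ix 0) (Y : BMat) :
    blk i c a (cj (sl i A) Y) = ∑ x, ∑ y, ((A : Matrix (Ix 0) (Ix 0) F) c x *
      ((A⁻¹ : GL (Ix 0) F) : Matrix (Ix 0) (Ix 0) F) y a) • blk i x y Y := by
  rw [cj, ← sl_inv, sl_coe, sl_coe, mul_assoc, ← sum_blk_mul]
  refine Finset.sum_congr rfl fun x _ => ?_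
  rw [blk_slot, ← sum_blk_mul, Matrix.smul_mul, one_mul, Finset.smul_sum]
  refine Finset.sum_congr rfl fun y _ => ?_
  rw [blk_slot, Matrix.mul_smul, mul_one, smul_smul]

/-- the Casimir element of a root and a conjugate is scalar -/
theorem SCtx.casimir_dich (h : SCtx M) (hin : InnerS 0 s F) (i : Fin (s + 1)) {g : GL (Fin (s + 1) → Ix 0) F}
    (hg : g ∈ M) :
    g ∈ tensorWreathStandard (2 * 0 + 2) (s + 1) F ∨
      ∃ c : F, sx i 0 1 * cj g (sx i 0 1) + cj g (sx i 0 1) * sx i 0 1 = c • (1 : BMat) := by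
  classical
  have hq : 3 < Fintype.card F := h.hq.resolve_left (by omega)
  obtain ⟨p, hp⟩ := CharP.exists F
  haveI : Fact p.Prime := ⟨CharP.char_is_prime F p⟩
  have hp2 : p ≠ 2 := fun e => h.h2' (by have := CharP.cast_eq_zero F p; rw [e] at this; exact_mod_cast this)
  have hN : (sx i 0 1 : BMat) * sx i 0 1 = 0 := by rw [sx_mul, if_neg (by simp)]
  obtain ⟨Y, hYdef⟩ : ∃ Y, Y = cj g (sx i 0 1 : BMat) := ⟨_, rfl⟩
  have hY : Y * Y = 0 := by rw [hYdef, ← cj_mul, hN, TensorPower.cj_zero]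
  rw [← hYdef]
  have hr : IsSRoot (sl i (rt 0 (1 : F)) : GL (Fin (s + 1) → Ix 0) F) :=
    ⟨i, Pi.single 0 1, e0_iso, -1, by simp, by simp, by rw [rt]⟩
  have hone : ∀ a, one1 Y hY a = g * sl i (rt 0 a) * g⁻¹ := fun a => Units.ext (by
    rw [← cj_coe, sl_rt_eq i hN, one1_coe, one1_coe, cj_add, cj_one, cj_smul, hYdef])
  have hle : EG (sx i 0 1 : BMat) Y hN hY ≤ M := by
    rw [EG, Subgroup.closure_le]
    rintro _ (⟨a, rfl⟩ | ⟨a, rfl⟩)
    · rw [← sl_rt_eq i hN]; exact h.base.sl_mem i (rt_mem a)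
    · rw [hone]; exact mul_mem (mul_mem hg (h.base.sl_mem i (rt_mem a))) (inv_mem hg)
  by_cases hn : IsNilpotent ((sx i 0 1 : BMat) * Y + Y * sx i 0 1)
  · left
    set Q := Subgroup.closure ({one1 (sx i 0 1 : BMat) hN 1, one1 Y hY 1} : Set (GL (Fin (s + 1) → Ix 0) F)) with hQd
    haveI : Nonempty (Fin (s + 1) → Ix 0) := ⟨fun _ => 0⟩
    have hQ : IsPGroup p Q := by
      rintro ⟨z, hz⟩
      obtain ⟨m, hm⟩ := casimir_unipotent (x := one1 (sx i 0 1 : BMat) hN 1) (y := one1 Y hY 1)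
        (by rw [one1_coe, one_smul]) (by rw [one1_coe, one_smul]) hN hY hn hz
      refine ⟨m, Subtype.ext (Units.ext ?_)⟩
      show ((z ^ p ^ m : GL (Fin (s + 1) → Ix 0) F) : BMat) = 1
      rw [Units.val_pow_eq_pow_val, ← sub_eq_zero]
      have e := sub_pow_char_pow_of_commute (R := BMat) p m (Commute.one_right (z : BMat))
      rw [one_pow] at e
      rw [← e]
      exact pow_eq_zero_of_le (Nat.lt_pow_self (Fact.out : p.Prime).one_lt).le hm
    have hQM : Q ≤ M := by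
      rw [hQd, Subgroup.closure_le]
      rintro _ (rfl | rfl) <;> [exact hle (mem_EG_left 1); exact hle (mem_EG_right 1)]
    have hQt := h.p_group_le hin hQ hQM hr (by rw [sl_rt_eq i hN]; exact Subgroup.subset_closure (Or.inl rfl))
    have hy := hQt (Subgroup.subset_closure (Or.inr rfl) : one1 Y hY 1 ∈ Q)
    rw [hone] at hy
    exact h.fusion hin hr hg (h.cls hr hg hy)
  right
  obtain ⟨l, k, hl, hpoly⟩ := eigen_unique (h.has_param hin p hp2 i hle) h.h2' hq hn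
  refine casimir_scalar p h.h2' hq hl hpoly hn (fun X hX => ker_sx01 i X hX) ?_ ?_ (hN := hN) (hY := hY)
  · intro z hz X hX he
    have hX' : sx i 0 1 * X = sx i 0 1 * blk i 0 0 X := by
      conv_lhs => rw [comm01_shape i hX.eq, mul_add, ← mul_assoc, hN, zero_mul, add_zero]
    rw [hX'] at he ⊢
    obtain ⟨c, hc⟩ := h.scal i _ (cm_blk i 0 0 X) ⟨z, hle hz, he⟩
    exact ⟨c, by rw [hc, Matrix.mul_smul, mul_one]⟩
  · intro z hz X hX he
    set X' := cj g⁻¹ X with hX'def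
    have hX'c : Commute X' (sx i 0 1 : BMat) := by
      have e : cj g⁻¹ (X * Y) = cj g⁻¹ (Y * X) := by rw [hX.eq]
      rwa [cj_mul, cj_mul, hYdef, cj_cj, inv_mul_cancel, cj_one_left] at e
    have he' : ((g⁻¹ * z * g⁻¹⁻¹ : GL (Fin (s + 1) → Ix 0) F) : BMat) = 1 + sx i 0 1 * blk i 0 0 X' := by
      rw [← cj_coe, he, cj_add, cj_one, cj_mul, hYdef, cj_cj, inv_mul_cancel, cj_one_left, ← hX'def]
      conv_lhs => rw [comm01_shape i hX'c.eq, mul_add, ← mul_assoc, hN, zero_mul, add_zero]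
    obtain ⟨c, hc⟩ := h.scal i _ (cm_blk i 0 0 X') ⟨_, mul_mem (mul_mem (inv_mem hg) (hle hz)) (inv_mem (inv_mem hg)), he'⟩
    have hNX : (sx i 0 1 : BMat) * X' = c • sx i 0 1 := by
      conv_lhs => rw [comm01_shape i hX'c.eq, mul_add, ← mul_assoc, hN, zero_mul, add_zero, hc, Matrix.mul_smul, mul_one]
    refine ⟨c, ?_⟩
    have := congrArg (cj g) hNX
    rwa [cj_mul, cj_smul, hX'def, cj_cj_inv, ← hYdef] at this

/-- two-dimensional factors -/
theorem SCtx.tiny (h : SCtx M) (hin : InnerS 0 s F) : M ≤ tensorWreathStandard (2 * 0 + 2) (s + 1) F := by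
  intro g hg
  classical
  set i : Fin (s + 1) := 0 with hi
  by_contra hgt
  obtain ⟨Y, hYdef⟩ : ∃ Y, Y = cj g (sx i 0 1 : BMat) := ⟨_, rfl⟩
  have hN : (sx i 0 1 : BMat) * sx i 0 1 = 0 := by rw [sx_mul, if_neg (by simp)]
  have key : ∀ A : GL (Ix 0) F, A ∈ u1 0 F → (∃ c : F, blk i 1 0 (cj (sl i A) Y) = c • 1) ∧
      ∃ c : F, blk i 0 0 (cj (sl i A) Y) + blk i 1 1 (cj (sl i A) Y) = c • 1 := by
    intro A hA
    rcases h.casimir_dich hin i (mul_mem (h.base.sl_mem i hA) hg) with e | ⟨c, e⟩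
    · exact absurd (by simpa using mul_mem (inv_mem (sl_mem_tw i A)) e) hgt
    rw [← cj_cj, ← hYdef] at e
    set Y' := cj (sl i A) Y with hY'
    refine ⟨⟨c, ?_⟩, ⟨0, ?_⟩⟩
    · have := congrArg (blk i 0 0) e
      rw [blk_add, blk_sx_left, blk_sx_right, blk_smul, blk_one] at this
      simpa using this
    · have := congrArg (blk i 0 1) e
      rw [blk_add, blk_sx_left, blk_sx_right, blk_smul, blk_one] at this
      simpa [add_comm] using this
  obtain ⟨⟨cD, hD⟩, cS, hS⟩ := key 1 (one_mem _)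
  rw [sl_one, cj_one_left] at hD hS
  have hw : wl 0 F ∈ u1 0 F := wl_mem
  have hdual : dual (e1 0 F) (s1 0) (Pi.single 1 1) = Pi.single (0 : Ix 0) (1 : F) := by
    rw [dual_single sg1, s1_one]; simp [e1_zero, e1_one]
  obtain ⟨T, hTu, hT, hTi⟩ : ∃ T : GL (Ix 0) F, T ∈ u1 0 F ∧
      (T : Matrix (Ix 0) (Ix 0) F) = 1 + Matrix.single 1 0 1 ∧
      ((T⁻¹ : GL (Ix 0) F) : Matrix (Ix 0) (Ix 0) F) = 1 - Matrix.single 1 0 1 := by
    have hu : dual (e1 0 F) (s1 0) (Pi.single 1 1) ⬝ᵥ Pi.single (1 : Ix 0) (1 : F) = 0 := iso1 _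
    have e : (utv _ hu 1 : Matrix (Ix 0) (Ix 0) F) = 1 + Matrix.single 1 0 1 := by
      rw [utv_coe, hdual, vmv_single2, one_smul, mul_one]
    exact ⟨utv _ hu 1, utv_mem _ hu 1, e, inv_one_add e (by rw [Matrix.single_mul_single_of_ne (h := by simp)])⟩
  obtain ⟨⟨cB, hB⟩, -⟩ := key _ hw
  obtain ⟨⟨cT, hTc⟩, -⟩ := key T hTu
  have hwi : ((wl 0 F)⁻¹ : GL (Ix 0) F).1 = !![0, 1; -1, 0] := by
    refine (left_inv_eq_right_inv (a := (wl 0 F).1) (gl_inv_mul _) ?_)
    ext x y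
    fin_cases x <;> fin_cases y <;> simp [wl, mono_coe, wd, Matrix.mul_apply, sum_ix0, Equiv.swap_apply_def]
  rw [blk_cj_sl, sum_ix0, sum_ix0, sum_ix0, hwi] at hB
  rw [blk_cj_sl, sum_ix0, sum_ix0, sum_ix0, hTi, hT] at hTc
  simp [wl, mono_coe, wd, Equiv.swap_apply_def] at hB
  simp [Matrix.single_apply, Matrix.one_apply, hD] at hTc
  set P := blk i 0 0 Y with hPd
  set E := blk i 1 1 Y with hEd
  set B := blk i 0 1 Y with hBd
  have hB' : B = (-cB) • (1 : BMat) := by rw [neg_smul, ← hB]; simp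
  have hE : E = ((2 : F)⁻¹ * (cS + cD + cB - cT)) • (1 : BMat) := by
    have e : (2 : F) • E = (cS + cD + cB - cT) • (1 : BMat) := by
      rw [sub_smul, add_smul, add_smul, ← hTc, ← hS, hB', two_smul]
      simp only [neg_smul]
      abel
    rw [← smul_smul, ← e, smul_smul, inv_mul_cancel₀ h.h2', one_smul]
  obtain ⟨Z, hZ⟩ := eq_slot_of_blk i (X := Y) fun x y => by
    fin_cases x <;> fin_cases y
    · exact ⟨cS - (2 : F)⁻¹ * (cS + cD + cB - cT), by
        show P = _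
        rw [sub_smul, ← hE, ← hS, add_sub_cancel_right]⟩
    · exact ⟨-cB, hB'⟩
    · exact ⟨cD, hD⟩
    · exact ⟨_, hE⟩
  have hr : IsSRoot (sl i (rt 0 (1 : F)) : GL (Fin (s + 1) → Ix 0) F) :=
    ⟨i, Pi.single 0 1, e0_iso, -1, by simp, by simp, by rw [rt]⟩
  have e : ((g * sl i (rt 0 1) * g⁻¹ : GL (Fin (s + 1) → Ix 0) F) : BMat) = slot i (1 + Z) := by
    rw [← cj_coe, sl_rt_eq i hN, one1_coe, one_smul, cj_add, cj_one, ← hYdef, slot_add, slot_one, hZ]
  obtain ⟨a, ha⟩ := exists_sl (Nat.succ_pos _) e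
  exact hgt (h.fusion hin hr hg (h.cls hr hg (by rw [ha]; exact sl_mem_tw _ _)))

end CfsgLib.Perm.Trans.TensorPowerSp
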