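import Cfsg.Agent.Lib.Perm.Trans.TensorPowerSp.TwoSingle

/-!
# Characteristic two: centralisers of involutive pure tensors
-/

set_option autoImplicit false
set_option linter.all false

namespace CfsgLib.Perm.Trans.TensorPowerSp

open scoped Matrix
open Matrix Cfsg.Geo CfsgLib.Perm.Asch CfsgLib.Perm.Trans CfsgLib.Perm.Trans.TensorPower

variable {F : Type*} [Field F] {n s t : ℕ}

/-- a symplectic transvection of one factor -/
def IsSTv (b : GL (Ix n) F) : Prop :=
  ∃ (u : Ix n → F) (hu : dual (e1 n F) (s1 n) u ⬝ᵥ u = 0) (c : F), u ≠ 0 ∧ c ≠ 0 ∧ b = utv u hu c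

theorem IsSTv.isTv {b : GL (Ix n) F} (hb : IsSTv b) : IsTv b := by
  obtain ⟨u, hu, c, hu0, hc0, rfl⟩ := hb
  exact utv_isTv hu hu0 hc0

theorem IsSTv.root {b : GL (Ix n) F} (hb : IsSTv b) (i : Fin t) : IsSRoot (sl i b) := by
  obtain ⟨u, hu, c, hu0, hc0, rfl⟩ := hb
  exact ⟨i, u, hu, c, hu0, hc0, rfl⟩

theorem IsSTv.u1_mem {b : GL (Ix n) F} (hb : IsSTv b) : b ∈ u1 n F := by
  obtain ⟨u, hu, c, -, -, rfl⟩ := hb
  exact utv_mem u hu c

theorem stv_of_sl (h2 : (2 : F) = 0) {b : GL (Ix n) F} (hb : IsTv b) {k : Fin t}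
    (hU : sl k b ∈ uT n t F) : IsSTv b := by
  obtain ⟨i, u, hu, c, hu0, hc0, he⟩ := sroot_of_root (hb.root k) hU
  rcases eq_or_ne k i with rfl | hki
  · exact ⟨u, hu, c, hu0, hc0, sl_inj (by omega) he⟩
  · exact absurd he (sl_ne hki (by omega) h2 (hb.sq h2) ((utv_isTv hu hu0 hc0).sq h2) hb.ne_one)

theorem rt_stv {c : F} (hc : c ≠ 0) : IsSTv (rt n c) :=
  ⟨Pi.single 0 1, e0_iso, -c, by simp, neg_ne_zero.2 hc, rfl⟩

theorem utv_comm {u v : Ix n → F} (hu : dual (e1 n F) (s1 n) u ⬝ᵥ u = 0) (hv : dual (e1 n F) (s1 n) v ⬝ᵥ v = 0)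
    (huv : dual (e1 n F) (s1 n) u ⬝ᵥ v = 0) (hvu : dual (e1 n F) (s1 n) v ⬝ᵥ u = 0) (a b : F) :
    utv u hu a * utv v hv b = utv v hv b * utv u hu a := Units.ext (by
  have ee1 : vecMulVec u (dual (e1 n F) (s1 n) u) * vecMulVec v (dual (e1 n F) (s1 n) v) = 0 := by
    rw [vecMulVec_mul_vecMulVec, huv, zero_smul]; ext; simp [vecMulVec_apply]
  have e2 : vecMulVec v (dual (e1 n F) (s1 n) v) * vecMulVec u (dual (e1 n F) (s1 n) u) = 0 := by
    rw [vecMulVec_mul_vecMulVec, hvu, zero_smul]; ext; simp [vecMulVec_apply]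
  rw [Units.val_mul, Units.val_mul, utv_coe, utv_coe]
  simp only [add_mul, mul_add, one_mul, mul_one, Matrix.smul_mul, Matrix.mul_smul, ee1, e2, smul_zero, add_zero]
  abel)

variable [Fintype F]

/-- a transvection commuting with an involution, other than it -/
theorem exists_commuting_utv (hn : 1 ≤ n) (h2 : (2 : F) = 0)
    {A : GL (Ix n) F} (hAU : A ∈ u1 n F) (hA : A * A = 1) :
    ∃ b : GL (Ix n) F, IsSTv b ∧ A * b = b * A ∧ A * b ≠ 1 := by
  classical
  have hneg := neg_eq_of_two h2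
  by_cases hA1 : A = 1
  · exact ⟨rt n 1, rt_stv one_ne_zero, by rw [hA1, one_mul, mul_one],
      by rw [hA1, one_mul]; exact (rt_stv one_ne_zero).isTv.ne_one⟩
  set N := (A : Matrix (Ix n) (Ix n) F) - 1 with hN
  have hAe : (A : Matrix (Ix n) (Ix n) F) = 1 + N := by rw [hN]; abel
  have hNN : N * N = 0 := by
    rw [hN, sub_mul, mul_sub, one_mul, mul_one, ← Units.val_mul, hA, Units.val_one,
      show (1 : Matrix (Ix n) (Ix n) F) - A - (A - 1) =
        (2 : F) • (1 - (A : Matrix (Ix n) (Ix n) F)) by rw [two_smul]; abel, h2, zero_smul]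
  have hNa : adj (e1 n F) (s1 n) N = N := by
    rw [adj_of_one_add hAU hAe hNN]
    ext x y
    exact hneg _
  obtain ⟨f, hf⟩ : ∃ f, N *ᵥ f ≠ 0 := by
    by_contra hcon
    push Not at hcon
    refine hA1 (Units.ext (sub_eq_zero.1 (Matrix.ext_iff_mulVec.2 fun v => ?_)))
    rw [zero_mulVec]; exact hcon v
  set c := N *ᵥ f with hcdef
  have hdcN : dual (e1 n F) (s1 n) c ᵥ* N = 0 := by
    rw [hcdef, dual_mulVec sg1, hNa, vecMul_vecMul, hNN, vecMul_zero]
  set τ := utv c (iso1 c) 1 with hτdef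
  have hcom : A * τ = τ * A := Units.ext (by
    have ee1 : N * vecMulVec c (dual (e1 n F) (s1 n) c) = 0 := by
      rw [mul_vecMulVec, hcdef, mulVec_mulVec, hNN, zero_mulVec]; ext; simp [vecMulVec_apply]
    have e2 : vecMulVec c (dual (e1 n F) (s1 n) c) * N = 0 := by rw [vecMulVec_mul, hdcN, vmv_zero_right]
    rw [Units.val_mul, Units.val_mul, hτdef, utv_coe, hAe]
    simp only [add_mul, mul_add, one_mul, mul_one, Matrix.smul_mul, Matrix.mul_smul, ee1, e2, smul_zero, add_zero]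
    abel)
  have hτ : IsSTv τ := ⟨c, iso1 c, 1, hf, one_ne_zero, rfl⟩
  by_cases hne : A * τ ≠ 1
  · exact ⟨_, hτ, hcom, hne⟩
  push Not at hne
  have hAeq : A = τ := by
    calc A = A * (τ * τ) := by rw [hτ.isTv.sq h2, mul_one]
      _ = τ := by rw [← mul_assoc, hne, one_mul]
  -- move the centre to the first vector
  obtain ⟨B, hB, hBc⟩ := exists_move hf
  set x : Ix n := ⟨2, by omega⟩ with hxdef
  have hx0 : x ≠ 0 := fun e => by simpa [hxdef] using congrArg Fin.val e
  have hx1 : x ≠ 1 := fun e => by simpa [hxdef] using congrArg Fin.val e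
  have hBτ : B * τ * B⁻¹ = rt n (-1) := by
    rw [hτdef, utv_conj hB c _ (hu' := by rw [hBc]; exact e0_iso) 1]
    exact Units.ext (by rw [utv_coe, rt_coe, hBc, vmv_e0, smul_neg, neg_smul])
  set b := utv (Pi.single x (1 : F)) (iso1 _) 1 with hbdef
  have hb' : IsSTv (B⁻¹ * b * B) := by
    refine ⟨((B⁻¹ : GL (Ix n) F) : Matrix (Ix n) (Ix n) F) *ᵥ Pi.single x 1, iso1 _, 1, fun e => ?_, one_ne_zero, ?_⟩
    · have := congrArg ((B : Matrix (Ix n) (Ix n) F) *ᵥ ·) e
      simp only [mulVec_mulVec, gl_mul_inv, one_mulVec, mulVec_zero] at this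
      simpa using congrFun this x
    · have e := utv_conj (inv_mem hB) (Pi.single x (1 : F)) (iso1 _) (iso1 _) 1
      rwa [inv_inv] at e
  have hcb : rt n (-1) * b = b * rt n (-1) := utv_comm e0_iso (iso1 _) (by
      rw [dual_e0, neg_dotProduct, single_dotProduct, Pi.single_eq_of_ne hx1.symm, mul_zero, neg_zero]) (by
      rw [dual_single sg1, single_dotProduct, Pi.single_eq_of_ne (s1_mid hx0 hx1).1, mul_zero]) _ _
  refine ⟨_, hb', ?_, fun e => ?_⟩
  · rw [hAeq, show τ = B⁻¹ * rt n (-1) * B by rw [← hBτ]; group,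
      show B⁻¹ * rt n (-1) * B * (B⁻¹ * b * B) = B⁻¹ * (rt n (-1) * b) * B by group, hcb]
    group
  · have h1 : rt n (-1) * b = 1 := by
      calc rt n (-1) * b = B * (A * (B⁻¹ * b * B)) * B⁻¹ := by rw [hAeq, ← hBτ]; group
        _ = 1 := by rw [e]; group
    have h3 := congrArg (fun g : GL (Ix n) F => ((g : Matrix (Ix n) (Ix n) F)) *ᵥ Pi.single (s1 n x) 1) h1
    simp only [Units.val_mul, Units.val_one, one_mulVec, ← mulVec_mulVec, hbdef, utv_coe, one_smul, add_mulVec,
      vecMulVec_mulVec, op_smul_eq_smul, dual_single sg1, single_dotProduct, Pi.single_eq_same, mul_one, mulVec_add,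
      mulVec_smul, rt_coe, Matrix.smul_mulVec, single_mulVec] at h3
    have h4 := congrFun h3 x
    simp [Function.update_of_ne hx0, Pi.single_eq_of_ne (s1_ne x).symm, e1_ne] at h4

variable {M : Subgroup (GL (Fin (s + 1) → Ix n) F)}

/-- the general argument, given the pairs of roots it needs -/
theorem SCtx.gen_aux (h : SCtx M) (hin : InnerS n s F) (h2 : (2 : F) = 0) (hn : 2 ≤ n)
    {A : Fin (s + 1) → GL (Ix n) F} (hA : ∀ l, A l * A l = 1)
    (hzM : pureGL A ∈ M) {i j : Fin (s + 1)} (hij : i ≠ j) {b'' b : GL (Ix n) F} (hb'' : IsSTv b'')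
    (hb : IsSTv b) (hci : A i * b'' = b'' * A i) (hcj : A j * b = b * A j) (hne : A i * b'' ≠ 1)
    (hrk : (((A i * b'' : GL (Ix n) F) : Matrix (Ix n) (Ix n) F) - 1).rank ≠
      (((A j * b : GL (Ix n) F) : Matrix (Ix n) (Ix n) F) - 1).rank)
    (htwo : ∀ (π : Equiv.Perm (Fin (s + 1))) (H : Fin (s + 1) → GL (Ix n) F),
      (∀ l, A (π l) = H l * A l * (H l)⁻¹) → π j ≠ i → IsSTv (H j * b * (H j)⁻¹) →
      ∀ e ∈ M, e * pureGL A = pureGL A * e →
        e * (sl i b'' * sl (π j) (H j * b * (H j)⁻¹)) = sl i b'' * sl (π j) (H j * b * (H j)⁻¹) * e →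
          e ∈ tensorWreathStandard (2 * n + 2) (s + 1) F)
    {k : GL (Fin (s + 1) → Ix n) F} (hk : k ∈ M) (hkz : k * pureGL A = pureGL A * k) :
    k ∈ tensorWreathStandard (2 * n + 2) (s + 1) F := by
  classical
  have hm : 0 < 2 * n + 2 := by omega
  have hcomm : ∀ (l : Fin (s + 1)) (a : GL (Ix n) F), A l * a = a * A l →
      pureGL A * sl l a = sl l a * pureGL A := by
    intro l a ha
    rw [sl_eq_pureGL, pureGL_mul, pureGL_mul]
    congr 1
    funext p
    rcases eq_or_ne p l with rfl | hp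
    · simpa using ha
    · simp [Pi.mulSingle_eq_of_ne hp]
  have hnr : ¬ IsSRoot (pureGL A * sl i b'') := by
    intro hroot
    obtain ⟨l, C, hC, hl⟩ := hroot.isRoot.exists_tv
    rw [pureGL_mul_sl] at hl
    have hi' : ∀ p, Function.update A i (A i * b'') p * Function.update A i (A i * b'') p = 1 := fun p => by
      rcases eq_or_ne p i with rfl | hp
      · rw [Function.update_self]
        calc A p * b'' * (A p * b'') = A p * (b'' * A p) * b'' := by group
          _ = A p * (A p * b'') * b'' := by rw [hci]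
          _ = (A p * A p) * (b'' * b'') := by group
          _ = 1 := by rw [hA, hb''.isTv.sq h2, one_mul]
      · rw [Function.update_of_ne hp]; exact hA p
    have hC' : ∀ p, (Pi.mulSingle l C : Fin (s + 1) → GL (Ix n) F) p *
        (Pi.mulSingle l C : Fin (s + 1) → GL (Ix n) F) p = 1 := fun p => by
      rcases eq_or_ne p l with rfl | hp
      · simpa using hC.sq h2
      · simp [Pi.mulSingle_eq_of_ne hp]
    have he := pureGL_inj hm h2 hi' hC' hl
    have hli : i = l := by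
      by_contra hil
      have h1 := he i
      rw [Function.update_self, Pi.mulSingle_eq_of_ne hil] at h1
      exact hne h1
    subst hli
    have h1 := he i
    have h3 := he j
    rw [Function.update_self, Pi.mulSingle_eq_same] at h1
    rw [Function.update_of_ne hij.symm, Pi.mulSingle_eq_of_ne hij.symm] at h3
    apply hrk
    rw [h1, h3, one_mul, hC.rank, hb.isTv.rank]
  rcases h.key hin h2 (pure_sq_one hA) hzM (pure_mem_tw A) (hb.root j) (hb''.root i) (hcomm j b hcj) (hcomm i b'' hci)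
    hnr hk hkz with hk' | ⟨hh, hhM, hhtw, hhz, hstep⟩
  · exact hk'
  set y := k * sl j b * k⁻¹ with hy
  have hyM : y ∈ M := M.mul_mem (M.mul_mem hk ((hb.root j).mem h.base)) (M.inv_mem hk)
  suffices hyW : y ∈ tensorWreathStandard (2 * n + 2) (s + 1) F from
    h.fusion hin (hb.root j) hk (h.cls (hb.root j) hk hyW)
  have hyz : y * pureGL A = pureGL A * y := by
    have h1 : Commute k (pureGL A) := hkz
    exact ((h1.mul_left (hcomm j b hcj).symm).mul_left h1.inv_left).eq
  obtain ⟨π, H, rfl⟩ := tw_shape hhtw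
  have hπ := TensorPower.comm_pure hm h2 hA hhz
  have hmem := h.le (M.mul_mem (M.mul_mem hhM ((hb.root j).mem h.base)) (M.inv_mem hhM))
  rw [conj_sl] at hmem hstep
  set b' := H j * b * (H j)⁻¹ with hb'
  have hb't : IsTv b' := hb.isTv.conj _
  have hb'u : IsSTv b' := stv_of_sl h2 hb't hmem
  have hrne : sl (π j) b' ≠ sl i b'' := by
    intro e
    by_cases hji : π j = i
    · rw [hji] at e
      have e' := sl_inj hm e
      apply hrk
      have h1 : A i * b'' = H j * (A j * b) * (H j)⁻¹ := by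
        rw [← hji, hπ j, ← e', hb']; group
      rw [h1, ← cj_coe, ← cj_one (H j), ← cj_sub, rank_cj, cj_one]
    · exact sl_ne hji hm h2 (hb't.sq h2) (hb''.isTv.sq h2) hb't.ne_one e
  obtain ⟨m, hsq, hm1, hcy⟩ := hstep hrne
  by_cases hji : π j = i
  · rw [hji, sl_mul, ← sl_pow] at hsq hm1 hcy
    rw [sl_mul, ← sl_one i] at hsq
    exact h.single_two hin h2 hn hyM (pow_mem (mul_mem (hb''.u1_mem) (hb'u.u1_mem)) m) (sl_inj hm hsq)
      (fun e' => hm1 (by rw [e', sl_one])) hcy.eq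
  · have hx2 : (sl i b'' * sl (π j) b') * (sl i b'' * sl (π j) b') = 1 := by
      calc sl i b'' * sl (π j) b' * (sl i b'' * sl (π j) b')
          = sl i b'' * (sl (π j) b' * sl i b'') * sl (π j) b' := by group
        _ = sl i b'' * (sl i b'' * sl (π j) b') * sl (π j) b' := by rw [sl_comm hji]
        _ = (sl i b'' * sl i b'') * (sl (π j) b' * sl (π j) b') := by group
        _ = 1 := by rw [sl_mul, sl_mul, hb''.isTv.sq h2, hb't.sq h2, sl_one, sl_one, one_mul]
    rcases Nat.even_or_odd m with ⟨q, rfl⟩ | ⟨q, rfl⟩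
    · exact absurd (by rw [← two_mul, pow_mul, pow_two, hx2, one_pow]) hm1
    · rw [pow_succ, pow_mul, pow_two, hx2, one_pow, one_mul] at hcy
      exact htwo π H hπ hji hb'u y hyM hyz hcy.eq

/-- the centraliser of a product of roots in two factors -/
theorem SCtx.pair_two (h : SCtx M) (hin : InnerS n s F) (h2 : (2 : F) = 0) (hn : 2 ≤ n) {i j : Fin (s + 1)} (hij : i ≠ j)
    {a b : GL (Ix n) F} (ha : IsSTv a) (hb : IsSTv b) {k : GL (Fin (s + 1) → Ix n) F} (hk : k ∈ M)
    (hkz : k * (sl i a * sl j b) = sl i a * sl j b * k) : k ∈ tensorWreathStandard (2 * n + 2) (s + 1) F := by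
  classical
  set A : Fin (s + 1) → GL (Ix n) F := Pi.mulSingle i a * Pi.mulSingle j b with hAdef
  have hz : sl i a * sl j b = pureGL A := by rw [sl_eq_pureGL, sl_eq_pureGL, pureGL_mul]
  have hAi : A i = a := by simp [hAdef, Pi.mulSingle_eq_of_ne hij]
  have hAj : A j = b := by simp [hAdef, Pi.mulSingle_eq_of_ne hij.symm]
  have hAo : ∀ l, l ≠ i → l ≠ j → A l = 1 := fun l hi hj => by
    simp [hAdef, Pi.mulSingle_eq_of_ne hi, Pi.mulSingle_eq_of_ne hj]
  have hA : ∀ l, A l * A l = 1 := fun l => by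
    by_cases hi : l = i
    · rw [hi, hAi, ha.isTv.sq h2]
    · by_cases hj : l = j
      · rw [hj, hAj, hb.isTv.sq h2]
      · rw [hAo l hi hj, one_mul]
  obtain ⟨b'', hb'', hcom, hne⟩ := exists_commuting_utv (show 1 ≤ n by omega) h2 (ha.u1_mem) (ha.isTv.sq h2)
  rw [hz] at hkz
  refine h.gen_aux hin h2 hn hA (hz ▸ M.mul_mem ((ha.root i).mem h.base) ((hb.root j).mem h.base)) hij hb'' hb
    (by rw [hAi]; exact hcom) (by rw [hAj]) (by rw [hAi]; exact hne) ?_ ?_ hk hkz
  · rw [hAi, hAj, hb.isTv.sq h2, Units.val_one, sub_self, Matrix.rank_zero]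
    exact sub_one_ne hne
  · intro π H hπ hji _ e heM hez hec
    have hj : π j = j := by
      by_contra hjj
      have h1 := hπ j
      rw [hAo _ hji hjj, hAj] at h1
      exact (hb.isTv.conj (H j)).ne_one h1.symm
    have hb' : H j * b * (H j)⁻¹ = b := by
      have h1 := hπ j
      rwa [hj, hAj, eq_comm] at h1
    rw [hj, hb'] at hec
    have hzc : pureGL A * (sl i b'' * sl j b) = sl i (a * b'') := by
      rw [← hz, ← sl_mul]
      calc sl i a * sl j b * (sl i b'' * sl j b)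
          = sl i a * (sl j b * sl i b'') * sl j b := by group
        _ = sl i a * (sl i b'' * sl j b) * sl j b := by rw [sl_comm hij.symm]
        _ = sl i a * sl i b'' * (sl j b * sl j b) := by group
        _ = sl i a * sl i b'' := by rw [sl_mul j, hb.isTv.sq h2, sl_one, mul_one]
    refine h.single_two hin h2 hn heM (i := i) (C := a * b'') (mul_mem (ha.u1_mem) (hb''.u1_mem)) ?_ hne ?_
    · calc a * b'' * (a * b'') = a * (b'' * a) * b'' := by group
        _ = a * (a * b'') * b'' := by rw [hcom]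
        _ = (a * a) * (b'' * b'') := by group
        _ = 1 := by rw [ha.isTv.sq h2, hb''.isTv.sq h2, one_mul]
    · rw [← hzc]
      exact ((show Commute e (pureGL A) from hez).mul_right hec).eq

/-- the centraliser of an involutive pure tensor with two suitable factors -/
theorem SCtx.gen_two (h : SCtx M) (hin : InnerS n s F) (h2 : (2 : F) = 0) (hn : 2 ≤ n)
    {A : Fin (s + 1) → GL (Ix n) F} (hA : ∀ l, A l * A l = 1) (hzM : pureGL A ∈ M) {i j : Fin (s + 1)}
    (hij : i ≠ j) {b'' b : GL (Ix n) F} (hb'' : IsSTv b'') (hb : IsSTv b) (hci : A i * b'' = b'' * A i)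
    (hcj : A j * b = b * A j) (hne : A i * b'' ≠ 1)
    (hrk : (((A i * b'' : GL (Ix n) F) : Matrix (Ix n) (Ix n) F) - 1).rank ≠
      (((A j * b : GL (Ix n) F) : Matrix (Ix n) (Ix n) F) - 1).rank)
    {k : GL (Fin (s + 1) → Ix n) F} (hk : k ∈ M) (hkz : k * pureGL A = pureGL A * k) :
    k ∈ tensorWreathStandard (2 * n + 2) (s + 1) F :=
  h.gen_aux hin h2 hn hA hzM hij hb'' hb hci hcj hne hrk
    (fun π H hπ hji hb' e heM _ hec => h.pair_two hin h2 hn (Ne.symm hji) hb'' hb' heM hec) hk hkz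

end CfsgLib.Perm.Trans.TensorPowerSp
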