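import Cfsg.Agent.Lib.Perm.Trans.TensorPowerSp.Class
import Cfsg.Agent.Lib.Perm.Trans.TensorPower.TwoInv

/-!
# Characteristic two: the centraliser of an involution of one factor
-/

set_option autoImplicit false
set_option linter.all false

namespace CfsgLib.Perm.Trans.TensorPowerSp

open scoped Matrix
open Matrix Cfsg.Geo CfsgLib.Perm.Asch CfsgLib.Perm.Trans CfsgLib.Perm.Trans.TensorPower

variable {F : Type*} [Field F] {n s t : ℕ}

theorem neg_eq_of_two (h2 : (2 : F) = 0) (a : F) : -a = a := by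
  rw [neg_eq_iff_add_eq_zero, ← two_mul, h2, zero_mul]

theorem utv_isTv {u : Ix n → F} (hu : dual (e1 n F) (s1 n) u ⬝ᵥ u = 0) {c : F} (hu0 : u ≠ 0) (hc : c ≠ 0) :
    IsTv (utv u hu c) :=
  ⟨c • u, dual (e1 n F) (s1 n) u, _, smul_ne_zero hc hu0, fun e => hu0 (dual_eq_zero sg1 e), rfl⟩

theorem IsSRoot.sq (h2 : (2 : F) = 0) {r : GL (Fin t → Ix n) F} (hr : IsSRoot r) : r * r = 1 :=
  IsRoot.sq h2 hr.isRoot

theorem za_mul_ne {a b : Ix n} (ha0 : a ≠ 0) (ha1 : a ≠ 1) (hb0 : b ≠ 0) (hb1 : b ≠ 1) (h : b ≠ s1 n a) :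
    za a * za b = (0 : Matrix (Ix n) (Ix n) F) := by
  rw [za, za, mul_sub, sub_mul, sub_mul, Matrix.single_mul_single_of_ne (h := hb1.symm),
    Matrix.single_mul_single_of_ne (h := show (1 : Ix n) ≠ 0 by simp), Matrix.single_mul_single_of_ne (h := h.symm),
    Matrix.single_mul_single_of_ne (h := (s1_mid ha0 ha1).1)]
  simp

theorem za_mul_root {a : Ix n} (ha0 : a ≠ 0) (ha1 : a ≠ 1) :
    za a * Matrix.single 0 1 (1 : F) = 0 ∧ Matrix.single 0 1 (1 : F) * za a = (0 : Matrix (Ix n) (Ix n) F) := by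
  constructor
  · rw [za, sub_mul, Matrix.single_mul_single_of_ne (h := show (1 : Ix n) ≠ 0 by simp),
      Matrix.single_mul_single_of_ne (h := (s1_mid ha0 ha1).1)]
    simp
  · rw [za, mul_sub, Matrix.single_mul_single_of_ne (h := ha1.symm),
      Matrix.single_mul_single_of_ne (h := show (1 : Ix n) ≠ 0 by simp)]
    simp

/-- the commutator of a long and a short root -/
theorem comm_long (h2 : (2 : F) = 0) {x : Ix n} (hx0 : x ≠ 0) (hx1 : x ≠ 1) {u : Ix n → F} (hu1 : u 1 = 0)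
    (hux : u (s1 n x) = 1) :
    ((utv u (iso1 u) 1 * eta x hx0 hx1 1 * (utv u (iso1 u) 1)⁻¹ * (eta x hx0 hx1 1)⁻¹ : GL (Ix n) F) :
      Matrix (Ix n) (Ix n) F) = 1 + wed (Pi.single 0 1) u + wed (Pi.single 0 1) u * za x := by
  have hneg := neg_eq_of_two h2
  have hN : (etaN x 1 : Matrix (Ix n) (Ix n) F) = za x := by
    rw [etaN, za, mul_one, e1_two h2, sub_eq_add_neg]
    congr 1
    ext p q
    rw [Matrix.neg_apply, hneg]
  have hv : ∀ y : Ix n, (utv u (iso1 u) 1 : Matrix (Ix n) (Ix n) F) *ᵥ Pi.single y 1 =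
      Pi.single y 1 + u (s1 n y) • u := fun y => by
    rw [utv_coe, one_smul, add_mulVec, one_mulVec, vecMulVec_mulVec, op_smul_eq_smul, dotProduct_single, mul_one, dual,
      e1_two h2, one_mul]
  rw [Units.val_mul, inv_one_add (eta_coe hx0 hx1 1) (etaN_sq hx0 hx1 1), ← cj_coe, eta_coe, cj_add, cj_one, hN,
    ← wed_e0, cj_wed (utv_mem u _ 1), hv, hv, hux, s1_zero, hu1, zero_smul, add_zero, one_smul, wed_add_right, wed_e0,
    show (1 : Matrix (Ix n) (Ix n) F) - za x = 1 + za x by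
      ext p q
      rw [Matrix.sub_apply, Matrix.add_apply, sub_eq_add_neg, hneg]]
  rw [show ((1 : Matrix (Ix n) (Ix n) F) + (za x + wed (Pi.single 0 1) u)) * (1 + za x) =
    1 + wed (Pi.single 0 1) u + wed (Pi.single 0 1) u * za x + (za x + za x + za x * za x) by noncomm_ring,
    za_sq hx0 hx1, ← two_smul F, h2, zero_smul, add_zero, add_zero]

/-- a root is a product of three commutators -/
theorem root_three_comm (h2 : (2 : F) = 0) (hn : 2 ≤ n) :
    ∃ b c : Fin 3 → GL (Ix n) F, (∀ i, b i ∈ u1 n F) ∧ (∀ i, c i ∈ u1 n F) ∧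
      (b 0 * c 0 * (b 0)⁻¹ * (c 0)⁻¹) * (b 1 * c 1 * (b 1)⁻¹ * (c 1)⁻¹) * (b 2 * c 2 * (b 2)⁻¹ * (c 2)⁻¹) =
        rt n 1 := by
  set a : Ix n := ⟨2, by omega⟩ with hadef
  set b : Ix n := ⟨4, by omega⟩ with hbdef
  have ha0 : a ≠ 0 := fun e => by simpa [hadef] using congrArg Fin.val e
  have ha1 : a ≠ 1 := fun e => by simpa [hadef] using congrArg Fin.val e
  have hb0 : b ≠ 0 := fun e => by simpa [hbdef] using congrArg Fin.val e
  have hb1 : b ≠ 1 := fun e => by simpa [hbdef] using congrArg Fin.val e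
  obtain ⟨ha0', ha1'⟩ := s1_mid ha0 ha1
  obtain ⟨hb0', hb1'⟩ := s1_mid hb0 hb1
  have hba : b ≠ a := fun e => by simpa [hadef, hbdef] using congrArg Fin.val e
  have hba' : b ≠ s1 n a := fun e => by
    have := congrArg Fin.val e
    rw [s1_val] at this
    simp [hadef, hbdef] at this
  have hab' : a ≠ s1 n b := fun e => hba' (by rw [e, s1_inv])
  have htv : ∀ u : Ix n → F, ∃ g : GL (Ix n) F, g = utv u (iso1 u) 1 := fun u => ⟨_, rfl⟩
  obtain ⟨Ta, hTa⟩ := htv (Pi.single a 1)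
  obtain ⟨Tb, hTb⟩ := htv (Pi.single b 1)
  obtain ⟨Tab, hTab⟩ := htv (Pi.single a 1 + Pi.single b 1)
  refine ⟨![Ta, Tb, Tab],
    ![eta (s1 n a) ha0' ha1' (1 : F), eta (s1 n b) hb0' hb1' 1, eta (s1 n a) ha0' ha1' 1], fun i => ?_, fun i => ?_, ?_⟩
  · fin_cases i <;> simp [hTa, hTb, hTab, utv_mem]
  · fin_cases i <;> simp [eta_mem]
  refine Units.ext ?_
  simp only [Fin.isValue, Matrix.cons_val_zero, Matrix.cons_val_one, Matrix.cons_val_two, Matrix.tail_cons,
    Matrix.head_cons, Matrix.cons_val]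
  rw [hTa, hTb, hTab, Units.val_mul (_ * _ * _ * _ * (_ * _ * _ * _)), Units.val_mul (_ * _ * _ * _) (_ * _ * _ * _),
    comm_long h2 ha0' ha1' (by simp [ha1.symm]) (by simp [s1_inv a]),
    comm_long h2 hb0' hb1' (by simp [hb1.symm]) (by simp [s1_inv b]),
    comm_long h2 ha0' ha1' (by simp [ha1.symm, hb1.symm]) (by simp [s1_inv a, hba.symm]), wed_add_right, wed_e0, wed_e0,
    add_mul (za a), za_mul ha0 ha1, za_mul hb0 hb1, za_mul_ne hb0 hb1 ha0' ha1' (fun e => hba (s1_inv.injective e).symm),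
    e1_two h2, e1_two h2, neg_eq_of_two h2, one_smul, add_zero, rt_coe, one_smul]
  set p := za (F := F) a
  set q := za (F := F) b
  set E := Matrix.single (0 : Ix n) (1 : Ix n) (1 : F)
  have hd : ∀ X : Matrix (Ix n) (Ix n) F, X + X = 0 := fun X => by rw [← two_smul F, h2, zero_smul]
  have k1 : p * p = 0 := za_sq ha0 ha1
  have k2 : q * q = 0 := za_sq hb0 hb1
  have k3 : p * q = 0 := za_mul_ne ha0 ha1 hb0 hb1 hba'
  have k4 : q * p = 0 := za_mul_ne hb0 hb1 ha0 ha1 hab'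
  obtain ⟨k5, k6⟩ : p * E = 0 ∧ E * p = 0 := za_mul_root ha0 ha1
  obtain ⟨k7, k8⟩ : q * E = 0 ∧ E * q = 0 := za_mul_root hb0 hb1
  have k9 : E * E = 0 := Matrix.single_mul_single_of_ne (h := show (1 : Ix n) ≠ 0 by simp) ..
  simp only [add_mul, mul_add, one_mul, mul_one, k1, k2, k3, k4, k5, k6, k7, k8, k9, add_zero, zero_add, mul_zero,
    zero_mul]
  rw [show ∀ o : Matrix (Ix n) (Ix n) F, o + p + E + q + E + (p + q) + E = o + E + ((p + p) + (q + q) + (E + E)) from
    fun o => by abel]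
  simp only [hd, add_zero]

theorem sv_sform1 (u : Ix n → F) : Symp.sv (sform1_symp (F := F) (n := n)) u = dual (e1 n F) (s1 n) u := by
  funext a
  have := Symp.sv_dot (sform1_symp (F := F) (n := n)) u (Pi.single a 1)
  rwa [dotProduct_single, mul_one, sform, single_dotProduct, one_mul] at this

theorem stv_eq_utv (u : Ix n → F) (c : F) : Symp.stv (sform1_symp (F := F) (n := n)) u c = utv u (iso1 u) c :=
  Units.ext (by rw [Symp.stv, tv_coe, utv_coe, sv_sform1, vecMulVec_smul])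

/-- a subgroup of the isometries of one factor with every transvection is all of them -/
theorem u1_le_of_utv {P : Subgroup (GL (Ix n) F)} [Fintype F] (hP : ∀ u c, utv u (iso1 u) c ∈ P) : u1 n F ≤ P := by
  have e := Symp.eq_isoSub (sform1_symp (F := F) (n := n)) (M := P ⊓ Symp.isoSub (sform (e1 n F) (s1 n))) inf_le_right
    fun u c => ⟨by rw [stv_eq_utv]; exact hP u c, Symp.stv_iso _ u c⟩
  rw [u1, ← isoSub_sform, ← e]
  exact inf_le_left

variable [Fintype F] {M : Subgroup (GL (Fin (s + 1) → Ix n) F)}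

/-- a two-subgroup of `M` containing a root lies in the wreath subgroup -/
theorem SCtx.two_group_le (h : SCtx M) (hin : InnerS n s F) {Q : Subgroup (GL (Fin (s + 1) → Ix n) F)}
    (hQ : IsPGroup 2 Q) (hQM : Q ≤ M) {r : GL (Fin (s + 1) → Ix n) F} (hr : IsSRoot r) (hrQ : r ∈ Q) :
    Q ≤ tensorWreathStandard (2 * n + 2) (s + 1) F :=
  haveI : Fact (Nat.Prime 2) := ⟨Nat.prime_two⟩
  h.p_group_le hin hQ hQM hr hrQ

/-- the dihedral argument -/
theorem SCtx.key (h : SCtx M) (hin : InnerS n s F) (h2 : (2 : F) = 0)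
    {z x x'' : GL (Fin (s + 1) → Ix n) F} (hz : z * z = 1) (hzM : z ∈ M)
    (hztw : z ∈ tensorWreathStandard (2 * n + 2) (s + 1) F) (hx : IsSRoot x) (hx'' : IsSRoot x'') (hzx : z * x = x * z)
    (hzx'' : z * x'' = x'' * z) (hnr : ¬ IsSRoot (z * x''))
    {k : GL (Fin (s + 1) → Ix n) F} (hk : k ∈ M) (hkz : k * z = z * k) :
    k ∈ tensorWreathStandard (2 * n + 2) (s + 1) F ∨
      ∃ hh ∈ M, hh ∈ tensorWreathStandard (2 * n + 2) (s + 1) F ∧ hh * z = z * hh ∧
        (hh * x * hh⁻¹ ≠ x'' → ∃ m : ℕ, (x'' * (hh * x * hh⁻¹)) ^ m * (x'' * (hh * x * hh⁻¹)) ^ m = 1 ∧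
          (x'' * (hh * x * hh⁻¹)) ^ m ≠ 1 ∧ Commute (k * x * k⁻¹) ((x'' * (hh * x * hh⁻¹)) ^ m)) := by
  by_cases hktw : k ∈ tensorWreathStandard (2 * n + 2) (s + 1) F
  · exact Or.inl hktw
  right
  set y := k * x * k⁻¹ with hydef
  have hxx := hx.sq h2
  have hx''x'' := hx''.sq h2
  have hyy : y * y = 1 := by
    rw [hydef, show k * x * k⁻¹ * (k * x * k⁻¹) = k * (x * x) * k⁻¹ by group, hxx]; group
  have hyM : y ∈ M := M.mul_mem (M.mul_mem hk (hx.mem h.base)) (M.inv_mem hk)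
  have hzy : z * y = y * z := by
    have h1 : Commute z k := (show Commute k z from hkz).symm
    exact ((h1.mul_right hzx).mul_right h1.inv_right).eq
  set v := z * x'' with hv
  have hvv : v * v = 1 := by
    rw [hv, show z * x'' * (z * x'') = z * (x'' * z) * x'' by group, ← hzx'',
      show z * (z * x'') * x'' = z * z * (x'' * x'') by group, hz, hx''x'', one_mul]
  have hvM : v ∈ M := M.mul_mem hzM (hx''.mem h.base)
  have hvtw : v ∈ tensorWreathStandard (2 * n + 2) (s + 1) F := mul_mem hztw hx''.mem_tw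
  have hnc : ∀ g ∈ M, g * y * g⁻¹ ≠ v := fun g hg e => hnr (by
    have e' : g * k * x * (g * k)⁻¹ = v := by rw [← e, hydef]; group
    rw [← e'] at hvtw ⊢
    exact h.cls hx (M.mul_mem hg hk) hvtw)
  obtain ⟨e, g0, c, he, hg0, hcM, hord, hconj, hwc, hinv, hcomm⟩ := dihedral_data M hvv hyy hvM hyM hnc
  have hzv : z * v = v * z := by rw [hv, mul_assoc z x'', ← hzx'', ← mul_assoc]
  obtain ⟨hzc, hzg0⟩ := hwc z hzv hzy
  set P := (Subgroup.zpowers g0 ⊔ Subgroup.zpowers v : Subgroup (GL (Fin (s + 1) → Ix n) F)) with hPdef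
  have hP : IsPGroup 2 P := dihedral_pgroup hvv hord hinv
  have hPc : P ≤ Subgroup.centralizer {z} := by
    refine sup_le (Subgroup.zpowers_le.2 ?_) (Subgroup.zpowers_le.2 ?_) <;>
      rw [Subgroup.mem_centralizer_singleton_iff]
    · exact hzg0.symm
    · exact hzv.symm
  have hQ : IsPGroup 2 (P ⊔ Subgroup.zpowers z : Subgroup (GL (Fin (s + 1) → Ix n) F)) := by
    refine IsPGroup.to_sup_of_normal_left' hP (isPGroup_zpowers (k := 1) (by rw [pow_one, pow_two]; exact hz)) ?_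
    refine Subgroup.zpowers_le.2 (Subgroup.mem_normalizer_iff.2 fun a => ?_)
    have hfix : ∀ b ∈ P, z * b * z⁻¹ = b := fun b hb => by
      rw [← Subgroup.mem_centralizer_singleton_iff.1 (hPc hb), mul_inv_cancel_right]
    refine ⟨fun ha => by rw [hfix a ha]; exact ha, fun ha => ?_⟩
    have h1 := hfix _ ha
    have : z * a * z⁻¹ = a := by
      calc z * a * z⁻¹ = z⁻¹ * (z * (z * a * z⁻¹) * z⁻¹) * z := by group
        _ = z⁻¹ * (z * a * z⁻¹) * z := by rw [h1]
        _ = a := by group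
    rwa [this] at ha
  have hQM : P ⊔ Subgroup.zpowers z ≤ M := sup_le (sup_le (Subgroup.zpowers_le.2 hg0) (Subgroup.zpowers_le.2 hvM))
    (Subgroup.zpowers_le.2 hzM)
  have hQtw := h.two_group_le hin hQ hQM hx'' (by
    rw [show x'' = z * v by rw [hv, ← mul_assoc, hz, one_mul]]
    exact Subgroup.mul_mem _ (Subgroup.mem_sup_right (Subgroup.mem_zpowers z))
      (Subgroup.mem_sup_left (Subgroup.mem_sup_right (Subgroup.mem_zpowers v))))
  have hg0tw : g0 ∈ tensorWreathStandard (2 * n + 2) (s + 1) F :=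
    hQtw (Subgroup.mem_sup_left (Subgroup.mem_sup_left (Subgroup.mem_zpowers g0)))
  set hh := c⁻¹ * k with hhdef
  have hr : v * g0 = hh * x * hh⁻¹ := by
    rw [hhdef, show c⁻¹ * k * x * (c⁻¹ * k)⁻¹ = c⁻¹ * y * c by rw [hydef]; group, ← hconj]; group
  have hhM : hh ∈ M := M.mul_mem (M.inv_mem hcM) hk
  have hrroot := h.cls hx hhM (hr ▸ mul_mem hvtw hg0tw)
  have hhz : hh * z = z * hh :=
    ((show Commute z c from hzc).inv_right.symm.mul_left (show Commute k z from hkz)).eq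
  refine ⟨hh, hhM, h.fusion hin hx hhM hrroot, hhz, fun hne => ?_⟩
  set r := hh * x * hh⁻¹ with hrdef
  set m := 2 ^ (e - 1) with hn
  have h1 : Commute z r := ((show Commute z hh from hhz.symm).mul_right hzx).mul_right (show Commute z hh from hhz.symm).inv_right
  have hcm : Commute z (x'' * r) := (show Commute z x'' from hzx'').mul_right h1
  have hg0eq : g0 = z * (x'' * r) := by
    rw [← mul_assoc, ← hv, ← hr, ← mul_assoc, hvv, one_mul]
  have hpow : g0 ^ m = z ^ m * (x'' * r) ^ m := by rw [hg0eq, hcm.mul_pow]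
  have hgn : g0 ^ m * g0 ^ m = 1 := by
    rw [← pow_add, hn, ← two_mul, ← pow_succ', Nat.sub_add_cancel he, ← hord, pow_orderOf_eq_one]
  have hgn1 : g0 ^ m ≠ 1 := fun hcon => by
    have := orderOf_dvd_of_pow_eq_one hcon
    rw [hord, hn, Nat.pow_dvd_pow_iff_le_right (by norm_num)] at this
    omega
  have hzn : z ^ m * z ^ m = 1 := by rw [← (Commute.refl z).mul_pow, hz, one_pow]
  have hcsq : (x'' * r) ^ m * (x'' * r) ^ m = 1 := by
    rw [hpow, (hcm.pow_pow m m).symm.mul_mul_mul_comm, hzn, one_mul] at hgn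
    exact hgn
  have hcne : (x'' * r) ^ m ≠ 1 := fun hcon => by
    rcases Nat.eq_or_lt_of_le he with he1 | he1
    · subst he1
      rw [hn, Nat.sub_self, pow_zero, pow_one] at hcon
      exact hne (by
        calc r = x'' * x'' * r := by rw [hx''x'', one_mul]
          _ = x'' * (x'' * r) := by rw [mul_assoc]
          _ = x'' := by rw [hcon, mul_one])
    · refine hgn1 ?_
      rw [hpow, hcon, mul_one, hn, show e - 1 = (e - 2) + 1 by omega, pow_succ', pow_mul, pow_two, hz, one_pow]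
  refine ⟨m, hcsq, hcne, ?_⟩
  have hyg : Commute y (g0 ^ m) := (show Commute (g0 ^ m) y from hcomm).symm
  have hyz : Commute y (z ^ m) := (show Commute y z from hzy.symm).pow_right m
  have := hyz.inv_right.mul_right hyg
  rwa [hpow, inv_mul_cancel_left] at this

/-- the centraliser of an involution of one factor -/
theorem SCtx.single_two (h : SCtx M) (hin : InnerS n s F) (h2 : (2 : F) = 0) (hn : 2 ≤ n)
    {k : GL (Fin (s + 1) → Ix n) F} (hk : k ∈ M) {i : Fin (s + 1)} {C : GL (Ix n) F}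
    (hCU : C ∈ u1 n F) (hC : C * C = 1) (hC1 : C ≠ 1) (hc : k * sl i C = sl i C * k) :
    k ∈ tensorWreathStandard (2 * n + 2) (s + 1) F := by
  classical
  by_cases hs : s = 0
  · subst hs; exact tw_of_one (by omega) k
  by_contra hktw
  haveI : Nontrivial (Fin (s + 1)) := Fin.nontrivial_iff_two_le.2 (by omega)
  haveI : Nonempty (Ix n) := ⟨0⟩
  obtain ⟨j, hji⟩ := exists_ne i
  have hneg := neg_eq_of_two h2
  -- the nilpotent part
  set N := (C : Matrix (Ix n) (Ix n) F) - 1 with hN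
  have hCe : (C : Matrix (Ix n) (Ix n) F) = 1 + N := by rw [hN]; abel
  have hNN : N * N = 0 := by
    rw [hN, sub_mul, mul_sub, one_mul, mul_one, ← Units.val_mul, hC, Units.val_one,
      show (1 : Matrix (Ix n) (Ix n) F) - C - (C - 1) =
        (2 : F) • (1 - (C : Matrix (Ix n) (Ix n) F)) by rw [two_smul]; abel, h2, zero_smul]
  have hCd : (C : Matrix (Ix n) (Ix n) F).det = 1 := eq_one_of_mul_self h2 (by
    rw [← Matrix.det_mul, ← Units.val_mul, hC, Units.val_one, Matrix.det_one])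
  have hNa : adj (e1 n F) (s1 n) N = N := by
    rw [adj_of_one_add hCU hCe hNN]
    ext x y
    exact hneg _
  obtain ⟨f, hf⟩ : ∃ f, N *ᵥ f ≠ 0 := by
    by_contra hcon
    push Not at hcon
    refine hC1 (Units.ext (sub_eq_zero.1 (Matrix.ext_iff_mulVec.2 fun v => ?_)))
    rw [zero_mulVec]; exact hcon v
  set c := N *ᵥ f with hcdef
  have hdc : dual (e1 n F) (s1 n) c = dual (e1 n F) (s1 n) f ᵥ* N := by rw [hcdef, dual_mulVec sg1, hNa]
  have hdcN : dual (e1 n F) (s1 n) c ᵥ* N = 0 := by rw [hdc, vecMul_vecMul, hNN, vecMul_zero]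
  have hciso : dual (e1 n F) (s1 n) c ⬝ᵥ c = 0 := by
    rw [hcdef, dual_mulVec sg1, hNa, ← dotProduct_mulVec, mulVec_mulVec, hNN, zero_mulVec, dotProduct_zero]
  set τ := utv c hciso 1 with hτ
  have hz0 : ∀ w : Ix n → F, vecMulVec w (0 : Ix n → F) = 0 := fun w => by ext; simp [vecMulVec_apply]
  have hCτ : C * τ = τ * C := Units.ext (by
    have ee1 : N * vecMulVec c (dual (e1 n F) (s1 n) c) = 0 := by
      rw [mul_vecMulVec, hcdef, mulVec_mulVec, hNN, zero_mulVec]; ext; simp [vecMulVec_apply]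
    have e2 : vecMulVec c (dual (e1 n F) (s1 n) c) * N = 0 := by rw [vecMulVec_mul, hdcN, hz0]
    rw [Units.val_mul, Units.val_mul, hτ, utv_coe, one_smul, hCe]
    simp only [add_mul, mul_add, one_mul, mul_one, ee1, e2, add_zero]
    abel)
  have hτr : IsSRoot (sl i τ : GL (Fin (s + 1) → Ix n) F) := ⟨i, c, hciso, 1, hf, one_ne_zero, rfl⟩
  have hzM : sl i C ∈ M := h.base.sl_mem i hCU
  set y := k * sl i τ * k⁻¹ with hy
  have hyM : y ∈ M := M.mul_mem (M.mul_mem hk (hτr.mem h.base)) (M.inv_mem hk)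
  -- the elements of the first factor which occur
  let 𝒜 : Subgroup (GL (Ix n) F) :=
  { carrier := {a | ((a : Matrix (Ix n) (Ix n) F) - 1) * N = 0 ∧
      ∃ Q, (a : Matrix (Ix n) (Ix n) F) - 1 = N * Q}
    one_mem' := ⟨by rw [Units.val_one, sub_self, zero_mul], 0, by rw [Units.val_one, sub_self, mul_zero]⟩
    mul_mem' := by
      rintro a a' ⟨ha, Q, hQ⟩ ⟨ha', Q', hQ'⟩
      have e : ((a * a' : GL (Ix n) F) : Matrix (Ix n) (Ix n) F) - 1 =
          N * (Q + Q') := by
        have e0 : ((a : Matrix (Ix n) (Ix n) F) - 1) * ((a' : Matrix (Ix n) (Ix n) F) - 1) = 0 := by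
          rw [hQ', ← mul_assoc, ha, zero_mul]
        rw [mul_add, ← hQ, ← hQ', Units.val_mul, ← sub_eq_zero, ← e0]
        noncomm_ring
      refine ⟨?_, _, e⟩
      rw [e, mul_add, add_mul, ← hQ, ← hQ', ha, ha', add_zero]
    inv_mem' := by
      rintro a ⟨ha, Q, hQ⟩
      have hsq : ((a : Matrix (Ix n) (Ix n) F) - 1) * ((a : Matrix (Ix n) (Ix n) F) - 1) = 0 := by
        conv_lhs => arg 2; rw [hQ]
        rw [← mul_assoc, ha, zero_mul]
      rw [Set.mem_setOf_eq, inv_one_add (show (a : Matrix (Ix n) (Ix n) F) = 1 + ((a : Matrix _ _ F) - 1) by abel) hsq]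
      exact ⟨by rw [sub_sub_cancel_left, neg_mul, ha, neg_zero], -Q, by rw [sub_sub_cancel_left, hQ, mul_neg]⟩ }
  have h𝒜 : ∀ a ∈ 𝒜, ∀ a' ∈ 𝒜, Commute a a' := by
    rintro a ⟨ha, Q, hQ⟩ a' ⟨ha', Q', hQ'⟩
    refine Units.ext ?_
    have ee1 : ((a : Matrix (Ix n) (Ix n) F) - 1) * ((a' : Matrix (Ix n) (Ix n) F) - 1) = 0 := by
      rw [hQ', ← mul_assoc, ha, zero_mul]
    have e2 : ((a' : Matrix (Ix n) (Ix n) F) - 1) * ((a : Matrix (Ix n) (Ix n) F) - 1) = 0 := by
      rw [hQ, ← mul_assoc, ha', zero_mul]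
    have e3 := ee1.trans e2.symm
    simp only [sub_mul, mul_sub, one_mul, mul_one] at e3
    rw [Units.val_mul, Units.val_mul]
    linear_combination (norm := abel) e3
  let P : Subgroup (GL (Ix n) F) :=
  { carrier := {b | ∃ a ∈ 𝒜, Commute y (sl i a * sl j b)}
    one_mem' := ⟨1, one_mem _, by rw [sl_one, sl_one, one_mul]; exact Commute.one_right y⟩
    mul_mem' := by
      rintro b b' ⟨a, ha, hab⟩ ⟨a', ha', hab'⟩
      refine ⟨a * a', mul_mem ha ha', ?_⟩
      have e : sl i (a * a') * sl j (b * b') = sl i a * sl j b * (sl i a' * sl j b') := by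
        rw [← sl_mul, ← sl_mul]
        simp only [mul_assoc]
        rw [← mul_assoc (sl i a'), sl_comm hji.symm, mul_assoc]
      rw [e]; exact hab.mul_right hab'
    inv_mem' := by
      rintro b ⟨a, ha, hab⟩
      refine ⟨a⁻¹, inv_mem ha, ?_⟩
      have e : sl i a⁻¹ * sl j b⁻¹ = (sl i a * sl j b)⁻¹ := by
        rw [sl_comm hji.symm a b, _root_.mul_inv_rev, sl_inv, sl_inv]
      rw [e]; exact hab.inv_right }
  have hP : ∀ (u : Ix n → F) (hu : dual (e1 n F) (s1 n) u ⬝ᵥ u = 0) (d : F), utv u hu d ∈ P := by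
    intro u hu d
    by_cases h0 : u = 0 ∨ d = 0
    · have : utv u hu d = 1 := Units.ext (by
        rw [utv_coe, Units.val_one]
        rcases h0 with e | e
        · subst e; simp
        · rw [e, zero_smul, add_zero])
      rw [this]; exact one_mem P
    push Not at h0
    set b := utv u hu d with hb
    have hbt : IsTv b := utv_isTv hu h0.1 h0.2
    have hx'' : IsSRoot (sl j b : GL (Fin (s + 1) → Ix n) F) := ⟨j, u, hu, d, h0.1, h0.2, rfl⟩
    have hnr : ¬ IsSRoot (sl i C * sl j b : GL (Fin (s + 1) → Ix n) F) := fun hroot => by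
      obtain ⟨l, D, hD, hl⟩ := hroot.isRoot.exists_tv
      rw [sl, sl, sl, pureGL_mul] at hl
      have hsq : ∀ (p : Fin (s + 1)) {X : GL (Ix n) F}, X * X = 1 → ∀ q,
          (Pi.mulSingle p X : Fin (s + 1) → GL (Ix n) F) q * (Pi.mulSingle p X : Fin (s + 1) → GL (Ix n) F) q = 1 :=
        fun p X hX q => by
          rcases eq_or_ne q p with rfl | hq
          · simpa using hX
          · simp [Pi.mulSingle_eq_of_ne hq]
      have he := pureGL_inj (by omega) h2 (fun q => by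
        rcases eq_or_ne q i with rfl | hq
        · simp [Pi.mulSingle_eq_of_ne hji.symm, hC]
        · simpa [Pi.mulSingle_eq_of_ne hq] using hsq j (hbt.sq h2) q) (hsq l (hD.sq h2)) hl
      by_cases hli : i = l
      · subst hli
        have e := he j
        simp [Pi.mulSingle_eq_of_ne hji] at e
        exact hbt.ne_one e
      · have e := he i
        simp [Pi.mulSingle_eq_of_ne hji.symm, Pi.mulSingle_eq_of_ne hli] at e
        exact hC1 e
    rcases h.key hin h2 (z := sl i C) (by rw [sl_mul, hC, sl_one]) hzM (sl_mem_tw i C) hτr hx''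
      (by rw [sl_mul, sl_mul, hCτ]) (sl_comm hji.symm C b) hnr hk hc with
      hk' | ⟨hh, -, hhtw, hhz, hstep⟩
    · exact absurd hk' hktw
    obtain ⟨π, H, rfl⟩ := tw_shape hhtw
    rw [sl] at hhz
    have hπ := TensorPower.comm_pure (by omega) h2 (A := Pi.mulSingle i C) (fun q => by
      rcases eq_or_ne q i with rfl | hq
      · simp [hC]
      · simp [Pi.mulSingle_eq_of_ne hq]) hhz i
    have hπi : π i = i := by
      by_contra hne
      rw [Pi.mulSingle_eq_of_ne hne, Pi.mulSingle_eq_same, eq_comm] at hπ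
      exact hC1 (conj_eq_one_iff.1 hπ)
    rw [hπi, Pi.mulSingle_eq_same] at hπ
    rw [conj_sl, hπi] at hstep
    set a := H i * τ * (H i)⁻¹ with ha
    have hat : IsTv a := (utv_isTv hciso hf one_ne_zero).conj _
    have hne : sl i a ≠ sl j b := sl_ne hji.symm (by omega) h2 (hat.sq h2) (hbt.sq h2) hat.ne_one
    obtain ⟨m, hsq, hm1, hcy⟩ := hstep hne
    have ha𝒜 : a ∈ 𝒜 := by
      have hHN : cj (H i) N = N := by
        rw [hN, cj_sub, cj_one, cj_coe, ← hπ]
      have e : (a : Matrix (Ix n) (Ix n) F) - 1 = cj (H i) (vecMulVec c (dual (e1 n F) (s1 n) c)) := by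
        rw [ha, ← cj_coe, hτ, utv_coe, one_smul, cj_add, cj_one, add_sub_cancel_left]
      refine ⟨?_, cj (H i) (vecMulVec f (dual (e1 n F) (s1 n) c)), ?_⟩
      · rw [e]
        conv_lhs => arg 2; rw [← hHN]
        rw [← cj_mul, vecMulVec_mul, hdcN, hz0, cj_zero]
      · rw [e]
        conv_rhs => arg 1; rw [← hHN]
        rw [← cj_mul, mul_vecMulVec]
    refine ⟨a, ha𝒜, ?_⟩
    have hx2 : (sl j b * sl i a) * (sl j b * sl i a) = 1 := by
      calc sl j b * sl i a * (sl j b * sl i a)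
          = sl j b * (sl i a * sl j b) * sl i a := by group
        _ = sl j b * (sl j b * sl i a) * sl i a := by rw [sl_comm hji.symm]
        _ = (sl j b * sl j b) * (sl i a * sl i a) := by group
        _ = 1 := by rw [sl_mul, sl_mul, hat.sq h2, hbt.sq h2, sl_one, sl_one, one_mul]
    rcases Nat.even_or_odd m with ⟨q, rfl⟩ | ⟨q, rfl⟩
    · exact absurd (by rw [← two_mul, pow_mul, pow_two, hx2, one_pow]) hm1
    · rw [pow_succ, pow_mul, pow_two, hx2, one_pow, one_mul] at hcy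
      rw [sl_comm hji.symm]
      exact hcy
  have hall : u1 n F ≤ P := u1_le_of_utv fun u c => hP u _ c
  have hcm : ∀ {g g' : GL (Ix n) F}, g ∈ u1 n F → g' ∈ u1 n F → Commute y (sl j (g * g' * g⁻¹ * g'⁻¹)) := by
    intro g g' hg hg'
    obtain ⟨a1, ha1, hy1⟩ := hall hg
    obtain ⟨a2, ha2, hy2⟩ := hall hg'
    have h3 := (((hy1.mul_right hy2).mul_right hy1.inv_right).mul_right hy2.inv_right)
    have hcA : sl i a1 * sl i a2 = sl (t := s + 1) i a2 * sl i a1 := by rw [sl_mul, sl_mul, (h𝒜 a1 ha1 a2 ha2).eq]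
    have c1 : Commute (sl i a1) (sl j g) := sl_comm hji.symm _ _
    have c2 : Commute (sl i a1) (sl j g') := sl_comm hji.symm _ _
    have c3 : Commute (sl i a2) (sl j g) := sl_comm hji.symm _ _
    have c4 : Commute (sl i a2) (sl j g') := sl_comm hji.symm _ _
    have e : sl i a1 * sl j g * (sl i a2 * sl j g') * (sl i a1 * sl j g)⁻¹ * (sl i a2 * sl j g')⁻¹ =
        sl j (g * g' * g⁻¹ * g'⁻¹) := by
      rw [← sl_mul, ← sl_mul, ← sl_mul, sl_inv, sl_inv,
        show sl i a1 * sl j g * (sl i a2 * sl j g') = sl i a1 * sl i a2 * (sl j g * sl j g') by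
          simp only [mul_assoc]; rw [← mul_assoc (sl j g), ← c3.eq, mul_assoc],
        _root_.mul_inv_rev, _root_.mul_inv_rev,
        show sl i a1 * sl i a2 * (sl j g * sl j g') * ((sl j g)⁻¹ * (sl i a1)⁻¹) * ((sl j g')⁻¹ * (sl i a2)⁻¹) =
          sl i a1 * sl i a2 * (sl j g * sl j g' * (sl j g)⁻¹) * ((sl i a1)⁻¹ * (sl j g')⁻¹) * (sl i a2)⁻¹ by group,
        c2.inv_inv.eq,
        show sl i a1 * sl i a2 * (sl j g * sl j g' * (sl j g)⁻¹) * ((sl j g')⁻¹ * (sl i a1)⁻¹) * (sl i a2)⁻¹ =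
          sl i a1 * sl i a2 * (sl j g * sl j g' * (sl j g)⁻¹ * (sl j g')⁻¹) * (sl i a2 * sl i a1)⁻¹ by group,
        ← hcA,
        ((((c1.mul_right c2).mul_right c1.inv_right).mul_right c2.inv_right).mul_left
          (((c3.mul_right c4).mul_right c3.inv_right).mul_right c4.inv_right)).eq, mul_inv_cancel_right]
    rwa [e] at h3
  obtain ⟨b, b', hb, hb', hprod⟩ := root_three_comm (F := F) h2 hn
  have hcr : Commute y (sl j (rt n 1)) := by
    rw [← hprod, ← sl_mul, ← sl_mul]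
    exact ((hcm (hb 0) (hb' 0)).mul_right (hcm (hb 1) (hb' 1))).mul_right (hcm (hb 2) (hb' 2))
  have hroot : IsSRoot (sl j (rt n 1) : GL (Fin (s + 1) → Ix n) F) :=
    ⟨j, Pi.single 0 1, e0_iso, -1, by simp, neg_ne_zero.2 one_ne_zero, rfl⟩
  have hyW := h.root_centraliser hin hroot hyM hcr.eq
  exact hktw (h.fusion hin hτr hk (h.cls hτr hk hyW))

end CfsgLib.Perm.Trans.TensorPowerSp
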